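import Mathlib
import Cfsg.Agent.Nodes.NormalForm
import Cfsg.Agent.KFacts.RgdDiag
import Cfsg.Agent.Nodes.RGDLib
import Cfsg.Agent.Nodes.TypeD
import Cfsg.Agent.LieRecognition.BNCox
import Cfsg.Agent.KFacts.RgdOpp
import Cfsg.Agent.KFacts.RgdAut
import Cfsg.Agent.KFacts.RgdFixU
import Cfsg.Agent.Lib.FrattiniBasic
import Cfsg.Agent.Nodes.TypeC
import Cfsg.Agent.Nodes.RGDChev

section


/-!
# EH3, Lie rows in characteristic 2: the interface (helper227; blueprints/OMEGA-EH3-KF3-helper227.md)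

`Row cs h T n X ρ b a D X0 w` : the group `Y` has a root group datum `(T, n, X)` of characteristic 2 which generates it,
acts through `ρ` on the `ZMod 2`-space `V`; `a ≠ 0` is fixed by the Borel subgroup, `X0 ≤ U` is the elementary abelian
group of the configuration (`Cfg` of helper888 restricted to `Y`).

* `Mv ρ n a` : the nodes moving `a`;
* `dl ρ x v = ρ x v + v`.
-/

set_option autoImplicit false

namespace Cfsg.Agent.Omega.EH3.Kf.Base

open CoxeterSystem Cfsg.Agent.ChevalleyStructure.CoxeterGeom Cfsg.Agent.Tits.Roots Cfsg.Agent.Tits.Core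
  Cfsg.Agent.Tits.RootComb Cfsg.Agent.Nodes.Comb Cfsg.Agent.Nodes.Reps Cfsg.Agent.Nodes.BNOf
  Cfsg.Agent.Nodes.StabComb Cfsg.Agent.Nodes.Bruhat Cfsg.Agent.Nodes.LeviDec

/-- `x - 1` on `V` (characteristic 2) -/
def dl {Y V : Type*} [Group Y] [AddCommGroup V] [Module (ZMod 2) V] (ρ : Y →* (V ≃ₗ[ZMod 2] V)) (x : Y) (v : V) : V :=
  ρ x v + v

/-- The nodes moving `a`. -/
def Mv {I Y V : Type*} [Group Y] [AddCommGroup V] [Module (ZMod 2) V] (ρ : Y →* (V ≃ₗ[ZMod 2] V)) (n : I → Y) (a : V) :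
    Set I := {i | ρ (n i) a ≠ a}

/-- **The interface for the Lie rows.** -/
structure Row {I W Y V : Type*} [Fintype I] [DecidableEq I] [Group W] [Group Y] [AddCommGroup V]
    [Module (ZMod 2) V] {M : CoxeterMatrix I} (cs : CoxeterSystem M W) {A : I → I → ℤ} (h : IsCartan M A)
    (T : Subgroup Y) (n : I → Y) (X : (I → ℤ) → Subgroup Y) (ρ : Y →* (V ≃ₗ[ZMod 2] V))
    (b : LinearMap.BilinForm (ZMod 2) V) (a : V) (D : Submodule (ZMod 2) V) (X0 : Subgroup Y) (w : ℕ) : Prop where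
  rgd : RGD cs h 2 T n X
  gen : GG cs h T X = ⊤
  six : 6 ≤ w
  card_V : Nat.card V = 2 ^ (2 * w)
  card_D : Nat.card D = 2 ^ w
  card_X : Nat.card X0 = 2 ^ (w - 1)
  b_self : ∀ v, b v v = 0
  nondeg : ∀ v, (∀ u, b v u = 0) → v = 0
  b_inv : ∀ g u v, b (ρ g u) (ρ g v) = b u v
  span : Submodule.span (ZMod 2) (Set.range fun g => ρ g a) = ⊤
  a_ne : a ≠ 0
  a_mem : a ∈ D
  b_D : ∀ u ∈ D, ∀ v ∈ D, b u v = 0
  D_inv : ∀ g, ρ g a = a → ∀ d ∈ D, ρ g d ∈ D
  /-- the Borel subgroup fixes `a` -/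
  fixB : ∀ g ∈ RGD.B cs h T X, ρ g a = a
  le : X0 ≤ RGD.Sup X (RGD.Pos cs h)
  sq : ∀ x ∈ X0, x * x = 1
  norm : ∀ g, ρ g a = a → ∀ x ∈ X0, g * x * g⁻¹ ∈ X0
  /-- (X1) -/
  fix : ∀ v, (∀ x ∈ X0, ρ x v = v) → v = 0 ∨ v = a
  /-- (X2) -/
  semi : ∀ x ∈ X0, ∀ v, b a v = 1 → ρ x v = v → x = 1
  /-- (X3) -/
  one : ∀ x ∈ X0, ∀ v, b a (dl ρ x v) = 0
  two : ∀ x ∈ X0, ∀ v, b a v = 0 → dl ρ x v ∈ D
  three : ∀ x ∈ X0, ∀ d ∈ D, dl ρ x d = 0 ∨ dl ρ x d = a
  /-- (X4) -/
  tri : ∀ x ∈ X0, x ≠ 1 → ∀ c, b a c = 1 → ∃ y ∈ X0, ∃ t ∈ X0, b (dl ρ y (dl ρ x c)) (dl ρ t c) ≠ 0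

end Cfsg.Agent.Omega.EH3.Kf.Base

end

section


/-!
# EH3, Lie rows in characteristic 2: the output (helper227; consumer helper635)

`OutAt ρ a X0 cs h q i` : a normal subgroup `L` of `H` containing all elements of odd order has a root group
datum of characteristic 2 over `cs`, `X0` is the product of the root groups of the positive roots with positive
coefficient at `i`, `|X_j| = q j`, all minimal parabolic subgroups except the one of the node `i` fix `a`, and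
`C_V(U) = {0, a}`.
-/

set_option autoImplicit false

namespace Cfsg.Agent.Omega.EH3.Kf.Out

open CoxeterSystem Cfsg.Agent.ChevalleyStructure.CoxeterGeom Cfsg.Agent.Tits.Roots Cfsg.Agent.Tits.Core
  Cfsg.Agent.Tits.RootComb Cfsg.Agent.Nodes.Comb Cfsg.Agent.Nodes.Reps Cfsg.Agent.Nodes.BNOf
  Cfsg.Agent.Nodes.StabComb Cfsg.Agent.Nodes.Bruhat Cfsg.Agent.Nodes.LeviDec

/-- **The output of the Lie rows.** -/
def OutAt {I W H V : Type*} [Fintype I] [DecidableEq I] [Group W] [Group H] [AddCommGroup V]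
    [Module (ZMod 2) V] (ρ : H →* (V ≃ₗ[ZMod 2] V)) (a : V) (X0 : Subgroup H)
    {M : CoxeterMatrix I} (cs : CoxeterSystem M W) {A : I → I → ℤ} (h : IsCartan M A) (q : I → ℕ) (i : I) : Prop :=
  ∃ (L : Subgroup H) (T : Subgroup L) (n : I → L) (X : (I → ℤ) → Subgroup L),
    L.Normal ∧ (∀ g : H, Odd (orderOf g) → g ∈ L) ∧ X0 = (VJ cs h X {i}ᶜ).map L.subtype ∧
    RGD cs h 2 T n X ∧ GG cs h T X = ⊤ ∧
    (∀ j, j ≠ i → ∀ g ∈ PJ cs h T X {j}, ρ g a = a) ∧ (∀ j, Nat.card (X (sr j)) = q j) ∧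
    (∀ v, (∀ g ∈ RGD.Sup X (RGD.Pos cs h), ρ (g : H) v = v) → v = 0 ∨ v = a)

end Cfsg.Agent.Omega.EH3.Kf.Out

end

section


/-!
# EH3, Lie rows in characteristic 2: LEMMA ODD (helper227)

`L` normal in the finite group `H`, `C_H(L) = 1`, a root group datum on `L` with `|X_i| ∈ {2, 4}` and diagram
symmetries of order at most two. Then the elements of odd order of `H` lie in a normal subgroup `Y ≥ L` with a root
group datum with the same root groups (and a larger torus).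

* `eq_one_of_fix` : a frame automorphism (`Diag T X β 1`) trivial on the groups `X_i` is trivial;
* `rgd_tor` : enlarging the torus;
* `exists_diag` : `H = L H₁`, `H₁` = the frame group;
* `outAt` : the output `OutAt`.
-/

set_option autoImplicit false
set_option linter.unusedSectionVars false

namespace Cfsg.Agent.Omega.EH3.Kf.Odd

open CoxeterSystem Cfsg.Agent.ChevalleyStructure.CoxeterGeom Cfsg.Agent.Tits.Roots Cfsg.Agent.Tits.Core
  Cfsg.Agent.Tits.RootComb Cfsg.Agent.Nodes.Comb Cfsg.Agent.Nodes.Reps Cfsg.Agent.Nodes.BNOf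
  Cfsg.Agent.Nodes.StabComb Cfsg.Agent.Nodes.Bruhat Cfsg.Agent.Nodes.LeviDec Cfsg.Agent.Nodes.OppDec
  Cfsg.Agent.Nodes.NormalForm
  Cfsg.Agent.KFacts.RgdAut Cfsg.Agent.KFacts.RgdDiag Cfsg.Agent.Omega.EH3.Kf.Out

variable {I W Y : Type*} [Fintype I] [DecidableEq I] [Group W] [Group Y] {M : CoxeterMatrix I}
  {cs : CoxeterSystem M W} {A : I → I → ℤ} {h : IsCartan M A} {p : ℕ} {T : Subgroup Y} {n : I → Y}
  {X : (I → ℤ) → Subgroup Y}

section

variable (R : RGD cs h p T n X)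

include R

/-- A frame automorphism trivial on the groups `X_i` is trivial. -/
theorem eq_one_of_fix [Finite W] (hG1 : RGD.Sup X {x | IsRoot cs h x} = ⊤) {β : MulAut Y} (D : Diag T X β 1)
    (hfix : ∀ i, ∀ x ∈ X (sr i), β x = x) : β = 1 := by
  -- the fixed subgroup
  let K0 : Subgroup Y :=
    { carrier := {x | β x = x}
      one_mem' := map_one β
      mul_mem' := by
        intro x y (hx : β x = x) (hy : β y = y)
        show β (x * y) = x * y
        rw [map_mul, hx, hy]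
      inv_mem' := by
        intro x (hx : β x = x)
        show β x⁻¹ = x⁻¹
        rw [map_inv, hx] }
  have hK0 : ∀ x, x ∈ K0 ↔ β x = x := fun x => Iff.rfl
  have hβn : ∀ i, (n i)⁻¹ * β (n i) ∈ T := fun i => (rp_simple cs R.nsys i).unique (D.rp (R := R) i)
  have hn' : ∀ i, ∃ k ∈ K0, Rp cs R.nsys (cs.simple i) k := by
    intro i
    obtain ⟨u, hu, hu1⟩ := exists_ne_one R i
    have h1 : n i * u * (n i)⁻¹ ∈ X (-sr i) := by
      have := R.conj_mem (rp_simple cs R.nsys i) (isRoot_sr cs h i) hu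
      rwa [rep_simple_sr] at this
    have h2 : n i * u * (n i)⁻¹ ≠ 1 := fun h3 => hu1 (mul_eq_left.1 (mul_inv_eq_one.1 h3))
    obtain ⟨a, ha, t, ht, b, hb, e⟩ := R.rk1 i _ h1 h2
    set v := n i * u * (n i)⁻¹ with hv
    have hk : Rp cs R.nsys (cs.simple i) (t * n i) := by
      have := (rp_of_mem (cs := cs) (hN := R.nsys) ht).mul (rp_simple cs R.nsys i)
      rwa [one_mul] at this
    have hβa := hfix i a ha
    have hβb := hfix i b hb
    -- `β v = v`
    have hz : v⁻¹ * β v ∈ X (-sr i) := mul_mem (inv_mem h1) ((D.neg i v).2 h1)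
    have hβk : (t * n i)⁻¹ * β (t * n i) ∈ T := by
      have h3 : Rp cs R.nsys (cs.simple i) (β (t * n i)) := by
        have := (rp_of_mem (cs := cs) (hN := R.nsys) ((D.tor t).2 ht)).mul (D.rp (R := R) i)
        rw [map_mul]
        rwa [one_mul] at this
      exact hk.unique h3
    have e1 : v⁻¹ * β v = b⁻¹ * ((t * n i)⁻¹ * β (t * n i)) * b := by
      rw [e, map_mul, map_mul, map_mul, hβa, hβb, map_mul]
      group
    have hbB : b ∈ RGD.B cs h T X := RGD.X_le_B (isRoot_sr cs h i) (sr_nonneg i) hb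
    have h3 : v⁻¹ * β v ∈ RGD.B cs h T X := by
      rw [e1]
      exact mul_mem (mul_mem (inv_mem hbB) (RGD.T_le_B hβk)) hbB
    have h4 : (n i)⁻¹ * (v⁻¹ * β v) * n i ∈ X (sr i) := by
      have := R.conj_mem' (rp_simple cs R.nsys i) (isRoot_sr cs h i).neg hz
      rwa [inv_simple, map_neg, rep_simple_sr, neg_neg] at this
    have h5 : (n i)⁻¹ * (v⁻¹ * β v) * n i = 1 := by
      refine eq_one_of_conj_mem_B R h4 (rp_simple cs R.nsys i) ?_
      have e2 : n i * ((n i)⁻¹ * (v⁻¹ * β v) * n i) * (n i)⁻¹ = v⁻¹ * β v := by group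
      rw [e2]
      exact h3
    have h6 : v⁻¹ * β v = 1 := by
      have e2 : v⁻¹ * β v = n i * ((n i)⁻¹ * (v⁻¹ * β v) * n i) * (n i)⁻¹ := by group
      rw [e2, h5]; group
    have h7 : β v = v := by
      rw [inv_mul_eq_one] at h6
      exact h6.symm
    refine ⟨t * n i, ?_, hk⟩
    have e3 : t * n i = a⁻¹ * v * b⁻¹ := by rw [e]; group
    rw [hK0, e3, map_mul, map_mul, map_inv, map_inv, hβa, hβb, h7]
  have hw : ∀ w : W, ∃ k ∈ K0, Rp cs R.nsys w k := by
    intro w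
    obtain ⟨ω, rfl⟩ := cs.wordProd_surjective w
    induction ω with
    | nil => exact ⟨1, one_mem _, by rw [wordProd_nil]; exact rp_one⟩
    | cons i ω ih =>
      obtain ⟨k, hk, hk'⟩ := ih
      obtain ⟨k', hk1, hk2⟩ := hn' i
      exact ⟨k' * k, mul_mem hk1 hk, by rw [wordProd_cons]; exact hk2.mul hk'⟩
  have htop : K0 = ⊤ := by
    rw [eq_top_iff, ← hG1]
    refine RGD.Sup_le ?_
    rintro _ ⟨w, i, rfl⟩ x hx
    obtain ⟨k, hk, hk'⟩ := hw w
    have h1 : k⁻¹ * x * k ∈ X (sr i) := by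
      have := R.conj_mem' hk' ((isRoot_sr cs h i).act w) hx
      rwa [rep_inv_apply] at this
    have h2 : x = k * (k⁻¹ * x * k) * k⁻¹ := by group
    rw [h2]
    exact mul_mem (mul_mem hk (hfix i _ h1)) (inv_mem hk)
  ext x
  have : x ∈ K0 := by rw [htop]; exact Subgroup.mem_top x
  exact this

/-- Enlarging the torus. -/
theorem rgd_tor {T2 : Subgroup Y} (hT : T ≤ T2) (hn : ∀ i, n i ∈ Subgroup.normalizer (T2 : Set Y))
    (htor : ∀ x, IsRoot cs h x → ∀ t ∈ T2, cj t (X x) = X x) (hcop : (Nat.card T2).Coprime p) :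
    RGD cs h p T2 n X where
  nsys := ⟨hn, fun i j => hT (R.nsys.rel i j)⟩
  conj := R.conj
  tor := htor
  comm := R.comm
  rk1 i u hu hu1 := by
    obtain ⟨a, ha, t, ht, b, hb, e⟩ := R.rk1 i u hu hu1
    exact ⟨a, ha, t, hT ht, b, hb, e⟩
  pgrp := R.pgrp
  notp := R.notp
  tcop := hcop

/-- A frame automorphism with trivial diagram symmetry normalises all root groups. -/
theorem diag_root [Finite W] {β : MulAut Y} (D : Diag T X β 1) {x : I → ℤ} (hx : IsRoot cs h x) {u : Y}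
    (hu : u ∈ X x) : β u ∈ X x := by
  have hw : ∀ w : W, ∃ k, Rp cs R.nsys w k ∧ Rp cs R.nsys w (β k) := by
    intro w
    obtain ⟨ω, rfl⟩ := cs.wordProd_surjective w
    induction ω with
    | nil => exact ⟨1, by rw [wordProd_nil]; exact rp_one, by rw [wordProd_nil, map_one]; exact rp_one⟩
    | cons i ω ih =>
      obtain ⟨k, hk, hk'⟩ := ih
      refine ⟨n i * k, ?_, ?_⟩
      · rw [wordProd_cons]; exact (rp_simple cs R.nsys i).mul hk
      · rw [wordProd_cons, map_mul]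
        exact (D.rp (R := R) i).mul hk'
  obtain ⟨w, i, rfl⟩ := hx
  obtain ⟨k, hk, hk'⟩ := hw w
  have h1 : k⁻¹ * u * k ∈ X (sr i) := by
    have := R.conj_mem' hk ((isRoot_sr cs h i).act w) hu
    rwa [rep_inv_apply] at this
  have h2 : β (k⁻¹ * u * k) ∈ X (sr i) := (D.pos i _).2 h1
  have h3 := R.conj_mem hk' (isRoot_sr cs h i) h2
  rw [map_mul, map_mul, map_inv] at h3
  have e : β k * ((β k)⁻¹ * β u * β k) * (β k)⁻¹ = β u := by group
  rwa [e] at h3

end

/-! ### `H = L H₁` -/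

open scoped Pointwise in
theorem coe_smul_smul {L : Type*} [Group L] {p : ℕ} (l : L) (α : MulAut L) (S : Sylow p L) :
    ((l • (α • S) : Sylow p L) : Subgroup L) = (S : Subgroup L).map (MulAut.conj l * α).toMonoidHom := by
  rw [Sylow.coe_subgroup_smul, Sylow.pointwise_smul_def, ← mul_smul]
  ext x
  rw [Subgroup.mem_map, Subgroup.mem_smul_pointwise_iff_exists]
  rfl

section Frame

variable {H : Type*} [Group H] {L : Subgroup H} [L.Normal] {T : Subgroup L} {n : I → L}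
  {X : (I → ℤ) → Subgroup L}

/-- conjugation on `L` -/
abbrev cn (L : Subgroup H) [L.Normal] (g : H) : MulAut L := MulAut.conjNormal g

theorem cn_apply (g : H) (l : L) : ((cn L g l : L) : H) = g * l * g⁻¹ := MulAut.conjNormal_apply g l

theorem cn_mul (g k : H) : cn L (g * k) = cn L g * cn L k := map_mul _ g k

theorem cn_coe (l : L) : cn L (l : H) = MulAut.conj l := by
  ext x
  rw [cn_apply, MulAut.conj_apply]
  rfl

/-- **The frame argument.** -/
theorem exists_frame' [Finite W] [Finite H] [Fact p.Prime] (R : RGD cs h p T n X) (hG : GG cs h T X = ⊤) (g : H) :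
    ∃ l : L, ∃ σ : Equiv.Perm I, Diag T X (cn L ((l : H) * g)) σ := by
  -- `U` is a Sylow subgroup of `L`
  obtain ⟨S, hS⟩ := (R.isPGroup_Upos (cs := cs) (h := h)).exists_le_sylow
  have hSU : (S : Subgroup L) = RGD.Sup X (RGD.Pos cs h) :=
    eq_U_of_isPGroup R S.isPGroup' hS (by rw [hG]; exact le_top)
  -- the image of `U`
  let S' : Sylow p L := cn L g • S
  obtain ⟨l, hl⟩ := MulAction.exists_smul_eq L S' S
  have h1 : Fix (cn L ((l : H) * g)) (RGD.Sup X (RGD.Pos cs h)) := by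
    rw [fix_iff, cn_mul, cn_coe, ← hSU]
    have h2 : ((l • S' : Sylow p L) : Subgroup L) = S := by rw [hl]
    rw [coe_smul_smul] at h2
    exact h2
  obtain ⟨u, hu, h2, h3, h4, h5, h6⟩ := exists_frame R hG h1
  have e : cn L (((u * l : L) : H) * g) = MulAut.conj u * cn L ((l : H) * g) := by
    rw [Subgroup.coe_mul, mul_assoc, cn_mul, cn_coe]
  rw [← e] at h2 h4
  obtain ⟨σ, hσ⟩ := exists_diag R hG h2 h4
  exact ⟨u * l, σ, hσ⟩

end Frame

/-! ### small permutations -/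

theorem perm_cube {α : Type*} [Fintype α] [DecidableEq α] (π : Equiv.Perm α) (x0 : α) (hx : π x0 = x0)
    (hs : Equiv.Perm.sign π = 1) (hc : Fintype.card α ≤ 4) : π ^ 3 = 1 := by
  have h1 : π.support.card ≤ 3 := by
    have h2 : π.support ⊆ Finset.univ.erase x0 := by
      intro x hx'
      rw [Finset.mem_erase]
      refine ⟨?_, Finset.mem_univ x⟩
      rintro rfl
      exact (Equiv.Perm.mem_support.1 hx') hx
    have h3 := Finset.card_le_card h2
    rw [Finset.card_erase_of_mem (Finset.mem_univ x0), Finset.card_univ] at h3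
    omega
  have h2 : π.support.card = 0 ∨ π.support.card = 1 ∨ π.support.card = 2 ∨ π.support.card = 3 := by omega
  rcases h2 with h2 | h2 | h2 | h2
  · rw [Equiv.Perm.card_support_eq_zero] at h2
    rw [h2, one_pow]
  · exact absurd h2 (Equiv.Perm.card_support_ne_one π)
  · rw [Equiv.Perm.card_support_eq_two] at h2
    rw [h2.sign_eq] at hs
    exact absurd hs (by decide)
  · rw [card_support_eq_three_iff] at h2
    rw [← h2.orderOf, pow_orderOf_eq_one]

theorem sign_of_odd {α : Type*} [Fintype α] [DecidableEq α] (π : Equiv.Perm α) {m : ℕ} (hm : Odd m) (h : π ^ m = 1) :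
    Equiv.Perm.sign π = 1 := by
  have h1 : (Equiv.Perm.sign π) ^ m = 1 := by rw [← map_pow, h, map_one]
  rcases Int.units_eq_one_or (Equiv.Perm.sign π) with h2 | h2
  · exact h2
  · rw [h2, Odd.neg_one_pow hm] at h1
    exact absurd h1 (by decide)

/-! ### the frame group -/

section Main

variable {H : Type*} [Group H] {L : Subgroup H} [L.Normal] {T : Subgroup L} {n : I → L}
  {X : (I → ℤ) → Subgroup L}

/-- the frame group -/
def H1 (T : Subgroup L) (X : (I → ℤ) → Subgroup L) : Subgroup H where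
  carrier := {g | ∃ σ : Equiv.Perm I, Diag T X (cn L g) σ}
  one_mem' := ⟨1, by rw [show cn L (1 : H) = 1 from map_one _]; exact Diag.one⟩
  mul_mem' := by
    rintro g k ⟨σ, hσ⟩ ⟨τ, hτ⟩
    exact ⟨σ * τ, by rw [cn_mul]; exact hσ.mul hτ⟩
  inv_mem' := by
    rintro g ⟨σ, hσ⟩
    exact ⟨σ⁻¹, by rw [show cn L g⁻¹ = (cn L g)⁻¹ from map_inv _ g]; exact hσ.inv⟩

/-- the pure frame group -/
def N1 (T : Subgroup L) (X : (I → ℤ) → Subgroup L) : Subgroup H where
  carrier := {g | Diag T X (cn L g) 1}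
  one_mem' := by
    show Diag T X (cn L (1 : H)) 1
    rw [show cn L (1 : H) = 1 from map_one _]; exact Diag.one
  mul_mem' := by
    intro g k hg hk
    have := Diag.mul hg hk
    rw [one_mul] at this
    show Diag T X (cn L (g * k)) 1
    rw [cn_mul]
    exact this
  inv_mem' := by
    intro g hg
    have := Diag.inv hg
    rw [inv_one] at this
    show Diag T X (cn L g⁻¹) 1
    rw [show cn L g⁻¹ = (cn L g)⁻¹ from map_inv _ g]
    exact this

theorem mem_N1 {g : H} : g ∈ N1 T X ↔ Diag T X (cn L g) 1 := Iff.rfl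

theorem mem_H1 {g : H} : g ∈ H1 T X ↔ ∃ σ : Equiv.Perm I, Diag T X (cn L g) σ := Iff.rfl

theorem cn_mem (i : I) (g : N1 T X) {x : L} (hx : x ∈ X (sr i)) : cn L (g : H) x ∈ X (sr i) :=
  ((mem_N1.1 g.2).pos i x).2 hx

/-- the action on `X_i` -/
def pa (i : I) : N1 T X →* Equiv.Perm {x : L // x ∈ X (sr i)} :=
  MonoidHom.toHomPerm
    { toFun := fun g x => ⟨cn L (g : H) x.1, cn_mem i g x.2⟩
      map_one' := by
        funext x
        apply Subtype.ext
        apply Subtype.ext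
        show (((cn L ((1 : N1 T X) : H)) x.1 : L) : H) = ((x : L) : H)
        rw [cn_apply]
        simp
      map_mul' := by
        intro g k
        funext x
        apply Subtype.ext
        apply Subtype.ext
        show (((cn L ((g * k : N1 T X) : H)) x.1 : L) : H) = (((cn L (g : H)) ((cn L (k : H)) x.1) : L) : H)
        rw [cn_apply, cn_apply, cn_apply]
        simp only [Subgroup.coe_mul]
        group }

theorem pa_apply (i : I) (g : N1 T X) (x : {x : L // x ∈ X (sr i)}) : ((pa i g x : {x : L // x ∈ X (sr i)}) : L) =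
    cn L (g : H) x.1 := rfl

section

variable [Finite H]

open Classical in
/-- the sign on `X_i` -/
noncomputable def sg (T : Subgroup L) (X : (I → ℤ) → Subgroup L) (i : I) : N1 T X →* ℤˣ :=
  letI : Fintype {x : L // x ∈ X (sr i)} := Fintype.ofFinite _
  Equiv.Perm.sign.comp (pa i)

theorem cube_of_sg (i : I) (hq : Nat.card (X (sr i)) ≤ 4) {g : N1 T X} (hg : sg T X i g = 1) {x : L}
    (hx : x ∈ X (sr i)) : cn L ((g : H) ^ 3) x = x := by
  classical
  let _ : Fintype {x : L // x ∈ X (sr i)} := Fintype.ofFinite _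
  have h1 : (pa i g) ^ 3 = 1 := by
    refine perm_cube _ ⟨1, one_mem _⟩ ?_ ?_ ?_
    · apply Subtype.ext
      rw [pa_apply, map_one]
    · exact hg
    · rw [← Nat.card_eq_fintype_card]
      exact hq
  have h2 : (pa i (g ^ 3)) ⟨x, hx⟩ = ⟨x, hx⟩ := by
    rw [map_pow, h1]; rfl
  have h3 := congrArg Subtype.val h2
  rw [pa_apply] at h3
  exact h3

theorem sg_of_odd (i : I) {g : N1 T X} (hg : Odd (orderOf (g : H))) : sg T X i g = 1 := by
  classical
  let _ : Fintype {x : L // x ∈ X (sr i)} := Fintype.ofFinite _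
  refine sign_of_odd _ hg ?_
  rw [← map_pow]
  have : g ^ orderOf (g : H) = 1 := by
    apply Subtype.ext
    rw [Subgroup.coe_pow, Subgroup.coe_one, pow_orderOf_eq_one]
  rw [this, map_one]

/-- the odd part of the frame group -/
noncomputable def T2 (T : Subgroup L) (X : (I → ℤ) → Subgroup L) : Subgroup H :=
  (⨅ i, (sg T X i).ker).map (N1 T X).subtype

theorem mem_T2 {g : H} : g ∈ T2 T X ↔ ∃ hg : g ∈ N1 T X, ∀ i, sg T X i ⟨g, hg⟩ = 1 := by
  unfold T2
  rw [Subgroup.mem_map]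
  constructor
  · rintro ⟨x, hx, rfl⟩
    refine ⟨x.2, fun i => ?_⟩
    rw [Subgroup.mem_iInf] at hx
    exact MonoidHom.mem_ker.1 (hx i)
  · rintro ⟨hg, h1⟩
    refine ⟨⟨g, hg⟩, ?_, rfl⟩
    rw [Subgroup.mem_iInf]
    exact fun i => MonoidHom.mem_ker.2 (h1 i)

theorem T2_le : T2 T X ≤ N1 T X := by
  intro g hg
  exact (mem_T2.1 hg).1

theorem mem_T2_of_odd {g : H} (hg : g ∈ N1 T X) (ho : Odd (orderOf g)) : g ∈ T2 T X :=
  mem_T2.2 ⟨hg, fun i => sg_of_odd i ho⟩

theorem sq_mem_T2 {g : H} (hg : g ∈ N1 T X) : g ^ 2 ∈ T2 T X := by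
  refine mem_T2.2 ⟨Subgroup.pow_mem _ hg 2, fun i => ?_⟩
  have : (⟨g ^ 2, Subgroup.pow_mem _ hg 2⟩ : N1 T X) = (⟨g, hg⟩ : N1 T X) ^ 2 := rfl
  rw [this, map_pow, Int.units_sq]

variable (R : RGD cs h 2 T n X)

include R

theorem cube_T2 [Finite W] (hG1 : RGD.Sup X {x | IsRoot cs h x} = ⊤) (hC : Subgroup.centralizer (L : Set H) = ⊥)
    (hq : ∀ i, Nat.card (X (sr i)) ≤ 4) {g : H} (hg : g ∈ T2 T X) : g ^ 3 = 1 := by
  obtain ⟨hg1, hg2⟩ := mem_T2.1 hg
  have h1 : cn L (g ^ 3) = 1 := by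
    refine eq_one_of_fix R hG1 ((N1 T X).pow_mem hg1 3) ?_
    intro i x hx
    exact cube_of_sg i (hq i) (hg2 i) hx
  have h2 : g ^ 3 ∈ Subgroup.centralizer (L : Set H) := by
    rw [Subgroup.mem_centralizer_iff]
    intro l hl
    have h3 := cn_apply (L := L) (g ^ 3) ⟨l, hl⟩
    rw [h1] at h3
    have h4 : l = g ^ 3 * l * (g ^ 3)⁻¹ := h3
    rw [eq_mul_inv_iff_mul_eq] at h4
    exact h4
  rw [hC] at h2
  exact Subgroup.mem_bot.1 h2

theorem odd_T2 [Finite W] (hG1 : RGD.Sup X {x | IsRoot cs h x} = ⊤) (hC : Subgroup.centralizer (L : Set H) = ⊥)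
    (hq : ∀ i, Nat.card (X (sr i)) ≤ 4) {g : H} (hg : g ∈ T2 T X) : Odd (orderOf g) := by
  have h1 := orderOf_dvd_of_pow_eq_one (cube_T2 R hG1 hC hq hg)
  exact Odd.of_dvd_nat (by decide) h1

theorem T_le_T2 [Finite W] {t : L} (ht : t ∈ T) : (t : H) ∈ T2 T X := by
  have h0 : (t : H) ∈ N1 T X := by
    rw [mem_N1, cn_coe]
    have key : ∀ x, IsRoot cs h x → ∀ y, MulAut.conj t y ∈ X x ↔ y ∈ X x := by
      intro x hx y
      have h1 := R.tor x hx t ht
      rw [MulAut.conj_apply]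
      constructor
      · intro h2
        rw [← h1] at h2
        exact conj_mem_cj.1 h2
      · intro h2
        rw [← h1]
        exact conj_mem_cj.2 h2
    exact ⟨fun x => by
      rw [MulAut.conj_apply]
      exact ⟨fun h2 => by
        have h3 := T.mul_mem (T.mul_mem (T.inv_mem ht) h2) ht
        have e : t⁻¹ * (t * x * t⁻¹) * t = x := by group
        rwa [e] at h3, fun h2 => T.mul_mem (T.mul_mem ht h2) (T.inv_mem ht)⟩,
      fun i y => key _ (isRoot_sr cs h i) y, fun i y => key _ (isRoot_sr cs h i).neg y⟩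
  refine mem_T2_of_odd h0 ?_
  rw [Subgroup.orderOf_coe]
  have h1 : orderOf t ∣ Nat.card T := by
    have := orderOf_dvd_natCard (⟨t, ht⟩ : T)
    rwa [Subgroup.orderOf_mk] at this
  have h2 : Odd (Nat.card T) := Nat.Coprime.odd_of_right R.tcop
  exact Odd.of_dvd_nat h2 h1

/-- the frame group normalises `T2` -/
theorem H1_norm [Finite W] (hG1 : RGD.Sup X {x | IsRoot cs h x} = ⊤)
    (hC : Subgroup.centralizer (L : Set H) = ⊥)
    (hq : ∀ i, Nat.card (X (sr i)) ≤ 4) {k g : H} (hk : k ∈ H1 T X) (hg : g ∈ T2 T X) : k * g * k⁻¹ ∈ T2 T X := by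
  obtain ⟨σ, hσ⟩ := hk
  refine mem_T2_of_odd ?_ ?_
  · rw [mem_N1, cn_mul, cn_mul, show cn L k⁻¹ = (cn L k)⁻¹ from map_inv _ k]
    have := (hσ.mul (mem_N1.1 (T2_le hg))).mul hσ.inv
    rwa [mul_one, mul_inv_cancel] at this
  · have h1 : orderOf (k * g * k⁻¹) = orderOf g := by
      have := orderOf_injective (MulAut.conj k).toMonoidHom (MulAut.conj k).injective g
      rwa [MulEquiv.coe_toMonoidHom, MulAut.conj_apply] at this
    rw [h1]
    exact odd_T2 R hG1 hC hq hg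

/-- `Y = L T2` -/
noncomputable def YY (T : Subgroup L) (X : (I → ℤ) → Subgroup L) : Subgroup H := L ⊔ T2 T X

omit R in
theorem L_le_YY : L ≤ YY T X := le_sup_left

omit R in
theorem T2_le_YY : T2 T X ≤ YY T X := le_sup_right

theorem YY_normal [Finite W] (hG1 : RGD.Sup X {x | IsRoot cs h x} = ⊤) (hG : GG cs h T X = ⊤)
    (hC : Subgroup.centralizer (L : Set H) = ⊥)
    (hq : ∀ i, Nat.card (X (sr i)) ≤ 4) : (YY T X).Normal := by
  have : Fact (Nat.Prime 2) := ⟨Nat.prime_two⟩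
  constructor
  intro y hy g
  obtain ⟨l, σ, hσ⟩ := exists_frame' R hG g
  set k : H := (l : H) * g with hk
  have hkH : k ∈ H1 T X := ⟨σ, hσ⟩
  have h1 : k * y * k⁻¹ ∈ YY T X := by
    have h2 : YY T X ≤ (YY T X).comap (MulAut.conj k).toMonoidHom := by
      refine sup_le ?_ ?_
      · intro x hx
        rw [Subgroup.mem_comap]
        exact L_le_YY ((inferInstance : L.Normal).conj_mem x hx k)
      · intro x hx
        rw [Subgroup.mem_comap]
        exact T2_le_YY (H1_norm R hG1 hC hq hkH hx)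
    exact h2 hy
  have h2 : g * y * g⁻¹ = (l : H)⁻¹ * (k * y * k⁻¹) * (l : H) := by
    rw [hk]; group
  rw [h2]
  exact mul_mem (mul_mem (inv_mem (L_le_YY l.2)) h1) (L_le_YY l.2)

theorem odd_mem_YY [Finite W] (hG1 : RGD.Sup X {x | IsRoot cs h x} = ⊤) (hG : GG cs h T X = ⊤)
    (hC : Subgroup.centralizer (L : Set H) = ⊥) (hq : ∀ i, Nat.card (X (sr i)) ≤ 4)
    (hsym : ∀ σ : Equiv.Perm I, (∀ i j, M (σ i) (σ j) = M i j) → σ * σ = 1) {g : H} (hg : Odd (orderOf g)) :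
    g ∈ YY T X := by
  have : Fact (Nat.Prime 2) := ⟨Nat.prime_two⟩
  have hn := YY_normal R hG1 hG hC hq
  obtain ⟨l, σ, hσ⟩ := exists_frame' R hG g
  set k : H := (l : H) * g with hk
  have h1 : k ^ 2 ∈ N1 T X := by
    rw [mem_N1, pow_two, cn_mul]
    have h2 := hσ.mul hσ
    rwa [hsym σ (fun i j => Diag.matrix R hσ i j)] at h2
  have h2 : k ^ 4 ∈ YY T X := by
    have h3 := T2_le_YY (sq_mem_T2 h1)
    rwa [← pow_mul] at h3
  have h3 : (QuotientGroup.mk' (YY T X)) g ^ 4 = 1 := by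
    have h4 : (QuotientGroup.mk' (YY T X)) k = (QuotientGroup.mk' (YY T X)) g := by
      rw [hk, map_mul]
      have h5 : (QuotientGroup.mk' (YY T X)) (l : H) = 1 :=
        (QuotientGroup.eq_one_iff _).2 (L_le_YY l.2)
      rw [h5, one_mul]
    rw [← h4, ← map_pow]
    exact (QuotientGroup.eq_one_iff _).2 h2
  have h4 : (QuotientGroup.mk' (YY T X)) g = 1 := by
    have h5 : orderOf ((QuotientGroup.mk' (YY T X)) g) ∣ orderOf g := orderOf_map_dvd _ g
    have h6 : orderOf ((QuotientGroup.mk' (YY T X)) g) ∣ 4 := orderOf_dvd_of_pow_eq_one h3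
    have h7 : Nat.Coprime (orderOf g) 4 := by
      have : Nat.Coprime (orderOf g) (2 ^ 2) := Nat.Coprime.pow_right 2 (Nat.Coprime.symm (Nat.coprime_two_left.2 hg))
      exact this
    have h8 : orderOf ((QuotientGroup.mk' (YY T X)) g) ∣ 1 := by
      have := Nat.dvd_gcd h5 h6
      rwa [h7] at this
    rw [← orderOf_eq_one_iff]
    exact Nat.dvd_one.1 h8
  exact (QuotientGroup.eq_one_iff _).1 h4

/-- the inclusion `L → Y` -/
noncomputable def inc (T : Subgroup L) (X : (I → ℤ) → Subgroup L) : L →* YY T X :=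
  Subgroup.inclusion L_le_YY

omit R in
theorem inc_coe (l : L) : ((inc T X l : YY T X) : H) = l := rfl

omit R in
theorem inc_injective : Function.Injective (inc T X) := Subgroup.inclusion_injective _

/-- **The root group datum on `Y`.** -/
theorem rgd_Y [Finite W] (hG1 : RGD.Sup X {x | IsRoot cs h x} = ⊤)
    (hC : Subgroup.centralizer (L : Set H) = ⊥) (hq : ∀ i, Nat.card (X (sr i)) ≤ 4) :
    RGD cs h 2 ((T2 T X).subgroupOf (YY T X)) (fun i => inc T X (n i)) (fun x => (X x).map (inc T X)) := by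
  have R1 := Nodes.RGDLib.rgd_map_of_injective R (inc T X) inc_injective
  -- the action of `T2`
  have hact : ∀ t : YY T X, (t : H) ∈ T2 T X → ∀ l : L, t * inc T X l * t⁻¹ = inc T X (cn L (t : H) l) := by
    intro t ht l
    apply Subtype.ext
    rw [inc_coe, cn_apply]
    rfl
  refine rgd_tor R1 ?_ ?_ ?_ ?_
  · rintro _ ⟨t, ht, rfl⟩
    rw [Subgroup.mem_subgroupOf, inc_coe]
    exact T_le_T2 R ht
  · intro i
    rw [Subgroup.mem_normalizer_iff]
    -- `n_i t n_i⁻¹ ∈ T2`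
    have key : ∀ t : YY T X, (t : H) ∈ T2 T X →
        (((inc T X (n i)) * t * (inc T X (n i))⁻¹ : YY T X) : H) ∈ T2 T X ∧
        (((inc T X (n i))⁻¹ * t * (inc T X (n i)) : YY T X) : H) ∈ T2 T X := by
      intro t ht
      have hD := mem_N1.1 (T2_le ht)
      have h1 : (n i)⁻¹ * cn L (t : H) (n i) ∈ T := (rp_simple cs R.nsys i).unique (hD.rp (R := R) i)
      have h2 : n i * ((n i)⁻¹ * cn L (t : H) (n i)) * (n i)⁻¹ ∈ T := by
        have h3 := (mem_normalizer_iff_cj.1 ((rp_simple cs R.nsys i).mem_normalizer))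
        have h4 : n i * ((n i)⁻¹ * cn L (t : H) (n i)) * (n i)⁻¹ ∈ cj (n i) T := conj_mem_cj.2 h1
        rwa [h3] at h4
      constructor
      · have e : (((inc T X (n i)) * t * (inc T X (n i))⁻¹ : YY T X) : H) =
            ((n i * ((n i)⁻¹ * cn L (t : H) (n i)) * (n i)⁻¹)⁻¹ : L) * (t : H) := by
          rw [Subgroup.coe_mul, Subgroup.coe_mul, Subgroup.coe_inv, inc_coe, Subgroup.coe_inv, Subgroup.coe_mul,
            Subgroup.coe_mul, Subgroup.coe_mul, Subgroup.coe_inv, cn_apply]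
          group
        rw [e]
        exact mul_mem (T_le_T2 R (inv_mem h2)) ht
      · have e : (((inc T X (n i))⁻¹ * t * (inc T X (n i)) : YY T X) : H) =
            ((((n i)⁻¹ * cn L (t : H) (n i) : L)) : H) * (t : H) := by
          rw [Subgroup.coe_mul, Subgroup.coe_mul, Subgroup.coe_inv, inc_coe, Subgroup.coe_mul,
            Subgroup.coe_inv, cn_apply]
          group
        rw [e]
        exact mul_mem (T_le_T2 R h1) ht
    intro t
    rw [Subgroup.mem_subgroupOf, Subgroup.mem_subgroupOf]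
    constructor
    · intro ht
      exact (key t ht).1
    · intro ht
      have := (key _ ht).2
      have e : (inc T X (n i))⁻¹ * (inc T X (n i) * t * (inc T X (n i))⁻¹) * inc T X (n i) = t := by group
      rwa [e] at this
  · intro x hx t ht
    rw [Subgroup.mem_subgroupOf] at ht
    have key : ∀ s : YY T X, (s : H) ∈ T2 T X → cj s ((X x).map (inc T X)) ≤ (X x).map (inc T X) := by
      intro s hs y hy
      rw [mem_cj] at hy
      obtain ⟨l, hl, e⟩ := hy
      have h1 : y = s * inc T X l * s⁻¹ := by rw [e]; group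
      rw [h1, hact s hs]
      exact Subgroup.mem_map_of_mem _ (diag_root R (mem_N1.1 (T2_le hs)) hx hl)
    apply le_antisymm (key t ht)
    have h1 := key t⁻¹ (by rw [Subgroup.coe_inv]; exact inv_mem ht)
    have h2 := cj_mono t h1
    rwa [cj_cj_inv] at h2
  · rw [Nat.coprime_two_right]
    by_contra hodd
    rw [Nat.not_odd_iff_even, even_iff_two_dvd] at hodd
    have : Fact (Nat.Prime 2) := ⟨Nat.prime_two⟩
    obtain ⟨g, hg⟩ := exists_prime_orderOf_dvd_card' 2 hodd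
    have h1 : orderOf ((g : YY T X) : H) = 2 := by
      rw [Subgroup.orderOf_coe, Subgroup.orderOf_coe, hg]
    have h2 := odd_T2 R hG1 hC hq (Subgroup.mem_subgroupOf.1 g.2)
    rw [h1] at h2
    exact absurd h2 (by decide)

omit R in
theorem Sup_map (S : Set (I → ℤ)) : (RGD.Sup X S).map (inc T X) = RGD.Sup (fun x => (X x).map (inc T X)) S := by
  unfold RGD.Sup
  rw [Subgroup.map_iSup]

omit R in
/-- `GG` on `Y` -/
theorem GG_Y (hG1 : RGD.Sup X {x | IsRoot cs h x} = ⊤) :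
    GG cs h ((T2 T X).subgroupOf (YY T X)) (fun x => (X x).map (inc T X)) = ⊤ := by
  set K := GG cs h ((T2 T X).subgroupOf (YY T X)) (fun x => (X x).map (inc T X)) with hK
  have h1 : (⊤ : Subgroup L).map (inc T X) ≤ K := by
    rw [← hG1, Sup_map]
    exact le_sup_right
  have h2 : YY T X ≤ K.map (YY T X).subtype := by
    refine sup_le ?_ ?_
    · intro l hl
      exact ⟨inc T X ⟨l, hl⟩, h1 (Subgroup.mem_map_of_mem _ (Subgroup.mem_top _)), rfl⟩
    · intro t ht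
      refine ⟨⟨t, T2_le_YY ht⟩, ?_, rfl⟩
      exact (le_sup_left : (T2 T X).subgroupOf (YY T X) ≤ K) (Subgroup.mem_subgroupOf.2 ht)
  rw [eq_top_iff]
  rintro ⟨y, hy⟩ -
  obtain ⟨z, hz, e⟩ := h2 hy
  have : z = ⟨y, hy⟩ := Subtype.ext e
  rw [← this]
  exact hz

/-- `T2` fixes `a` -/
theorem T2_fix [Finite W] {V : Type*} [AddCommGroup V] [Module (ZMod 2) V] {ρ : H →* (V ≃ₗ[ZMod 2] V)} {a : V}
    (ha : a ≠ 0) (hU : ∀ v, (∀ u ∈ RGD.Sup X (RGD.Pos cs h), ρ (u : H) v = v) → v = 0 ∨ v = a)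
    (hB : ∀ g ∈ RGD.B cs h T X, ρ (g : H) a = a) {t : H} (ht : t ∈ T2 T X) : ρ t a = a := by
  have hmul : ∀ (g k : H) (v : V), ρ (g * k) v = ρ g (ρ k v) := by
    intro g k v
    rw [map_mul]; rfl
  have h1 : ∀ u ∈ RGD.Sup X (RGD.Pos cs h), cn L t⁻¹ u ∈ RGD.Sup X (RGD.Pos cs h) := by
    have h2 : RGD.Sup X (RGD.Pos cs h) ≤ (RGD.Sup X (RGD.Pos cs h)).comap (cn L t⁻¹).toMonoidHom := by
      refine RGD.Sup_le fun x hx u hu => ?_
      rw [Subgroup.mem_comap]
      exact RGD.le_Sup hx (diag_root R (mem_N1.1 ((N1 T X).inv_mem (T2_le ht))) hx.1 hu)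
    exact fun u hu => h2 hu
  have h2 := hU (ρ t a) (by
    intro u hu
    have h3 : (u : H) * t = t * (cn L t⁻¹ u : L) := by
      rw [cn_apply]; group
    rw [← hmul, h3, hmul, hB _ (RGD.U_le_B (h1 u hu))])
  rcases h2 with h2 | h2
  · exfalso
    apply ha
    apply (ρ t).injective
    rw [h2, map_zero]
  · exact h2

/-- **LEMMA ODD: the output.** -/
theorem outAt [Finite W] {V : Type*} [AddCommGroup V] [Module (ZMod 2) V] {ρ : H →* (V ≃ₗ[ZMod 2] V)} {a : V}
    (ha : a ≠ 0) {X0 : Subgroup H} (hG1 : RGD.Sup X {x | IsRoot cs h x} = ⊤) (hG : GG cs h T X = ⊤)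
    (hC : Subgroup.centralizer (L : Set H) = ⊥) (hq : ∀ i, Nat.card (X (sr i)) ≤ 4)
    (hsym : ∀ σ : Equiv.Perm I, (∀ i j, M (σ i) (σ j) = M i j) → σ * σ = 1)
    (hU : ∀ v, (∀ u ∈ RGD.Sup X (RGD.Pos cs h), ρ (u : H) v = v) → v = 0 ∨ v = a)
    (hB : ∀ g ∈ RGD.B cs h T X, ρ (g : H) a = a) {i : I} (hX0 : X0 = (VJ cs h X {i}ᶜ).map L.subtype)
    (hi : ∀ j, j ≠ i → ρ (n j : H) a = a) : OutAt ρ a X0 cs h (fun j => Nat.card (X (sr j))) i := by
  have hmul : ∀ (g k : H) (v : V), ρ (g * k) v = ρ g (ρ k v) := by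
    intro g k v
    rw [map_mul]; rfl
  have hone : ∀ v : V, ρ 1 v = v := by
    intro v
    rw [map_one]; rfl
  have hinv : ∀ {g : H}, ρ g a = a → ρ g⁻¹ a = a := by
    intro g hg
    conv_lhs => rw [← hg]
    rw [← hmul, inv_mul_cancel, hone]
  refine ⟨YY T X, (T2 T X).subgroupOf (YY T X), fun i => inc T X (n i), fun x => (X x).map (inc T X),
    YY_normal R hG1 hG hC hq, fun g hg => odd_mem_YY R hG1 hG hC hq hsym hg, ?_,
    rgd_Y R hG1 hC hq, GG_Y hG1, ?_, ?_, ?_⟩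
  · have h1 : VJ cs h (fun x => (X x).map (inc T X)) {i}ᶜ = (VJ cs h X {i}ᶜ).map (inc T X) := by
      unfold VJ
      rw [Sup_map]
    rw [hX0, h1, Subgroup.map_map]
    rfl
  · intro j hj
    let S : Subgroup (YY T X) :=
      { carrier := {g | ρ (g : H) a = a}
        one_mem' := hone a
        mul_mem' := by
          intro g k (hg : ρ (g : H) a = a) (hk : ρ (k : H) a = a)
          show ρ ((g * k : YY T X) : H) a = a
          rw [Subgroup.coe_mul, hmul, hk, hg]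
        inv_mem' := by
          intro g (hg : ρ (g : H) a = a)
          show ρ ((g⁻¹ : YY T X) : H) a = a
          rw [Subgroup.coe_inv]
          exact hinv hg }
    have hpos : ∀ x, IsRoot cs h x → 0 ≤ x → (X x).map (inc T X) ≤ S := by
      rintro x hx h0 _ ⟨u, hu, rfl⟩
      exact hB u (RGD.X_le_B hx h0 hu)
    have h1 : PJ cs h ((T2 T X).subgroupOf (YY T X)) (fun x => (X x).map (inc T X)) {j} ≤ S := by
      refine sup_le (sup_le ?_ ?_) ?_
      · intro t ht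
        exact T2_fix R ha hU hB (Subgroup.mem_subgroupOf.1 ht)
      · refine RGD.Sup_le ?_
        rintro x ⟨hx, hx'⟩
        rcases hx.pos_or_neg with h0 | h0
        · exact hpos x hx h0
        · have h2 : -x = sr j := hx.neg.eq_sr (neg_nonneg.2 h0) j fun k hk => by
            rw [Pi.neg_apply, hx' k hk, neg_zero]
          have h3 : x = -sr j := by rw [← h2, neg_neg]
          subst h3
          rintro _ ⟨u, hu, rfl⟩
          have h4 : (n j)⁻¹ * u * n j ∈ X (sr j) := by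
            have := R.conj_mem' (rp_simple cs R.nsys j) (isRoot_sr cs h j).neg hu
            rwa [inv_simple, map_neg, rep_simple_sr, neg_neg] at this
          show ρ ((u : L) : H) a = a
          have h5 : ((u : L) : H) = (n j : H) * ((((n j)⁻¹ * u * n j : L) : H) * (n j : H)⁻¹) := by
            rw [Subgroup.coe_mul, Subgroup.coe_mul, Subgroup.coe_inv]; group
          rw [h5, hmul, hmul, hinv (hi j hj), hB _ (RGD.X_le_B (isRoot_sr cs h j) (sr_nonneg j) h4), hi j hj]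
      · refine RGD.Sup_le ?_
        rintro x ⟨hx, hx', -⟩
        exact hpos x hx hx'
    exact fun g hg => h1 hg
  · intro j
    exact Subgroup.card_map_of_injective inc_injective
  · intro v hv
    refine hU v fun u hu => ?_
    have h1 : inc T X u ∈ RGD.Sup (fun x => (X x).map (inc T X)) (RGD.Pos cs h) := by
      rw [← Sup_map]
      exact Subgroup.mem_map_of_mem _ hu
    exact hv _ h1

end

end Main

end Cfsg.Agent.Omega.EH3.Kf.Odd

end

section


/-!
# Diagram symmetries of `A₅`, `D₆`, `E₇`, `C₃` (helper227)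

They have order at most two: the hypothesis `hsym` of `Kf.Odd.outAt`.
-/

set_option autoImplicit false

namespace Cfsg.Agent.Omega.EH3.Kf.Sym

open Cfsg.Agent.LieRecognition.BNCox (cA cA_apply)

/-- the table -/
def tA (i j : Fin 5) : ℕ := if i = j then 1 else if i.val + 1 = j.val ∨ j.val + 1 = i.val then 3 else 2

set_option backward.isDefEq.respectTransparency false in
set_option maxRecDepth 100000 in
theorem tA_eq : ∀ i j : Fin 5, cA 5 i j = tA i j := by decide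

set_option maxRecDepth 100000 in
theorem keyA : ∀ a0 a1 : Fin 5, tA a0 a1 = 3 → ∀ a2, tA a1 a2 = 3 → tA a0 a2 = 2 → ∀ a3, tA a2 a3 = 3 → tA a1 a3 = 2 →
    ∀ a4, tA a3 a4 = 3 → tA a2 a4 = 2 →
    (a0 = 0 ∧ a1 = 1 ∧ a2 = 2 ∧ a3 = 3 ∧ a4 = 4) ∨ (a0 = 4 ∧ a1 = 3 ∧ a2 = 2 ∧ a3 = 1 ∧ a4 = 0) := by decide

theorem symA (σ : Equiv.Perm (Fin 5)) (hσ : ∀ i j, cA 5 (σ i) (σ j) = cA 5 i j) : σ * σ = 1 := by
  have h : ∀ i j, tA (σ i) (σ j) = tA i j := by
    intro i j
    rw [← tA_eq, ← tA_eq]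
    exact hσ i j
  rcases keyA (σ 0) (σ 1) (by rw [h]; decide) (σ 2) (by rw [h]; decide) (by rw [h]; decide) (σ 3) (by rw [h]; decide)
    (by rw [h]; decide) (σ 4) (by rw [h]; decide) (by rw [h]; decide) with ⟨h0, h1, h2, h3, h4⟩ | ⟨h0, h1, h2, h3, h4⟩
  all_goals
    ext i
    rw [Equiv.Perm.mul_apply, Equiv.Perm.one_apply]
    congr 1
    fin_cases i
    · show σ (σ 0) = 0
      rw [h0]; assumption
    · show σ (σ 1) = 1
      rw [h1]; assumption
    · show σ (σ 2) = 2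
      rw [h2]; assumption
    · show σ (σ 3) = 3
      rw [h3]; assumption
    · show σ (σ 4) = 4
      rw [h4]; assumption

/-- the table -/
def tD (i j : Fin 6) : ℕ := if i = j then 1 else
  if (i.val < 4 ∧ j.val < 5 ∧ i.val + 1 = j.val) ∨ (j.val < 4 ∧ i.val < 5 ∧ j.val + 1 = i.val) ∨
    (i.val = 3 ∧ j.val = 5) ∨ (i.val = 5 ∧ j.val = 3) then 3 else 2

set_option backward.isDefEq.respectTransparency false in
set_option maxRecDepth 100000 in
theorem tD_eq : ∀ i j : Fin 6, Nodes.TypeD.M 4 i j = tD i j := by decide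

set_option synthInstance.maxHeartbeats 400000 in
set_option synthInstance.maxSize 2000 in
set_option maxRecDepth 100000 in
theorem keyD : ∀ a0 a1 : Fin 6, tD a0 a1 = 3 → ∀ a2, tD a1 a2 = 3 → tD a0 a2 = 2 → ∀ a3, tD a2 a3 = 3 → tD a1 a3 = 2 →
    ∀ a4, tD a3 a4 = 3 → tD a2 a4 = 2 → ∀ a5, tD a3 a5 = 3 → tD a2 a5 = 2 → tD a4 a5 = 2 →
    (a0 = 0 ∧ a1 = 1 ∧ a2 = 2 ∧ a3 = 3 ∧ a4 = 4 ∧ a5 = 5) ∨
    (a0 = 0 ∧ a1 = 1 ∧ a2 = 2 ∧ a3 = 3 ∧ a4 = 5 ∧ a5 = 4) := by decide

theorem symD (σ : Equiv.Perm (Fin 6)) (hσ : ∀ i j, Nodes.TypeD.M 4 (σ i) (σ j) = Nodes.TypeD.M 4 i j) :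
    σ * σ = 1 := by
  have h : ∀ i j, tD (σ i) (σ j) = tD i j := by
    intro i j
    rw [← tD_eq, ← tD_eq]
    exact hσ i j
  rcases keyD (σ 0) (σ 1) (by rw [h]; decide) (σ 2) (by rw [h]; decide) (by rw [h]; decide) (σ 3) (by rw [h]; decide)
    (by rw [h]; decide) (σ 4) (by rw [h]; decide) (by rw [h]; decide) (σ 5) (by rw [h]; decide) (by rw [h]; decide)
    (by rw [h]; decide) with ⟨h0, h1, h2, h3, h4, h5⟩ | ⟨h0, h1, h2, h3, h4, h5⟩
  all_goals
    ext i
    rw [Equiv.Perm.mul_apply, Equiv.Perm.one_apply]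
    congr 1
    fin_cases i
    · show σ (σ 0) = 0
      rw [h0]; assumption
    · show σ (σ 1) = 1
      rw [h1]; assumption
    · show σ (σ 2) = 2
      rw [h2]; assumption
    · show σ (σ 3) = 3
      rw [h3]; assumption
    · show σ (σ 4) = 4
      rw [h4]; assumption
    · show σ (σ 5) = 5
      rw [h5]; assumption

/-- the table -/
def tE (i j : Fin 7) : ℕ := if i = j then 1 else
  if (i.val = 0 ∧ j.val = 2) ∨ (i.val = 2 ∧ j.val = 0) ∨ (i.val = 1 ∧ j.val = 3) ∨ (i.val = 3 ∧ j.val = 1) ∨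
    (2 ≤ i.val ∧ i.val + 1 = j.val) ∨ (2 ≤ j.val ∧ j.val + 1 = i.val) then 3 else 2

set_option backward.isDefEq.respectTransparency false in
set_option maxRecDepth 100000 in
theorem tE_eq : ∀ i j : Fin 7, CoxeterMatrix.E₇ i j = tE i j := by decide

set_option synthInstance.maxHeartbeats 400000 in
set_option synthInstance.maxSize 2000 in
set_option maxRecDepth 100000 in
theorem keyE : ∀ a0 a2 : Fin 7, tE a0 a2 = 3 → ∀ a3, tE a2 a3 = 3 → tE a0 a3 = 2 → ∀ a1, tE a3 a1 = 3 → tE a2 a1 = 2 →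
    tE a0 a1 = 2 → ∀ a4, tE a3 a4 = 3 → tE a2 a4 = 2 → tE a1 a4 = 2 → ∀ a5, tE a4 a5 = 3 → tE a3 a5 = 2 →
    ∀ a6, tE a5 a6 = 3 → tE a4 a6 = 2 →
    (a0 = 0 ∧ a1 = 1 ∧ a2 = 2 ∧ a3 = 3 ∧ a4 = 4 ∧ a5 = 5 ∧ a6 = 6) := by decide

theorem symE (σ : Equiv.Perm (Fin 7)) (hσ : ∀ i j, CoxeterMatrix.E₇ (σ i) (σ j) = CoxeterMatrix.E₇ i j) :
    σ * σ = 1 := by
  have h : ∀ i j, tE (σ i) (σ j) = tE i j := by
    intro i j
    rw [← tE_eq, ← tE_eq]
    exact hσ i j
  obtain ⟨h0, h1, h2, h3, h4, h5, h6⟩ := keyE (σ 0) (σ 2) (by rw [h]; decide) (σ 3) (by rw [h]; decide)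
    (by rw [h]; decide) (σ 1) (by rw [h]; decide) (by rw [h]; decide) (by rw [h]; decide)
    (σ 4) (by rw [h]; decide) (by rw [h]; decide) (by rw [h]; decide)
    (σ 5) (by rw [h]; decide) (by rw [h]; decide) (σ 6) (by rw [h]; decide) (by rw [h]; decide)
  ext i
  rw [Equiv.Perm.mul_apply, Equiv.Perm.one_apply]
  congr 1
  fin_cases i
  · show σ (σ 0) = 0
    rw [h0]; assumption
  · show σ (σ 1) = 1
    rw [h1]; assumption
  · show σ (σ 2) = 2
    rw [h2]; assumption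
  · show σ (σ 3) = 3
    rw [h3]; assumption
  · show σ (σ 4) = 4
    rw [h4]; assumption
  · show σ (σ 5) = 5
    rw [h5]; assumption
  · show σ (σ 6) = 6
    rw [h6]; assumption

/-- the table -/
def tB (i j : Fin 3) : ℕ := if i = j then 1 else
  if (i.val = 2 ∧ j.val = 1) ∨ (i.val = 1 ∧ j.val = 2) then 4 else if (i.val = 0 ∧ j.val = 1) ∨ (i.val = 1 ∧ j.val = 0)
  then 3 else 2

set_option backward.isDefEq.respectTransparency false in
set_option maxRecDepth 100000 in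
theorem tB_eq : ∀ i j : Fin 3, CoxeterMatrix.B 3 i j = tB i j := by decide

set_option maxRecDepth 100000 in
theorem keyB : ∀ a1 a2 : Fin 3, tB a1 a2 = 4 → ∀ a0, tB a0 a1 = 3 → (a0 = 0 ∧ a1 = 1 ∧ a2 = 2) := by decide

theorem symB (σ : Equiv.Perm (Fin 3)) (hσ : ∀ i j, CoxeterMatrix.B 3 (σ i) (σ j) = CoxeterMatrix.B 3 i j) :
    σ * σ = 1 := by
  have h : ∀ i j, tB (σ i) (σ j) = tB i j := by
    intro i j
    rw [← tB_eq, ← tB_eq]
    exact hσ i j
  obtain ⟨h0, h1, h2⟩ := keyB (σ 1) (σ 2) (by rw [h]; decide) (σ 0) (by rw [h]; decide)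
  ext i
  rw [Equiv.Perm.mul_apply, Equiv.Perm.one_apply]
  congr 1
  fin_cases i
  · show σ (σ 0) = 0
    rw [h0]; assumption
  · show σ (σ 1) = 1
    rw [h1]; assumption
  · show σ (σ 2) = 2
    rw [h2]; assumption

end Cfsg.Agent.Omega.EH3.Kf.Sym

end

section


/-!
# EH3, Lie rows in characteristic 2: the output list and the transport lemmas (helper227)

* `Good M q i` : the five possibilities `A₅/2`, `D₆/4`, `D₆/5`, `E₇/6`, `C₃(4,4,2)/2`;
* `EndAt cs h T n X ρ a X0 q i` : what a row has to prove: `X0 = V_J`, `J = I - {i}`, the nodes `j ≠ i` fix `a`,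
  `|X_j| = q j`;
* `Four ρ a X0` : the output for `H`;
* `Row.map` : transport of `Row` along an isomorphism;
* `four_of_end` : `EndAt` for a normal subgroup `L` with `C_H(L) = 1` gives `Four`.
-/

set_option autoImplicit false

namespace Cfsg.Agent.Omega.EH3.Kf.Goal

open CoxeterSystem Cfsg.Agent.ChevalleyStructure.CoxeterGeom Cfsg.Agent.Tits.Roots Cfsg.Agent.Tits.Core
  Cfsg.Agent.Tits.RootComb Cfsg.Agent.Nodes.Comb Cfsg.Agent.Nodes.Reps Cfsg.Agent.Nodes.BNOf
  Cfsg.Agent.Nodes.StabComb Cfsg.Agent.Nodes.Bruhat Cfsg.Agent.Nodes.LeviDec Cfsg.Agent.Nodes.RGDLib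
  Cfsg.Agent.Omega.EH3.Kf.Base Cfsg.Agent.Omega.EH3.Kf.Out Cfsg.Agent.Omega.EH3.Kf.Odd
  Cfsg.Agent.Omega.EH3.Kf.Sym
open Cfsg.Agent.LieRecognition.BNCox (cA)

/-- The possible diagrams, orders and nodes. -/
inductive Good : ∀ {l : ℕ}, CoxeterMatrix (Fin l) → (Fin l → ℕ) → Fin l → Prop
  | A5 : Good (cA 5) (fun _ => 2) 2
  | D6 : Good (Nodes.TypeD.M 4) (fun _ => 2) 4
  | D6' : Good (Nodes.TypeD.M 4) (fun _ => 2) 5
  | E7 : Good CoxeterMatrix.E₇ (fun _ => 2) 6
  | C3 : Good (CoxeterMatrix.B 3) ![4, 4, 2] 2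

theorem Good.le_four {l : ℕ} {M : CoxeterMatrix (Fin l)} {q : Fin l → ℕ} {i : Fin l} (G : Good M q i) (j : Fin l) :
    q j ≤ 4 := by
  cases G
  · show (2 : ℕ) ≤ 4; omega
  · show (2 : ℕ) ≤ 4; omega
  · show (2 : ℕ) ≤ 4; omega
  · show (2 : ℕ) ≤ 4; omega
  · revert j; decide

theorem Good.sym {l : ℕ} {M : CoxeterMatrix (Fin l)} {q : Fin l → ℕ} {i : Fin l} (G : Good M q i)
    (σ : Equiv.Perm (Fin l)) (hσ : ∀ i j, M (σ i) (σ j) = M i j) : σ * σ = 1 := by
  cases G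
  · exact symA σ hσ
  · exact symD σ hσ
  · exact symD σ hσ
  · exact symE σ hσ
  · exact symB σ hσ

/-- **The output for `H`.** -/
def Four {H V : Type*} [Group H] [AddCommGroup V] [Module (ZMod 2) V] (ρ : H →* (V ≃ₗ[ZMod 2] V)) (a : V)
    (X0 : Subgroup H) : Prop :=
  ∃ (l : ℕ) (M : CoxeterMatrix (Fin l)) (q : Fin l → ℕ) (i : Fin l) (A : Fin l → Fin l → ℤ) (h : IsCartan M A),
    Good M q i ∧ Finite M.Group ∧ OutAt ρ a X0 M.toCoxeterSystem h q i

variable {I W Y V : Type*} [Fintype I] [DecidableEq I] [Group W] [Group Y] [AddCommGroup V]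
    [Module (ZMod 2) V] {M : CoxeterMatrix I} {cs : CoxeterSystem M W} {A : I → I → ℤ} {h : IsCartan M A}
    {T : Subgroup Y} {n : I → Y} {X : (I → ℤ) → Subgroup Y} {ρ : Y →* (V ≃ₗ[ZMod 2] V)}
    {b : LinearMap.BilinForm (ZMod 2) V} {a : V} {D : Submodule (ZMod 2) V} {X0 : Subgroup Y} {w : ℕ}

/-- **What a row has to prove.** -/
structure EndAt {I W Y V : Type*} [Fintype I] [DecidableEq I] [Group W] [Group Y] [AddCommGroup V]
    [Module (ZMod 2) V] {M : CoxeterMatrix I} (cs : CoxeterSystem M W) {A : I → I → ℤ} (h : IsCartan M A)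
    (n : I → Y) (X : (I → ℤ) → Subgroup Y) (ρ : Y →* (V ≃ₗ[ZMod 2] V)) (a : V) (X0 : Subgroup Y)
    (q : I → ℕ) (i : I) : Prop where
  eq : X0 = VJ cs h X {i}ᶜ
  fix : ∀ j, j ≠ i → ρ (n j) a = a
  card : ∀ j, Nat.card (X (sr j)) = q j

/-- Transport along an isomorphism. -/
theorem _root_.Cfsg.Agent.Omega.EH3.Kf.Base.Row.map (R : Row cs h T n X ρ b a D X0 w) {Y' : Type*} [Group Y']
    (e : Y ≃* Y') : Row cs h (T.map e.toMonoidHom) (fun i => e (n i)) (fun x => (X x).map e.toMonoidHom)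
      (ρ.comp e.symm.toMonoidHom) b a D (X0.map e.toMonoidHom) w where
  rgd := rgd_map_of_injective R.rgd e.toMonoidHom e.injective
  gen := by
    have h1 : (GG cs h T X).map e.toMonoidHom =
        GG cs h (T.map e.toMonoidHom) (fun x => (X x).map e.toMonoidHom) := by
      unfold GG RGD.Sup
      rw [Subgroup.map_sup, Subgroup.map_iSup]
    rw [← h1, R.gen, Subgroup.map_top_of_surjective _ e.surjective]
  six := R.six
  card_V := R.card_V
  card_D := R.card_D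
  card_X := by
    rw [Subgroup.card_map_of_injective e.injective]
    exact R.card_X
  b_self := R.b_self
  nondeg := R.nondeg
  b_inv g u v := R.b_inv _ u v
  span := by
    have h1 : (Set.range fun g => (ρ.comp e.symm.toMonoidHom) g a) = Set.range fun g => ρ g a := by
      ext v
      constructor
      · rintro ⟨g, rfl⟩
        exact ⟨e.symm g, rfl⟩
      · rintro ⟨g, rfl⟩
        refine ⟨e g, ?_⟩
        show ρ (e.symm (e g)) a = ρ g a
        rw [e.symm_apply_apply]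
    rw [h1]
    exact R.span
  a_ne := R.a_ne
  a_mem := R.a_mem
  b_D := R.b_D
  D_inv g := R.D_inv _
  fixB := by
    have h1 : RGD.B cs h (T.map e.toMonoidHom) (fun x => (X x).map e.toMonoidHom) =
        (RGD.B cs h T X).map e.toMonoidHom := by
      unfold RGD.B RGD.Sup
      rw [Subgroup.map_sup, Subgroup.map_iSup]
    rw [h1]
    rintro _ ⟨g, hg, rfl⟩
    show ρ (e.symm (e g)) a = a
    rw [e.symm_apply_apply]
    exact R.fixB g hg
  le := by
    have h1 : RGD.Sup (fun x => (X x).map e.toMonoidHom) (RGD.Pos cs h) =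
        (RGD.Sup X (RGD.Pos cs h)).map e.toMonoidHom := by
      unfold RGD.Sup
      rw [Subgroup.map_iSup]
    rw [h1]
    exact Subgroup.map_mono R.le
  sq := by
    rintro _ ⟨x, hx, rfl⟩
    rw [← map_mul, R.sq x hx, map_one]
  norm := by
    rintro g hg _ ⟨x, hx, rfl⟩
    refine ⟨e.symm g * x * (e.symm g)⁻¹, R.norm (e.symm g) hg x hx, ?_⟩
    rw [map_mul, map_mul, map_inv]
    show e (e.symm g) * e x * (e (e.symm g))⁻¹ = g * e x * g⁻¹
    rw [e.apply_symm_apply]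
  fix v hv := by
    refine R.fix v fun x hx => ?_
    have := hv (e x) ⟨x, hx, rfl⟩
    change ρ (e.symm (e x)) v = v at this
    rwa [e.symm_apply_apply] at this
  semi := by
    rintro _ ⟨x, hx, rfl⟩ v hv hv'
    change ρ (e.symm (e x)) v = v at hv'
    rw [e.symm_apply_apply] at hv'
    rw [R.semi x hx v hv hv', map_one]
  one := by
    rintro _ ⟨x, hx, rfl⟩ v
    have := R.one x hx v
    unfold dl at this ⊢
    change b a (ρ (e.symm (e x)) v + v) = 0
    rwa [e.symm_apply_apply]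
  two := by
    rintro _ ⟨x, hx, rfl⟩ v hv
    have := R.two x hx v hv
    unfold dl at this ⊢
    change ρ (e.symm (e x)) v + v ∈ D
    rwa [e.symm_apply_apply]
  three := by
    rintro _ ⟨x, hx, rfl⟩ d hd
    have := R.three x hx d hd
    unfold dl at this ⊢
    change ρ (e.symm (e x)) d + d = 0 ∨ ρ (e.symm (e x)) d + d = a
    rwa [e.symm_apply_apply]
  tri := by
    rintro _ ⟨x, hx, rfl⟩ hx1 c hc
    have hx1' : x ≠ 1 := by
      rintro rfl
      exact hx1 (map_one _)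
    obtain ⟨y, hy, t, ht, h1⟩ := R.tri x hx hx1' c hc
    refine ⟨e y, ⟨y, hy, rfl⟩, e t, ⟨t, ht, rfl⟩, ?_⟩
    unfold dl at h1 ⊢
    change b (ρ (e.symm (e y)) (ρ (e.symm (e x)) c + c) + (ρ (e.symm (e x)) c + c)) (ρ (e.symm (e t)) c + c) ≠ 0
    rwa [e.symm_apply_apply, e.symm_apply_apply, e.symm_apply_apply]

section

variable {H : Type*} [Group H] [Finite H] {L : Subgroup H} {l : ℕ} {M : CoxeterMatrix (Fin l)}
  {A : Fin l → Fin l → ℤ} {h : IsCartan M A} {T : Subgroup L} {n : Fin l → L}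
  {X : (Fin l → ℤ) → Subgroup L} {ρ : H →* (V ≃ₗ[ZMod 2] V)} {D : Submodule (ZMod 2) V} {X0 : Subgroup H}

/-- `EndAt` for the normal subgroup `L` gives the output. -/
theorem four_of_end (hL : L.Normal) [Finite M.Group] {X1 : Subgroup L}
    (R : Row M.toCoxeterSystem h T n X (ρ.comp L.subtype) b a D X1 w) (hX : X0 = X1.map L.subtype)
    (hG1 : RGD.Sup X {x | IsRoot M.toCoxeterSystem h x} = ⊤) (hC : Subgroup.centralizer (L : Set H) = ⊥)
    {q : Fin l → ℕ} {i : Fin l} (G : Good M q i)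
    (E : EndAt M.toCoxeterSystem h n X (ρ.comp L.subtype) a X1 q i) : Four ρ a X0 := by
  refine ⟨l, M, q, i, A, h, G, inferInstance, ?_⟩
  have hq : q = fun j => Nat.card (X (sr j)) := by
    funext j
    exact (E.card j).symm
  have key := outAt (ρ := ρ) (a := a) (X0 := X0) (i := i) R.rgd R.a_ne hG1 R.gen hC
    (fun j => by rw [E.card j]; exact G.le_four j) G.sym
    (fun v hv => R.fix v fun x hx => hv x (R.le hx)) (fun g hg => R.fixB g hg)
    (by rw [hX, E.eq]) E.fix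
  rw [hq]
  exact key

end

end Cfsg.Agent.Omega.EH3.Kf.Goal

end

section


/-!
# EH3, Lie rows: the family level interface (helper227)

* `Bd M h T n X` : root group datum of the group `K` itself (simple in the applications), `T` abelian, elementary abelian
  root groups;
* `KfRow K` : `K` has such a datum and every `Row` for it ends in `Good ∧ EndAt`;
* `KfRow.of_equiv`.
-/

set_option autoImplicit false

namespace Cfsg.Agent.Omega.EH3.Kf.FamRow

open CoxeterSystem Cfsg.Agent.ChevalleyStructure.CoxeterGeom Cfsg.Agent.Tits.Roots Cfsg.Agent.Tits.Core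
  Cfsg.Agent.Tits.RootComb Cfsg.Agent.Nodes.Comb Cfsg.Agent.Nodes.Reps Cfsg.Agent.Nodes.BNOf
  Cfsg.Agent.Nodes.StabComb Cfsg.Agent.Nodes.Bruhat Cfsg.Agent.Nodes.LeviDec Cfsg.Agent.Nodes.RGDLib
  Cfsg.Agent.Omega.EH3.Kf.Base Cfsg.Agent.Omega.EH3.Kf.Out Cfsg.Agent.Omega.EH3.Kf.Goal

universe u v w

/-- The bundle of data of the group `K`. -/
structure Bd {K : Type v} [Group K] {l : ℕ} (M : CoxeterMatrix (Fin l)) {A : Fin l → Fin l → ℤ} (h : IsCartan M A)
    (T : Subgroup K) (n : Fin l → K) (X : (Fin l → ℤ) → Subgroup K) : Prop where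
  fin : Finite M.Group
  rgd : RGD M.toCoxeterSystem h 2 T n X
  gen : RGD.Sup X {x | IsRoot M.toCoxeterSystem h x} = ⊤
  ab : ∀ s ∈ T, ∀ t ∈ T, s * t = t * s
  el : ∀ i, ∀ u ∈ X (sr i), u * u = 1

/-- The end data for all rows of the datum `(M, h, T, n, X)`. -/
def RowEnd {K : Type v} [Group K] {l : ℕ} (M : CoxeterMatrix (Fin l)) {A : Fin l → Fin l → ℤ} (h : IsCartan M A)
    (T : Subgroup K) (n : Fin l → K) (X : (Fin l → ℤ) → Subgroup K) : Prop :=
  ∀ (V : Type u) [AddCommGroup V] [Module (ZMod 2) V] (ρ : K →* (V ≃ₗ[ZMod 2] V))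
    (b : LinearMap.BilinForm (ZMod 2) V) (a : V) (D : Submodule (ZMod 2) V) (X0 : Subgroup K) (w : ℕ),
    Row M.toCoxeterSystem h T n X ρ b a D X0 w →
    ∃ (q : Fin l → ℕ) (i : Fin l), Good M q i ∧ EndAt M.toCoxeterSystem h n X ρ a X0 q i

/-- **The row of `K`** (irreducible shape, `End = F₂`). -/
def KfRow (K : Type v) [Group K] : Prop :=
  ∃ (l : ℕ) (M : CoxeterMatrix (Fin l)) (A : Fin l → Fin l → ℤ) (h : IsCartan M A) (T : Subgroup K)
    (n : Fin l → K) (X : (Fin l → ℤ) → Subgroup K), Bd M h T n X ∧ RowEnd.{u} M h T n X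

section map

variable {K : Type v} [Group K] {K' : Type w} [Group K'] {l : ℕ} {M : CoxeterMatrix (Fin l)}
  {A : Fin l → Fin l → ℤ} {h : IsCartan M A} {T : Subgroup K} {n : Fin l → K} {X : (Fin l → ℤ) → Subgroup K}

theorem Bd.map (B : Bd M h T n X) (e : K ≃* K') :
    Bd M h (T.map e.toMonoidHom) (fun i => e (n i)) (fun x => (X x).map e.toMonoidHom) where
  fin := B.fin
  rgd := rgd_map_of_injective B.rgd e.toMonoidHom e.injective
  gen := by
    have h1 : (RGD.Sup X {x | IsRoot M.toCoxeterSystem h x}).map e.toMonoidHom =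
        RGD.Sup (fun x => (X x).map e.toMonoidHom) {x | IsRoot M.toCoxeterSystem h x} := by
      unfold RGD.Sup
      rw [Subgroup.map_iSup]
    rw [← h1, B.gen, Subgroup.map_top_of_surjective _ e.surjective]
  ab := by
    rintro _ ⟨s, hs, rfl⟩ _ ⟨t, ht, rfl⟩
    rw [← map_mul, B.ab s hs t ht, map_mul]
  el := by
    rintro i _ ⟨u, hu, rfl⟩
    rw [← map_mul, B.el i u hu, map_one]

/-- Transport of the end data. -/
theorem EndAt.map {V : Type u} [AddCommGroup V] [Module (ZMod 2) V] {ρ : K →* (V ≃ₗ[ZMod 2] V)} {a : V}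
    {X0 : Subgroup K} {q : Fin l → ℕ} {i : Fin l} (E : EndAt M.toCoxeterSystem h n X ρ a X0 q i) (e : K ≃* K') :
    EndAt M.toCoxeterSystem h (fun i => e (n i)) (fun x => (X x).map e.toMonoidHom)
      (ρ.comp e.symm.toMonoidHom) a (X0.map e.toMonoidHom) q i where
  eq := by
    rw [E.eq]
    unfold VJ RGD.Sup
    rw [Subgroup.map_iSup]
  fix j hj := by
    show ρ (e.symm (e (n j))) a = a
    rw [e.symm_apply_apply]
    exact E.fix j hj
  card j := by
    show Nat.card ((X (sr j)).map e.toMonoidHom) = q j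
    rw [Subgroup.card_map_of_injective e.injective]
    exact E.card j

theorem map_map_symm (e : K ≃* K') (S : Subgroup K) : (S.map e.toMonoidHom).map e.symm.toMonoidHom = S := by
  rw [Subgroup.map_map]
  have : e.symm.toMonoidHom.comp e.toMonoidHom = MonoidHom.id K := by
    ext x
    exact e.symm_apply_apply x
  rw [this, Subgroup.map_id]

theorem map_symm_map (e : K ≃* K') (S : Subgroup K') : (S.map e.symm.toMonoidHom).map e.toMonoidHom = S :=
  map_map_symm e.symm S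

/-- Transport of the row statement. -/
theorem RowEnd.map (H : RowEnd.{u} M h T n X) (e : K ≃* K') :
    RowEnd.{u} M h (T.map e.toMonoidHom) (fun i => e (n i)) (fun x => (X x).map e.toMonoidHom) := by
  intro V _ _ ρ b a D X0 w R
  have R' := R.map e.symm
  have h1 : (fun i => e.symm (e (n i))) = n := funext fun i => e.symm_apply_apply _
  have h2 : (fun x => ((X x).map e.toMonoidHom).map e.symm.toMonoidHom) = X := funext fun x => map_map_symm e _
  rw [map_map_symm, h1, h2] at R'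
  obtain ⟨q, i, hG, hE⟩ := H V _ _ _ _ _ _ R'
  refine ⟨q, i, hG, ?_⟩
  have hE' := EndAt.map hE e
  rw [map_symm_map] at hE'
  have h3 : (ρ.comp e.symm.symm.toMonoidHom).comp e.symm.toMonoidHom = ρ := by
    ext g v
    show ρ (e (e.symm g)) v = ρ g v
    rw [e.apply_symm_apply]
  rw [h3] at hE'
  exact hE'

theorem KfRow.of_equiv (hK : KfRow.{u} K) (e : K ≃* K') : KfRow.{u} K' := by
  obtain ⟨l, M, A, h, T, n, X, B, H⟩ := hK
  exact ⟨l, M, A, h, _, _, _, B.map e, H.map e⟩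

end map

end Cfsg.Agent.Omega.EH3.Kf.FamRow

end

section


/-!
# The torus of a rank one subgroup, characteristic 2 (helper810; KF3 (TR))

`R : RGD cs h 2 T n X`, `X (sr i)` of exponent 2. Then `T ⊓ (X (sr i) ⊔ X (-sr i))` is transitive on the nontrivial
elements of `X (sr i)` and of `X (-sr i)`. No hypothesis on the rank, the type or on `T`.
-/

set_option autoImplicit false
set_option linter.unusedSectionVars false

namespace Cfsg.Agent.Omega.EH3.Kf.TrOne

open CoxeterSystem Cfsg.Agent.ChevalleyStructure.CoxeterGeom Cfsg.Agent.Tits.Roots Cfsg.Agent.Tits.Core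
  Cfsg.Agent.Tits.RootComb Cfsg.Agent.Nodes.Comb Cfsg.Agent.Nodes.Reps Cfsg.Agent.Nodes.BNOf
  Cfsg.Agent.Nodes.StabComb Cfsg.Agent.Nodes.Bruhat Cfsg.Agent.Nodes.OppDec Cfsg.Agent.Tits.Exchange
  Cfsg.Agent.KFacts.RgdOpp

variable {I W Y : Type*} [Fintype I] [DecidableEq I] [Group W] [Finite W] [Group Y] [Finite Y]
    {M : CoxeterMatrix I} {cs : CoxeterSystem M W} {A : I → I → ℤ} {h : IsCartan M A}
    {T : Subgroup Y} {n : I → Y} {X : (I → ℤ) → Subgroup Y}

variable (R : RGD cs h 2 T n X)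

include R

theorem conj_pos {i : I} {m u : Y} (hm : Rp cs R.nsys (cs.simple i) m) (hu : u ∈ X (sr i)) :
    m * u * m⁻¹ ∈ X (-sr i) := by
  have := R.conj_mem hm (isRoot_sr cs h i) hu
  rwa [rep_simple_sr] at this

theorem conj_neg {i : I} {m u : Y} (hm : Rp cs R.nsys (cs.simple i) m) (hu : u ∈ X (-sr i)) :
    m * u * m⁻¹ ∈ X (sr i) := by
  have := R.conj_mem hm (isRoot_sr cs h i).neg hu
  rwa [map_neg, rep_simple_sr, neg_neg] at this

theorem rp_inv {i : I} {m : Y} (hm : Rp cs R.nsys (cs.simple i) m) : Rp cs R.nsys (cs.simple i) m⁻¹ := by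
  have := hm.inv
  rwa [inv_simple] at this

theorem neg_inf {i : I} {u : Y} (hu : u ∈ X (-sr i)) (hB : u ∈ RGD.B cs h T X) : u = 1 :=
  eq_one_of_mem_UN_of_mem_B R (X_le_UN (isRoot_sr cs h i).neg (neg_nonpos.2 (sr_nonneg i)) hu) hB

theorem pos_inf_neg {i : I} {u : Y} (hu : u ∈ X (-sr i)) (hu' : u ∈ X (sr i)) : u = 1 :=
  neg_inf R hu (RGD.X_le_B (isRoot_sr cs h i) (sr_nonneg i) hu')

/-- `u ∈ X_{-i}` nontrivial of order 2 is `a m a` with `m` an involution over the reflection -/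
theorem inv_form {i : I} (hel : ∀ u ∈ X (sr i), u * u = 1) {v : Y} (hv : v ∈ X (-sr i)) (hv1 : v ≠ 1) :
    ∃ a ∈ X (sr i), ∃ m, Rp cs R.nsys (cs.simple i) m ∧ m * m = 1 ∧ v = a * m * a := by
  obtain ⟨a, ha, t, ht, b, hb, e⟩ := R.rk1 i v hv hv1
  obtain ⟨m, hm⟩ : ∃ m, m = t * n i := ⟨_, rfl⟩
  have hmR : Rp cs R.nsys (cs.simple i) m := by
    have := (rp_of_mem (cs := cs) (hN := R.nsys) ht).mul (rp_simple cs R.nsys i)
    rwa [one_mul, ← hm] at this
  have e' : v = a * m * b := by rw [e, hm]; group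
  -- `v * v = 1`
  have hvv : v * v = 1 := by
    have h1 := hel _ (conj_neg R (rp_simple cs R.nsys i) hv)
    have h2 : n i * v * (n i)⁻¹ * (n i * v * (n i)⁻¹) = n i * (v * v) * (n i)⁻¹ := by group
    rw [h2] at h1
    have h3 : v * v = (n i)⁻¹ * (n i * (v * v) * (n i)⁻¹) * n i := by group
    rw [h3, h1]; group
  have hc : b * a ∈ X (sr i) := mul_mem hb ha
  have hm2 : m * m ∈ T := by
    have := hmR.mul hmR
    rw [cs.simple_mul_simple_self] at this
    exact this.mem_of_one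
  have h1 : m * (b * a) * m⁻¹ = (b * a)⁻¹ * (m * m)⁻¹ := by
    have h2 : m * (b * a) * m = (b * a)⁻¹ := by
      have h3 : m * (b * a) * m = a⁻¹ * ((a * m * b) * (a * m * b)) * b⁻¹ := by group
      rw [h3, ← e', hvv]; group
    rw [← h2]; group
  have h2 : m * (b * a) * m⁻¹ = 1 := by
    refine neg_inf R (conj_pos R hmR hc) ?_
    rw [h1]
    exact mul_mem (inv_mem (RGD.X_le_B (isRoot_sr cs h i) (sr_nonneg i) hc)) (inv_mem (RGD.T_le_B hm2))
  have h3 : b * a = 1 := mul_eq_left.1 (mul_inv_eq_one.1 h2)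
  have h4 : m * m = 1 := by
    rw [h2, h3, inv_one, one_mul] at h1
    exact inv_eq_one.1 h1.symm
  have h5 : b = a := by
    have h6 := hel a ha
    exact (eq_inv_of_mul_eq_one_left h3).trans (inv_eq_of_mul_eq_one_left h6)
  exact ⟨a, ha, m, hmR, h4, by rw [e', h5]⟩

/-- `X_{-i} ∩ c X_{-i} c⁻¹ = 1` -/
theorem ti {i : I} {c v : Y} (hc : c ∈ X (sr i)) (hc1 : c ≠ 1) (hv : v ∈ X (-sr i))
    (hcv : c * v * c⁻¹ ∈ X (-sr i)) : v = 1 := by
  have hc' : c ∈ X (-(-sr i)) := by rw [neg_neg]; exact hc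
  obtain ⟨a, ha, t, ht, b, hb, e⟩ := (opp R).rk1 i c hc' hc1
  have hmR : Rp cs R.nsys (cs.simple i) (t * n i) := by
    have := (rp_of_mem (cs := cs) (hN := R.nsys) ht).mul (rp_simple cs R.nsys i)
    rwa [one_mul] at this
  have h1 : (t * n i) * (b * v * b⁻¹) * (t * n i)⁻¹ ∈ X (sr i) :=
    conj_neg R hmR (mul_mem (mul_mem hb hv) (inv_mem hb))
  have h2 : (t * n i) * (b * v * b⁻¹) * (t * n i)⁻¹ = a⁻¹ * (c * v * c⁻¹) * a := by rw [e]; group
  have h3 : (t * n i) * (b * v * b⁻¹) * (t * n i)⁻¹ ∈ X (-sr i) := by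
    rw [h2]
    exact mul_mem (mul_mem (inv_mem ha) hcv) ha
  have h4 := pos_inf_neg R h3 h1
  have h5 : v = b⁻¹ * ((t * n i)⁻¹ * ((t * n i) * (b * v * b⁻¹) * (t * n i)⁻¹) * (t * n i)) * b := by group
  rw [h5, h4]; group

/-- `v` is determined by its involution -/
theorem det {i : I} (hel : ∀ u ∈ X (sr i), u * u = 1) {v v' a a' m : Y} (hv : v ∈ X (-sr i)) (hv1 : v ≠ 1)
    (hv' : v' ∈ X (-sr i)) (ha : a ∈ X (sr i)) (ha' : a' ∈ X (sr i)) (e : v = a * m * a)
    (e' : v' = a' * m * a') : v = v' := by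
  have h1 : a * a = 1 := hel a ha
  have h2 : a' * a' = 1 := hel a' ha'
  have i1 : a⁻¹ = a := inv_eq_of_mul_eq_one_left h1
  have i2 : a'⁻¹ = a' := inv_eq_of_mul_eq_one_left h2
  have h3 : v' = (a' * a) * v * (a' * a)⁻¹ := by
    rw [e', e, mul_inv_rev, i1, i2]
    have : a' * a * (a * m * a) * (a * a') = a' * (a * a) * m * (a * a) * a' := by group
    rw [this, h1, mul_one, mul_one]
  have h4 : a' * a = 1 := by
    by_contra hne
    exact hv1 (ti R (mul_mem ha' ha) hne hv (by rw [← h3]; exact hv'))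
  have h5 : a' = a := (eq_inv_of_mul_eq_one_left h4).trans i1
  rw [e, e', h5]

omit [Finite W] [Fintype I] [DecidableEq I] [Group W] R in
/-- a square root of an element of odd order -/
theorem exists_sqrt {s : Y} (hs : (orderOf s).Coprime 2) : ∃ k : ℕ, s ^ k * s ^ k = s := by
  have h1 : orderOf s % 2 = 1 := by
    rcases Nat.mod_two_eq_zero_or_one (orderOf s) with h0 | h0
    · exfalso
      have h2 : 2 ∣ orderOf s := Nat.dvd_of_mod_eq_zero h0
      have h3 := Nat.dvd_gcd h2 (dvd_refl 2)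
      rw [Nat.Coprime.gcd_eq_one hs] at h3
      omega
    · exact h0
  refine ⟨(orderOf s + 1) / 2, ?_⟩
  rw [← pow_add]
  have h2 : (orderOf s + 1) / 2 + (orderOf s + 1) / 2 = orderOf s + 1 := by omega
  rw [h2, pow_succ, pow_orderOf_eq_one, one_mul]

/-- **Transitivity on `X_{-i}`** -/
theorem tr_neg {i : I} (hel : ∀ u ∈ X (sr i), u * u = 1) {v v' : Y} (hv : v ∈ X (-sr i)) (hv1 : v ≠ 1)
    (hv' : v' ∈ X (-sr i)) (hv1' : v' ≠ 1) :
    ∃ r ∈ T ⊓ (X (sr i) ⊔ X (-sr i)), r * v * r⁻¹ = v' := by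
  obtain ⟨a, ha, m, hm, hmm, e⟩ := inv_form R hel hv hv1
  obtain ⟨a', ha', m', hm', hmm', e'⟩ := inv_form R hel hv' hv1'
  have hsT : m' * m ∈ T := by
    have := hm'.mul hm
    rw [cs.simple_mul_simple_self] at this
    exact this.mem_of_one
  have hL : ∀ {x b c : Y}, b ∈ X (sr i) → c ∈ X (-sr i) → c = b * x * b → x ∈ X (sr i) ⊔ X (-sr i) := by
    intro x b c hb hc he
    have h1 : x = b⁻¹ * c * b⁻¹ := by rw [he]; group
    rw [h1]
    have hb' : b⁻¹ ∈ X (sr i) ⊔ X (-sr i) := le_sup_left (a := X (sr i)) (inv_mem hb)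
    exact mul_mem (mul_mem hb' (le_sup_right (b := X (-sr i)) hc)) hb'
  have hs : m' * m ∈ T ⊓ (X (sr i) ⊔ X (-sr i)) := ⟨hsT, mul_mem (hL ha' hv' e') (hL ha hv e)⟩
  have hodd : (orderOf (m' * m)).Coprime 2 := by
    have h1 : orderOf (m' * m) ∣ Nat.card T := by
      have h2 := orderOf_dvd_natCard (⟨m' * m, hsT⟩ : T)
      rwa [Subgroup.orderOf_mk] at h2
    exact Nat.Coprime.coprime_dvd_left h1 R.tcop
  obtain ⟨k, hk⟩ := exists_sqrt hodd
  have him : m⁻¹ = m := inv_eq_of_mul_eq_one_left hmm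
  have him' : m'⁻¹ = m' := inv_eq_of_mul_eq_one_left hmm'
  have hinv : m * (m' * m) ^ k * m⁻¹ = ((m' * m) ^ k)⁻¹ := by
    rw [← conj_pow, ← inv_pow]
    congr 1
    rw [mul_inv_rev, him, him']
    have : m * (m' * m) * m = m * m' * (m * m) := by group
    rw [this, hmm, mul_one]
  obtain ⟨r, hr⟩ : ∃ r, r = (m' * m) ^ k := ⟨_, rfl⟩
  rw [← hr] at hk hinv
  have hrm : r * m * r⁻¹ = m' := by
    have h1 : r * m * r⁻¹ = r * (m * r⁻¹ * m⁻¹) * m := by group
    have h2 : m * r⁻¹ * m⁻¹ = r := by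
      have h3 : m * r⁻¹ * m⁻¹ = (m * r * m⁻¹)⁻¹ := by group
      rw [h3, hinv, inv_inv]
    rw [h1, h2, hk, mul_assoc, hmm, mul_one]
  have hrT : r ∈ T ⊓ (X (sr i) ⊔ X (-sr i)) := by rw [hr]; exact pow_mem hs k
  refine ⟨r, hrT, ?_⟩
  have hX : ∀ x, IsRoot cs h x → ∀ u ∈ X x, r * u * r⁻¹ ∈ X x := by
    intro x hx u hu
    rw [← R.tor x hx r hrT.1]
    exact conj_mem_cj.2 hu
  have h1 : r * v * r⁻¹ ≠ 1 := fun h2 => hv1 (mul_eq_left.1 (mul_inv_eq_one.1 h2))
  refine det R hel (m := m') (a := r * a * r⁻¹) (hX _ (isRoot_sr cs h i).neg _ hv) h1 hv'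
    (hX _ (isRoot_sr cs h i) _ ha) ha' ?_ e'
  rw [e, ← hrm]; group

/-- **Transitivity on `X_i`** -/
theorem tr_pos {i : I} (hel : ∀ u ∈ X (sr i), u * u = 1) {v v' : Y} (hv : v ∈ X (sr i)) (hv1 : v ≠ 1)
    (hv' : v' ∈ X (sr i)) (hv1' : v' ≠ 1) :
    ∃ r ∈ T ⊓ (X (sr i) ⊔ X (-sr i)), r * v * r⁻¹ = v' := by
  have hn := rp_simple cs R.nsys i
  have h0 : ∀ {u : Y}, u ≠ 1 → n i * u * (n i)⁻¹ ≠ 1 := fun hu h2 =>
    hu (mul_eq_left.1 (mul_inv_eq_one.1 h2))
  obtain ⟨r, hr, e⟩ := tr_neg R hel (conj_pos R hn hv) (h0 hv1) (conj_pos R hn hv') (h0 hv1')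
  refine ⟨(n i)⁻¹ * r * n i, ⟨?_, ?_⟩, ?_⟩
  · have h1 := mem_normalizer_iff_cj.1 (rp_inv R hn).mem_normalizer
    have h2 : (n i)⁻¹ * r * (n i)⁻¹⁻¹ ∈ cj (n i)⁻¹ T := conj_mem_cj.2 hr.1
    rwa [h1, inv_inv] at h2
  · have h1 : cj (n i)⁻¹ (X (sr i) ⊔ X (-sr i)) ≤ X (sr i) ⊔ X (-sr i) := by
      rw [cj_sup]
      refine sup_le ?_ ?_
      · intro x hx
        rw [mem_cj] at hx
        have h2 := conj_pos R (rp_inv R hn) hx
        have h3 : (n i)⁻¹ * ((n i)⁻¹⁻¹ * x * (n i)⁻¹) * (n i)⁻¹⁻¹ = x := by group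
        rw [h3] at h2
        exact le_sup_right (b := X (-sr i)) h2
      · intro x hx
        rw [mem_cj] at hx
        have h2 := conj_neg R (rp_inv R hn) hx
        have h3 : (n i)⁻¹ * ((n i)⁻¹⁻¹ * x * (n i)⁻¹) * (n i)⁻¹⁻¹ = x := by group
        rw [h3] at h2
        exact le_sup_left (a := X (sr i)) h2
    have h2 : (n i)⁻¹ * r * (n i)⁻¹⁻¹ ∈ cj (n i)⁻¹ (X (sr i) ⊔ X (-sr i)) := conj_mem_cj.2 hr.2
    rw [inv_inv] at h2
    exact h1 h2
  · have h1 : (n i)⁻¹ * r * n i * v * ((n i)⁻¹ * r * n i)⁻¹ =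
        (n i)⁻¹ * (r * (n i * v * (n i)⁻¹) * r⁻¹) * n i := by group
    rw [h1, e]; group

end Cfsg.Agent.Omega.EH3.Kf.TrOne

end

section


/-!
# Norm sums in characteristic 2 (helper227; EH3 END, Lie rows)

`Nm ρ H v = ∑ u ∈ H, ρ u v` and the covering lemma `cover`.
-/

set_option autoImplicit false
set_option linter.dupNamespace false

namespace Cfsg.Agent.Omega.EH3.Kf.Nm

variable {Y V : Type*} [Group Y] [Finite Y] [AddCommGroup V] [Module (ZMod 2) V] {ρ : Y →* (V ≃ₗ[ZMod 2] V)}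

/-- the elements of a subgroup as a finset -/
noncomputable def fs (H : Subgroup Y) : Finset Y := (Set.toFinite (H : Set Y)).toFinset

omit [Finite Y] in
theorem rho_mul (g k : Y) (v : V) : ρ (g * k) v = ρ g (ρ k v) := by
  rw [map_mul, LinearEquiv.mul_apply]

omit [Finite Y] in
theorem rho_one (v : V) : ρ 1 v = v := by rw [map_one]; rfl

omit [Finite Y] in
theorem rho_inv (g : Y) (v : V) : ρ g⁻¹ (ρ g v) = v := by rw [← rho_mul, inv_mul_cancel, rho_one]

omit [Finite Y] in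
theorem rho_inv' (g : Y) (v : V) : ρ g (ρ g⁻¹ v) = v := by rw [← rho_mul, mul_inv_cancel, rho_one]

omit [Finite Y] in
theorem fix_inv {g : Y} {v : V} (h : ρ g v = v) : ρ g⁻¹ v = v := by
  conv_lhs => rw [← h]
  exact rho_inv g v

theorem mem_fs {H : Subgroup Y} {g : Y} : g ∈ fs H ↔ g ∈ H := by
  unfold fs
  rw [Set.Finite.mem_toFinset, SetLike.mem_coe]

theorem card_fs (H : Subgroup Y) : (fs H).card = Nat.card H := by
  unfold fs
  rw [← Nat.card_eq_card_finite_toFinset]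
  rfl

/-- the norm sum -/
noncomputable def Nm (ρ : Y →* (V ≃ₗ[ZMod 2] V)) (H : Subgroup Y) (v : V) : V := ∑ u ∈ fs H, ρ u v

theorem fix {H : Subgroup Y} {g : Y} (hg : g ∈ H) (v : V) : ρ g (Nm ρ H v) = Nm ρ H v := by
  unfold Nm
  rw [map_sum]
  refine Finset.sum_nbij' (fun u => g * u) (fun u => g⁻¹ * u) ?_ ?_ ?_ ?_ ?_
  · intro u hu
    exact mem_fs.2 (mul_mem hg (mem_fs.1 hu))
  · intro u hu
    exact mem_fs.2 (mul_mem (inv_mem hg) (mem_fs.1 hu))
  · intro u _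
    exact inv_mul_cancel_left g u
  · intro u _
    exact mul_inv_cancel_left g u
  · intro u _
    exact (rho_mul g u v).symm

/-- `Nm (H^g) (g v) = g (Nm H v)`, with `H'` the conjugate -/
theorem conj {H H' : Subgroup Y} {g : Y} (h1 : ∀ u ∈ H, g * u * g⁻¹ ∈ H') (h2 : ∀ u ∈ H', g⁻¹ * u * g ∈ H)
    (v : V) : Nm ρ H' (ρ g v) = ρ g (Nm ρ H v) := by
  unfold Nm
  rw [map_sum]
  symm
  refine Finset.sum_nbij' (fun u => g * u * g⁻¹) (fun u => g⁻¹ * u * g) ?_ ?_ ?_ ?_ ?_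
  · intro u hu
    exact mem_fs.2 (h1 u (mem_fs.1 hu))
  · intro u hu
    exact mem_fs.2 (h2 u (mem_fs.1 hu))
  · intro u _
    group
  · intro u _
    group
  · intro u _
    rw [← rho_mul, ← rho_mul]
    congr 2
    group

/-- product decomposition -/
theorem prod {H K L : Subgroup Y} (h1 : ∀ k ∈ K, ∀ l ∈ L, k * l ∈ H)
    (h2 : ∀ g ∈ H, ∃ k ∈ K, ∃ l ∈ L, g = k * l) (h3 : ∀ g ∈ K, g ∈ L → g = 1) (v : V) :
    Nm ρ H v = Nm ρ K (Nm ρ L v) := by
  classical
  unfold Nm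
  have e1 : ∀ k ∈ fs K, ρ k (∑ u ∈ fs L, ρ u v) = ∑ l ∈ fs L, ρ (k * l) v := by
    intro k _
    rw [map_sum]
    exact Finset.sum_congr rfl fun l _ => (rho_mul k l v).symm
  rw [Finset.sum_congr rfl e1, ← Finset.sum_product']
  symm
  refine Finset.sum_bij (fun p _ => p.1 * p.2) ?_ ?_ ?_ ?_
  · intro p hp
    rw [Finset.mem_product] at hp
    exact mem_fs.2 (h1 _ (mem_fs.1 hp.1) _ (mem_fs.1 hp.2))
  · rintro ⟨k, l⟩ hp ⟨k', l'⟩ hp' (e : k * l = k' * l')
    rw [Finset.mem_product] at hp hp'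
    have ek : k'⁻¹ * k = l' * l⁻¹ := by
      have : k = k' * l' * l⁻¹ := by rw [← e]; group
      rw [this]; group
    have e2 : k'⁻¹ * k = 1 := h3 _ (mul_mem (inv_mem (mem_fs.1 hp'.1)) (mem_fs.1 hp.1)) (by
      rw [ek]; exact mul_mem (mem_fs.1 hp'.2) (inv_mem (mem_fs.1 hp.2)))
    have e3 : k = k' := (inv_mul_eq_one.1 e2).symm
    subst e3
    rw [mul_left_cancel e]
  · intro g hg
    obtain ⟨k, hk, l, hl, e⟩ := h2 g (mem_fs.1 hg)
    exact ⟨(k, l), Finset.mem_product.2 ⟨mem_fs.2 hk, mem_fs.2 hl⟩, e.symm⟩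
  · intro p _
    rfl

/-- norm sums along a subgroup: if `Nm Y0 c = 0` then `Nm U1 c = 0` -/
theorem zero_of_le {Y0 U1 : Subgroup Y} (hle : Y0 ≤ U1) {c : V} (h0 : Nm ρ Y0 c = 0) : Nm ρ U1 c = 0 := by
  classical
  have key : ∀ r ∈ U1, ∑ u ∈ fs U1 with (QuotientGroup.mk u : Y ⧸ Y0) = QuotientGroup.mk r, ρ u c =
      ρ r (Nm ρ Y0 c) := by
    intro r hr
    unfold Nm
    rw [map_sum]
    symm
    refine Finset.sum_nbij' (fun u => r * u) (fun u => r⁻¹ * u) ?_ ?_ ?_ ?_ ?_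
    · intro u hu
      rw [Finset.mem_filter]
      refine ⟨mem_fs.2 (mul_mem hr (hle (mem_fs.1 hu))), ?_⟩
      rw [QuotientGroup.eq]
      have : (r * u)⁻¹ * r = u⁻¹ := by group
      rw [this]
      exact inv_mem (mem_fs.1 hu)
    · intro u hu
      rw [Finset.mem_filter, QuotientGroup.eq] at hu
      rw [mem_fs]
      have : r⁻¹ * u = (u⁻¹ * r)⁻¹ := by group
      simp only [this]
      exact inv_mem hu.2
    · intro u _
      exact inv_mul_cancel_left r u
    · intro u _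
      exact mul_inv_cancel_left r u
    · intro u _
      exact (rho_mul r u c).symm
  unfold Nm
  rw [← Finset.sum_fiberwise_of_maps_to (t := (fs U1).image (fun u => (QuotientGroup.mk u : Y ⧸ Y0)))
    (g := fun u => (QuotientGroup.mk u : Y ⧸ Y0)) (fun u hu => Finset.mem_image_of_mem _ hu)]
  refine Finset.sum_eq_zero fun q hq => ?_
  obtain ⟨r, hr, rfl⟩ := Finset.mem_image.1 hq
  rw [key r (mem_fs.1 hr), h0, map_zero]

omit [Finite Y] in
theorem two_nsmul' (a : V) : 2 • a = 0 := by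
  have h1 : (2 : ZMod 2) • a = 0 := by
    rw [show (2 : ZMod 2) = 0 from rfl, zero_smul]
  rw [← h1, two_smul (ZMod 2) a, two_nsmul]

/-- if `Nm Y0 c = a` is fixed by the 2-group `U1 > Y0` then `Nm U1 c = 0` -/
theorem eq_of_le {Y0 U1 : Subgroup Y} (hle : Y0 ≤ U1) {c a : V} (h0 : Nm ρ Y0 c = a) (hU : ∀ u ∈ U1, ρ u a = a)
    (h2 : IsPGroup 2 ↥U1) (h1 : Nm ρ U1 c ≠ 0) : Y0 = U1 := by
  classical
  have key : ∀ r ∈ U1, ∑ u ∈ fs U1 with (QuotientGroup.mk u : Y ⧸ Y0) = QuotientGroup.mk r, ρ u c =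
      ρ r (Nm ρ Y0 c) := by
    intro r hr
    unfold Nm
    rw [map_sum]
    symm
    refine Finset.sum_nbij' (fun u => r * u) (fun u => r⁻¹ * u) ?_ ?_ ?_ ?_ ?_
    · intro u hu
      rw [Finset.mem_filter]
      refine ⟨mem_fs.2 (mul_mem hr (hle (mem_fs.1 hu))), ?_⟩
      rw [QuotientGroup.eq]
      have : (r * u)⁻¹ * r = u⁻¹ := by group
      rw [this]
      exact inv_mem (mem_fs.1 hu)
    · intro u hu
      rw [Finset.mem_filter, QuotientGroup.eq] at hu
      rw [mem_fs]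
      have : r⁻¹ * u = (u⁻¹ * r)⁻¹ := by group
      simp only [this]
      exact inv_mem hu.2
    · intro u _
      exact inv_mul_cancel_left r u
    · intro u _
      exact mul_inv_cancel_left r u
    · intro u _
      exact (rho_mul r u c).symm
  have hcard : ∀ r ∈ U1, ((fs U1).filter fun u => (QuotientGroup.mk u : Y ⧸ Y0) = QuotientGroup.mk r).card =
      (fs Y0).card := by
    intro r hr
    symm
    refine Finset.card_nbij' (fun u => r * u) (fun u => r⁻¹ * u) ?_ ?_ ?_ ?_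
    · intro u hu
      rw [Finset.mem_coe, Finset.mem_filter]
      refine ⟨mem_fs.2 (mul_mem hr (hle (mem_fs.1 hu))), ?_⟩
      rw [QuotientGroup.eq]
      have : (r * u)⁻¹ * r = u⁻¹ := by group
      rw [this]
      exact inv_mem (mem_fs.1 hu)
    · intro u hu
      rw [Finset.mem_coe, Finset.mem_filter, QuotientGroup.eq] at hu
      rw [Finset.mem_coe, mem_fs]
      have : r⁻¹ * u = (u⁻¹ * r)⁻¹ := by group
      simp only [this]
      exact inv_mem hu.2
    · intro u _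
      exact inv_mul_cancel_left r u
    · intro u _
      exact mul_inv_cancel_left r u
  set t := (fs U1).image (fun u => (QuotientGroup.mk u : Y ⧸ Y0)) with ht
  have hmaps : ∀ u ∈ fs U1, (fun u => (QuotientGroup.mk u : Y ⧸ Y0)) u ∈ t := fun u hu =>
    Finset.mem_image_of_mem _ hu
  have hsum : Nm ρ U1 c = t.card • a := by
    unfold Nm
    rw [← Finset.sum_fiberwise_of_maps_to hmaps]
    rw [← Finset.sum_const]
    refine Finset.sum_congr rfl fun q hq => ?_
    obtain ⟨r, hr, rfl⟩ := Finset.mem_image.1 hq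
    rw [key r (mem_fs.1 hr), h0, hU r (mem_fs.1 hr)]
  have hcards : (fs U1).card = t.card * (fs Y0).card := by
    rw [Finset.card_eq_sum_card_fiberwise (f := fun u => (QuotientGroup.mk u : Y ⧸ Y0)) (t := t)
      (fun u hu => hmaps u hu)]
    rw [← smul_eq_mul, ← Finset.sum_const]
    refine Finset.sum_congr rfl fun q hq => ?_
    obtain ⟨r, hr, rfl⟩ := Finset.mem_image.1 hq
    exact hcard r (mem_fs.1 hr)
  obtain ⟨m, hm⟩ := IsPGroup.iff_card.1 h2
  rw [← card_fs, hcards] at hm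
  obtain ⟨j, -, hj⟩ := (Nat.dvd_prime_pow Nat.prime_two).1 (Dvd.intro _ hm)
  have hj0 : j = 0 := by
    by_contra hj0
    apply h1
    obtain ⟨i, rfl⟩ := Nat.exists_eq_succ_of_ne_zero hj0
    rw [hsum, hj, pow_succ, mul_comm, mul_nsmul', smul_comm, two_nsmul', smul_zero]
  rw [hj0, pow_zero] at hj
  rw [hj, one_mul, card_fs, card_fs] at hcards
  exact Subgroup.eq_of_le_of_card_ge hle hcards.le

/-- **The covering lemma.** -/
theorem cover {U1 O X0 : Subgroup Y} {c a : V} (hO : ∀ o ∈ O, ∀ y ∈ U1, y⁻¹ * o * y ∈ O)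
    (hX : ∀ x ∈ X0, ∃ y ∈ U1, ∃ o ∈ O, x = y * o) (hOc : ∀ o ∈ O, ρ o c = c)
    (hfix : ∀ v, (∀ x ∈ X0, ρ x v = v) → v = 0 ∨ v = a) (ha : a ≠ 0) (hUa : ∀ u ∈ U1, ρ u a = a)
    (hNm : Nm ρ U1 c = a) (h2 : IsPGroup 2 ↥U1) : ∀ u ∈ U1, ∃ x ∈ X0, u⁻¹ * x ∈ O := by
  have hO' : ∀ o ∈ O, ∀ y ∈ U1, y * o * y⁻¹ ∈ O := by
    intro o ho y hy
    have := hO o ho y⁻¹ (inv_mem hy)
    rwa [inv_inv] at this
  let Y0 : Subgroup Y :=
    { carrier := {y | y ∈ U1 ∧ ∃ x ∈ X0, y⁻¹ * x ∈ O}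
      one_mem' := ⟨one_mem _, 1, one_mem _, by rw [inv_one, one_mul]; exact one_mem _⟩
      mul_mem' := by
        rintro y z ⟨hy, x, hx, hyx⟩ ⟨hz, x', hx', hzx⟩
        refine ⟨mul_mem hy hz, x * x', mul_mem hx hx', ?_⟩
        have e : (y * z)⁻¹ * (x * x') = (z⁻¹ * (y⁻¹ * x) * z) * (z⁻¹ * x') := by group
        rw [e]
        exact mul_mem (hO _ hyx _ hz) hzx
      inv_mem' := by
        rintro y ⟨hy, x, hx, hyx⟩
        refine ⟨inv_mem hy, x⁻¹, inv_mem hx, ?_⟩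
        have e : (y⁻¹)⁻¹ * x⁻¹ = y * (y⁻¹ * x)⁻¹ * y⁻¹ := by group
        rw [e]
        exact hO' _ (inv_mem hyx) _ hy }
  have hY0 : ∀ y, y ∈ Y0 ↔ y ∈ U1 ∧ ∃ x ∈ X0, y⁻¹ * x ∈ O := fun y => Iff.rfl
  have hle : Y0 ≤ U1 := fun y hy => hy.1
  have h0 : ∀ x ∈ X0, ρ x (Nm ρ Y0 c) = Nm ρ Y0 c := by
    intro x hx
    obtain ⟨y, hy, o, ho, rfl⟩ := hX x hx
    have hyY : y ∈ Y0 := (hY0 y).2 ⟨hy, _, hx, by rw [inv_mul_cancel_left]; exact ho⟩
    rw [rho_mul]
    have e : ρ o (Nm ρ Y0 c) = Nm ρ Y0 c := by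
      unfold Nm
      rw [map_sum]
      refine Finset.sum_congr rfl fun u hu => ?_
      have hu' := hle (mem_fs.1 hu)
      rw [← rho_mul]
      have e1 : o * u = u * (u⁻¹ * o * u) := by group
      rw [e1, rho_mul, hOc _ (hO o ho u hu')]
    rw [e]
    exact fix hyY c
  have hne : Nm ρ Y0 c ≠ 0 := by
    intro h
    have := zero_of_le (ρ := ρ) hle h
    rw [hNm] at this
    exact ha this
  have hY : Y0 = U1 := eq_of_le hle ((hfix _ h0).resolve_left hne) hUa h2 (by rw [hNm]; exact ha)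
  intro u hu
  rw [← hY] at hu
  exact ((hY0 u).1 hu).2

end Cfsg.Agent.Omega.EH3.Kf.Nm

end

section


/-!
# THEOREM A of the Lie rows (helper227; blueprints/OMEGA-EH3-KF3-helper227.md (A))

`Core cs h T n X ρ a X0` : what is used. For every set `K` of nodes moving `a`:
* `nm_simple` : the norm sum of `X_i` on `n_i a` is `a`;
* `nm_inv` : the norm sum of `U_w` on `n_w a` is `a` for `w` in `W_K`;
* `thmA` : `X0` covers `U / O(K)`, `O(K) = VJ cs h X K`.
-/

set_option autoImplicit false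

namespace Cfsg.Agent.Omega.EH3.Kf.ThmA

open CoxeterSystem Cfsg.Agent.ChevalleyStructure.CoxeterGeom Cfsg.Agent.Tits.Roots Cfsg.Agent.Tits.Core
  Cfsg.Agent.Tits.RootComb Cfsg.Agent.Nodes.Comb Cfsg.Agent.Nodes.Reps Cfsg.Agent.Nodes.BNOf
  Cfsg.Agent.Nodes.StabComb Cfsg.Agent.Nodes.Bruhat Cfsg.Agent.Nodes.LeviDec Cfsg.Agent.Tits.Exchange
  Cfsg.Agent.Omega.EH3.Kf.Base Cfsg.Agent.Omega.EH3.Kf.Nm

variable {I W Y V : Type*} [Fintype I] [DecidableEq I] [Group W] [Group Y] [AddCommGroup V]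
    [Module (ZMod 2) V] {M : CoxeterMatrix I} {cs : CoxeterSystem M W} {A : I → I → ℤ} {h : IsCartan M A}
    {T : Subgroup Y} {n : I → Y} {X : (I → ℤ) → Subgroup Y} {ρ : Y →* (V ≃ₗ[ZMod 2] V)} {a : V}
    {X0 : Subgroup Y}

/-- the stabiliser of a vector -/
def St (ρ : Y →* (V ≃ₗ[ZMod 2] V)) (v : V) : Subgroup Y where
  carrier := {g | ρ g v = v}
  one_mem' := rho_one v
  mul_mem' := by
    intro g k hg hk
    change ρ (g * k) v = v
    have hk' : ρ k v = v := hk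
    rw [rho_mul, hk']
    exact hg
  inv_mem' := by
    intro g hg
    exact fix_inv hg

theorem mem_St {v : V} {g : Y} : g ∈ St ρ v ↔ ρ g v = v := Iff.rfl

/-- What Theorem A uses. -/
structure Core {I W Y V : Type*} [Fintype I] [DecidableEq I] [Group W] [Group Y] [AddCommGroup V]
    [Module (ZMod 2) V] {M : CoxeterMatrix I} (cs : CoxeterSystem M W) {A : I → I → ℤ} (h : IsCartan M A)
    (T : Subgroup Y) (n : I → Y) (X : (I → ℤ) → Subgroup Y) (ρ : Y →* (V ≃ₗ[ZMod 2] V))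
    (a : V) (X0 : Subgroup Y) : Prop where
  rgd : RGD cs h 2 T n X
  a_ne : a ≠ 0
  fixB : ∀ g ∈ RGD.B cs h T X, ρ g a = a
  le : X0 ≤ RGD.Sup X (RGD.Pos cs h)
  fix : ∀ v, (∀ x ∈ X0, ρ x v = v) → v = 0 ∨ v = a

theorem _root_.Cfsg.Agent.Omega.EH3.Kf.Base.Row.core {b : LinearMap.BilinForm (ZMod 2) V}
    {D : Submodule (ZMod 2) V} {w : ℕ} (R : Row cs h T n X ρ b a D X0 w) : Core cs h T n X ρ a X0 :=
  ⟨R.rgd, R.a_ne, R.fixB, R.le, R.fix⟩

/-- a nontrivial element of `X_{-i}` moves `a` when node `i` does -/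
theorem ne_of_neg (R : Core cs h T n X ρ a X0) {i : I} (hi : ρ (n i) a ≠ a) {u : Y} (hu : u ∈ X (-sr i))
    (hu1 : u ≠ 1) : ρ u a ≠ a := by
  intro he
  obtain ⟨c, hc, t, ht, d, hd, e⟩ := R.rgd.rk1 i u hu hu1
  apply hi
  have h1 : ρ c a = a := R.fixB c (RGD.X_le_B (isRoot_sr cs h i) (sr_nonneg i) hc)
  have h2 : ρ d a = a := R.fixB d (RGD.X_le_B (isRoot_sr cs h i) (sr_nonneg i) hd)
  have h3 : ρ t a = a := R.fixB t (RGD.T_le_B ht)
  have h4 : n i = t⁻¹ * (c⁻¹ * (u * d⁻¹)) := by rw [e]; group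
  rw [h4, rho_mul, rho_mul, rho_mul, fix_inv h2, he, fix_inv h1, fix_inv h3]

/-- the images of `a` under `X_i n_i`, and `n_i` acts on them -/
theorem nm_simple [Finite Y] (R : Core cs h T n X ρ a X0) {i : I} (hi : ρ (n i) a ≠ a) :
    Nm ρ (X (sr i)) (ρ (n i) a) = a := by
  classical
  have hB : ∀ g ∈ X (sr i), ρ g a = a := fun g hg =>
    R.fixB g (RGD.X_le_B (isRoot_sr cs h i) (sr_nonneg i) hg)
  have hT : ∀ g ∈ T, ρ g a = a := fun g hg => R.fixB g (RGD.T_le_B hg)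
  have hV : ∀ g ∈ RGD.Sup X (RGD.PosNe cs h i), ρ g a = a := fun g hg =>
    R.fixB g (RGD.U_le_B (RGD.Sup_mono (S := RGD.PosNe cs h i) (S' := RGD.Pos cs h)
      (fun z hz => ⟨hz.1, hz.2.1⟩) hg))
  set e := Nm ρ (X (sr i)) (ρ (n i) a) with he
  -- `U` fixes `e`
  have hU : RGD.Sup X (RGD.Pos cs h) ≤ St ρ e := by
    rw [R.rgd.Upos_eq i]
    refine sup_le (fun g hg => fix hg _) ?_
    intro v hv
    rw [mem_St, he]
    unfold Nm
    rw [map_sum]
    refine Finset.sum_congr rfl fun u hu => ?_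
    have hu' := mem_fs.1 hu
    have h1 : u⁻¹ * v * u ∈ RGD.Sup X (RGD.PosNe cs h i) := by
      have h2 := R.rgd.X_le_normalizer_V i (inv_mem hu')
      have h3 := (Subgroup.mem_normalizer_iff.1 h2 v).1 hv
      rwa [inv_inv] at h3
    have h2 : (n i)⁻¹ * (u⁻¹ * v * u) * n i ∈ RGD.Sup X (RGD.PosNe cs h i) := by
      rw [← mem_cj, R.rgd.cj_n_V i]
      exact h1
    rw [← rho_mul, ← rho_mul, ← rho_mul]
    have h3 : v * u * n i = u * n i * ((n i)⁻¹ * (u⁻¹ * v * u) * n i) := by group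
    rw [h3, rho_mul, hV _ h2]
  rcases R.fix e (fun x hx => hU (R.le hx)) with h0 | h0
  · exfalso
    apply hi
    -- the set
    set f : Y → V := fun u => ρ u (ρ (n i) a) with hf
    have hinj : Set.InjOn f (fs (X (sr i)) : Set Y) := by
      intro u hu u' hu' huu
      have hu := mem_fs.1 (Finset.mem_coe.1 hu)
      have hu' := mem_fs.1 (Finset.mem_coe.1 hu')
      by_contra hne
      have h1 : (n i)⁻¹ * (u'⁻¹ * u) * n i ∈ X (-sr i) := by
        have := R.rgd.conj_mem' (rp_simple cs R.rgd.nsys i) (isRoot_sr cs h i) (mul_mem (inv_mem hu') hu)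
        rwa [inv_simple, rep_simple_sr] at this
      have h2 : (n i)⁻¹ * (u'⁻¹ * u) * n i ≠ 1 := by
        intro h3
        apply hne
        have h4 : u = u' * (n i * ((n i)⁻¹ * (u'⁻¹ * u) * n i) * (n i)⁻¹) := by group
        rw [h4, h3]; group
      apply ne_of_neg R hi h1 h2
      have h3 : (n i)⁻¹ * (u'⁻¹ * u) * n i = (n i)⁻¹ * (u'⁻¹ * (u * n i)) := by group
      rw [h3, rho_mul, rho_mul, rho_mul]
      have h4 : ρ u (ρ (n i) a) = ρ u' (ρ (n i) a) := huu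
      rw [h4, rho_inv, rho_inv]
    have hnot : a ∉ (fs (X (sr i))).image f := by
      intro hmem
      obtain ⟨u, hu, hu'⟩ := Finset.mem_image.1 hmem
      apply hi
      have h1 : ρ u⁻¹ (ρ u (ρ (n i) a)) = ρ u⁻¹ a := by rw [show ρ u (ρ (n i) a) = a from hu']
      rw [rho_inv, hB _ (inv_mem (mem_fs.1 hu))] at h1
      exact h1
    set Om : Finset V := insert a ((fs (X (sr i))).image f) with hOm
    have hsum : ∑ v ∈ Om, v = a := by
      rw [hOm, Finset.sum_insert hnot, Finset.sum_image hinj]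
      have : ∑ x ∈ fs (X (sr i)), f x = e := rfl
      rw [this, h0, add_zero]
    have hmaps : ∀ v ∈ Om, ρ (n i) v ∈ Om := by
      intro v hv
      rw [hOm, Finset.mem_insert] at hv
      rcases hv with rfl | hv
      · rw [hOm, Finset.mem_insert]
        right
        exact Finset.mem_image.2 ⟨1, mem_fs.2 (one_mem _), rho_one _⟩
      obtain ⟨u, hu, rfl⟩ := Finset.mem_image.1 hv
      have hu' := mem_fs.1 hu
      by_cases hu1 : u = 1
      · subst hu1
        rw [hOm, Finset.mem_insert]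
        left
        simp only [hf]
        rw [rho_one, ← rho_mul]
        exact hT _ (R.rgd.sq_mem_T i)
      · rw [hOm, Finset.mem_insert]
        right
        have h1 : n i * u * (n i)⁻¹ ∈ X (-sr i) := by
          have := R.rgd.conj_mem (rp_simple cs R.rgd.nsys i) (isRoot_sr cs h i) hu'
          rwa [rep_simple_sr] at this
        have h2 : n i * u * (n i)⁻¹ ≠ 1 := by
          intro h3
          apply hu1
          have h4 : u = (n i)⁻¹ * (n i * u * (n i)⁻¹) * n i := by group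
          rw [h4, h3]; group
        obtain ⟨c, hc, t, ht, d, hd, e'⟩ := R.rgd.rk1 i _ h1 h2
        refine Finset.mem_image.2 ⟨c, mem_fs.2 hc, ?_⟩
        simp only [hf]
        have ht' : (n i)⁻¹ * t * n i ∈ T := by
          have h1 := (mem_normalizer_iff_cj.1 ((rp_simple cs R.rgd.nsys i).inv.mem_normalizer))
          have h2 : (n i)⁻¹ * t * (n i)⁻¹⁻¹ ∈ cj (n i)⁻¹ T := conj_mem_cj.2 ht
          rwa [h1, inv_inv] at h2
        have h5 : n i * u * n i = c * (n i * (((n i)⁻¹ * t * n i) * (d * (n i * n i)))) := by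
          have h6 : n i * u * n i = (n i * u * (n i)⁻¹) * (n i * n i) := by group
          rw [h6, e']; group
        have h7 : ρ (n i * u * n i) a = ρ c (ρ (n i) a) := by
          rw [h5, rho_mul c, rho_mul (n i), rho_mul ((n i)⁻¹ * t * n i), rho_mul d,
            hT _ (R.rgd.sq_mem_T i), hB d hd, hT _ ht']
        rw [← h7, ← rho_mul, ← rho_mul]
    have himage : Om.image (ρ (n i)) = Om := by
      refine Finset.eq_of_subset_of_card_le ?_ ?_
      · intro v hv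
        obtain ⟨v', hv', rfl⟩ := Finset.mem_image.1 hv
        exact hmaps v' hv'
      · rw [Finset.card_image_of_injective _ (ρ (n i)).injective]
    have h1 : ρ (n i) (∑ v ∈ Om, v) = ∑ v ∈ Om, v := by
      rw [map_sum]
      conv_rhs => rw [← himage]
      rw [Finset.sum_image (fun v _ v' _ hvv => (ρ (n i)).injective hvv)]
    rw [hsum] at h1
    exact h1
  · exact h0

/-- the trivial norm -/
theorem nm_bot [Finite Y] (v : V) : Nm ρ (⊥ : Subgroup Y) v = v := by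
  unfold Nm
  rw [Finset.sum_eq_single 1 ?_ ?_]
  · exact rho_one v
  · intro u hu hu1
    exact absurd (Subgroup.mem_bot.1 (mem_fs.1 hu)) hu1
  · intro h
    exact absurd (mem_fs.2 (one_mem _)) h

/-- `Sup X (Inv w)` splits at a left descent -/
theorem nm_step [Finite W] [Finite Y] (R : RGD cs h 2 T n X) {i : I} {w : W} (hneg : rep cs h w⁻¹ (sr i) ≤ 0) (v : V) :
    Nm ρ (RGD.Sup X (RGD.Inv cs h w)) (ρ (n i) v) =
      Nm ρ (X (sr i)) (ρ (n i) (Nm ρ (RGD.Sup X (RGD.Inv cs h (cs.simple i * w))) v)) := by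
  have hmem : sr i ∈ RGD.Inv cs h w := (RGD.mem_inv_iff hneg).2 (Or.inl rfl)
  have hss : ∀ x : I → ℤ, rep cs h (cs.simple i) (rep cs h (cs.simple i) x) = x := by
    intro x
    rw [← rep_mul_apply, cs.simple_mul_simple_self, map_one, Module.End.one_apply]
  have hL1 : cj (n i) (RGD.Sup X (RGD.Inv cs h (cs.simple i * w))) ≤ RGD.Sup X (RGD.Inv cs h w) := by
    rw [RGD.cj_Sup]
    refine iSup_le ?_
    rintro ⟨x, hx⟩
    rw [R.conj i x hx.1]
    refine RGD.le_Sup ((RGD.mem_inv_iff hneg).2 (Or.inr ?_))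
    rw [hss]
    exact hx
  have hL2 : RGD.Sup X (RGD.Inv cs h w \ {sr i}) ≤ cj (n i) (RGD.Sup X (RGD.Inv cs h (cs.simple i * w))) := by
    refine RGD.Sup_le ?_
    rintro z ⟨hz, hz0⟩
    have h2 := ((RGD.mem_inv_iff hneg).1 hz).resolve_left hz0
    have h3 := cj_mono (n i) (RGD.le_Sup (X := X) h2)
    rw [R.conj i _ h2.1, hss] at h3
    exact h3
  rw [prod (K := X (sr i)) (L := cj (n i) (RGD.Sup X (RGD.Inv cs h (cs.simple i * w))))]
  · rw [Nm.conj (H := RGD.Sup X (RGD.Inv cs h (cs.simple i * w))) (g := n i)]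
    · intro u hu
      exact conj_mem_cj.2 hu
    · intro u hu
      exact mem_cj.1 hu
  · intro k hk l hl
    exact mul_mem (RGD.le_Sup hmem hk) (hL1 hl)
  · intro g hg
    have hcl : ∀ y ∈ RGD.Inv cs h w, y ≠ sr i → ∀ z, Btwn cs h (sr i) y z → z ∈ RGD.Inv cs h w := by
      intro y hy _ z hz
      exact ⟨hz.1, RGD.nonneg_of_btwn (sr_nonneg i) hy.2.1 hz, RGD.nonpos_of_btwn hneg hy.2.2 (hz.act w⁻¹)⟩
    obtain ⟨r, hr, u, hu, e⟩ := exists_mul R (S := RGD.Inv cs h w) (fun x hx => ⟨hx.1, hx.2.1⟩) hmem hcl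
      (a := g⁻¹) (inv_mem hg)
    refine ⟨u⁻¹, inv_mem hu, r⁻¹, inv_mem (hL2 hr), ?_⟩
    rw [← inv_inv g, e, mul_inv_rev]
  · intro g hg hg'
    rw [mem_cj] at hg'
    have h1 : RGD.Sup X (RGD.Inv cs h (cs.simple i * w)) ≤ RGD.B cs h T X :=
      le_trans (RGD.Sup_mono (S := RGD.Inv cs h (cs.simple i * w)) (S' := RGD.Pos cs h)
        fun z hz => ⟨hz.1, hz.2.1⟩) RGD.U_le_B
    refine eq_one_of_conj_mem_B R hg (k := (n i)⁻¹) ?_ ?_
    · have := (rp_simple cs R.nsys i).inv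
      rwa [inv_simple] at this
    · rw [inv_inv]
      exact h1 hg'

/-- (A2) -/
theorem nm_inv [Finite W] [Finite Y] (R : Core cs h T n X ρ a X0) {K : Set I} (hK : K ⊆ Mv ρ n a) (ω : List I) :
    (∀ i ∈ ω, i ∈ K) → cs.IsReduced ω → ∀ g, Rp cs R.rgd.nsys (cs.wordProd ω) g →
      Nm ρ (RGD.Sup X (RGD.Inv cs h (cs.wordProd ω))) (ρ g a) = a := by
  induction ω with
  | nil =>
    intro _ _ g hg
    rw [wordProd_nil] at hg ⊢
    have h1 : RGD.Sup X (RGD.Inv cs h (1 : W)) = ⊥ := by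
      rw [RGD.inv_one_eq, eq_bot_iff]
      exact RGD.Sup_le (fun z hz => absurd hz (by simp))
    rw [h1, nm_bot]
    exact R.fixB g (RGD.T_le_B (hg.mem_of_one))
  | cons i ω ih =>
    intro hω hred g hg
    have hred' : cs.IsReduced ω := by
      have := hred.drop 1
      simpa using this
    have hlen : cs.length (cs.wordProd (i :: ω)) = cs.length (cs.wordProd ω) + 1 := by
      rw [hred, hred']; simp
    have hsw : cs.simple i * cs.wordProd (i :: ω) = cs.wordProd ω := by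
      rw [wordProd_cons, ← mul_assoc, cs.simple_mul_simple_self, one_mul]
    have hneg : rep cs h (cs.wordProd (i :: ω))⁻¹ (sr i) ≤ 0 := by
      refine nonpos_of_lt cs h _ i ?_
      rw [cs.length_inv, ← cs.length_inv ((cs.wordProd (i :: ω))⁻¹ * cs.simple i), mul_inv_rev, inv_inv,
        cs.inv_simple, hsw]
      omega
    have hg' : Rp cs R.rgd.nsys (cs.wordProd ω) ((n i)⁻¹ * g) := by
      have := (rp_simple cs R.rgd.nsys i).inv.mul hg
      rwa [inv_simple, hsw] at this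
    have e : ρ g a = ρ (n i) (ρ ((n i)⁻¹ * g) a) := by
      rw [← rho_mul, mul_inv_cancel_left]
    rw [e, nm_step R.rgd hneg, hsw, ih (fun j hj => hω j (List.mem_cons_of_mem _ hj)) hred' _ hg']
    exact nm_simple R (hK (hω i (by simp)))

/-- the inversion set of the longest element of `W_K` -/
theorem inv_longest [Finite W] {K : Set I} {w : W} (hw : IsLongest cs K w) : RGD.Inv cs h w = PosJ cs h K := by
  ext x
  constructor
  · rintro ⟨hx, h0, h1⟩
    rcases mem_PosJ_or_NotJ K hx h0 with h2 | h2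
    · exact h2
    · exfalso
      have h3 := NotJ.act (inv_mem hw.mem) h2
      exact (hx.act w⁻¹).not_pos_neg h3.2.1 h1
  · intro hx
    refine ⟨hx.1, hx.2.1, ?_⟩
    rw [hw.inv_eq]
    exact rep_longest_nonpos hw hx

/-- **THEOREM A** : `X0` covers `U / O(K)` for every set `K` of nodes moving `a`. -/
theorem thmA [Finite W] [Finite Y] (R : Core cs h T n X ρ a X0) {K : Set I} (hK : K ⊆ Mv ρ n a) :
    ∀ u ∈ RGD.Sup X (RGD.Pos cs h), ∃ x ∈ X0, u⁻¹ * x ∈ VJ cs h X K := by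
  obtain ⟨w, hw⟩ := exists_isLongest cs K
  obtain ⟨ω, hω, hred, rfl⟩ := exists_reduced_of_mem_WJ cs hw.mem
  obtain ⟨g, hg⟩ := exists_rp (hN := R.rgd.nsys) (cs := cs) (cs.wordProd ω)
  have h1 := nm_inv R hK ω hω hred g hg
  rw [inv_longest hw] at h1
  have hgL : g ∈ LJ cs h T X K := rp_mem_LJ R.rgd hw.mem hg
  have hnorm : ∀ l ∈ LJ cs h T X K, ∀ o ∈ VJ cs h X K, l⁻¹ * o * l ∈ VJ cs h X K := by
    intro l hl o ho
    have h2 := LJ_le_normalizer_VJ R.rgd K (inv_mem hl)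
    have h3 := (Subgroup.mem_normalizer_iff.1 h2 o).1 ho
    rwa [inv_inv] at h3
  have hUL : UJ cs h X K ≤ LJ cs h T X K := le_trans UJ_le_BJ BJ_le_LJ
  have key := cover (ρ := ρ) (U1 := UJ cs h X K) (O := VJ cs h X K) (X0 := X0) (c := ρ g a) (a := a)
    (fun o ho y hy => hnorm y (hUL hy) o ho)
    (fun x hx => by
      obtain ⟨y, hy, o, ho, e⟩ := (mem_U_iff R.rgd (J := K)).1 (R.le hx)
      exact ⟨y, hy, o, ho, e⟩)
    (fun o ho => by
      have h2 : o * g = g * (g⁻¹ * o * g) := by group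
      rw [← rho_mul, h2, rho_mul, R.fixB _ (VJ_le_B K (hnorm g hgL o ho))])
    R.fix R.a_ne (fun u hu => R.fixB u (RGD.U_le_B (UJ_le_U K hu))) h1
    (R.rgd.isPGroup_of_pos fun x hx => ⟨hx.1, hx.2.1⟩)
  intro u hu
  obtain ⟨y, hy, o, ho, rfl⟩ := (mem_U_iff R.rgd (J := K)).1 hu
  obtain ⟨x, hx, hxo⟩ := key y hy
  refine ⟨x, hx, ?_⟩
  have e : (y * o)⁻¹ * x = o⁻¹ * (y⁻¹ * x) := by group
  rw [e]
  exact mul_mem (inv_mem ho) hxo

end Cfsg.Agent.Omega.EH3.Kf.ThmA

end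

section


/-!
# Modules for groups with a root group datum, defining characteristic 2 (helper810; KF3 (CR))

`Y` has a root group datum of characteristic 2 which generates it and acts on the `ZMod 2`-space `V`. `VU` is the space of
fixed points of `U = ⟨X x : x > 0⟩`. If `V` is irreducible with an invariant nondegenerate form then

* `span_eq_top` : `V` is spanned by `U⁻ V^U`;
* `irrU` : `V^U` is an irreducible `T`-module;
* `exists_ext` : every `T`-endomorphism of `V^U` extends to a `Y`-endomorphism of `V`;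
* `card_two` : if `T` is abelian and `End_Y V = {0, 1}` then `|V^U| = 2`.
-/

set_option autoImplicit false
set_option linter.unusedSectionVars false

namespace Cfsg.Agent.Omega.EH3.Kf.CR

open CoxeterSystem Cfsg.Agent.ChevalleyStructure.CoxeterGeom Cfsg.Agent.Tits.Roots Cfsg.Agent.Tits.Core
  Cfsg.Agent.Tits.RootComb Cfsg.Agent.Nodes.Comb Cfsg.Agent.Nodes.Reps Cfsg.Agent.Nodes.BNOf
  Cfsg.Agent.Nodes.StabComb Cfsg.Agent.Nodes.Bruhat Cfsg.Agent.Nodes.OppDec Cfsg.Agent.Tits.Exchange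
  Cfsg.Agent.Omega.EH3.Kf.Nm

/-! ### norms as linear maps -/

section Lin

variable {Y V : Type*} [Group Y] [AddCommGroup V] [Module (ZMod 2) V] {ρ : Y →* (V ≃ₗ[ZMod 2] V)}

/-- the fixed points of a subgroup -/
def fixS (ρ : Y →* (V ≃ₗ[ZMod 2] V)) (H : Subgroup Y) : Submodule (ZMod 2) V where
  carrier := {v | ∀ g ∈ H, ρ g v = v}
  add_mem' := by
    intro u v hu hv g hg
    rw [map_add, hu g hg, hv g hg]
  zero_mem' := by
    intro g _
    exact map_zero _
  smul_mem' := by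
    intro c v hv g hg
    rw [map_smul, hv g hg]

theorem mem_fixS {H : Subgroup Y} {v : V} : v ∈ fixS ρ H ↔ ∀ g ∈ H, ρ g v = v := Iff.rfl

theorem fixS_anti {H K : Subgroup Y} (hHK : H ≤ K) : fixS ρ K ≤ fixS ρ H := fun _ hv g hg => hv g (hHK hg)

/-- stable submodules -/
def Stab (ρ : Y →* (V ≃ₗ[ZMod 2] V)) (H : Subgroup Y) (E : Submodule (ZMod 2) V) : Prop :=
  ∀ g ∈ H, ∀ v ∈ E, ρ g v ∈ E

/-- the norm as a linear map -/
noncomputable def NmL [Finite Y] (ρ : Y →* (V ≃ₗ[ZMod 2] V)) (H : Subgroup Y) : V →ₗ[ZMod 2] V :=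
  ∑ u ∈ fs H, (ρ u).toLinearMap

theorem NmL_apply [Finite Y] (H : Subgroup Y) (v : V) : NmL ρ H v = Nm ρ H v := by
  unfold NmL Nm
  rw [LinearMap.sum_apply]
  rfl

theorem nm_add [Finite Y] (H : Subgroup Y) (v w : V) : Nm ρ H (v + w) = Nm ρ H v + Nm ρ H w := by
  rw [← NmL_apply, map_add, NmL_apply, NmL_apply]

theorem nm_sum [Finite Y] {ι : Type*} (s : Finset ι) (H : Subgroup Y) (f : ι → V) :
    Nm ρ H (∑ i ∈ s, f i) = ∑ i ∈ s, Nm ρ H (f i) := by
  rw [← NmL_apply, map_sum]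
  exact Finset.sum_congr rfl fun i _ => NmL_apply _ _

theorem nm_right [Finite Y] {H : Subgroup Y} {c : Y} (hc : c ∈ H) (v : V) : Nm ρ H (ρ c v) = Nm ρ H v := by
  unfold Nm
  refine Finset.sum_nbij' (fun u => u * c) (fun u => u * c⁻¹) ?_ ?_ ?_ ?_ ?_
  · intro u hu
    exact mem_fs.2 (mul_mem (mem_fs.1 hu) hc)
  · intro u hu
    exact mem_fs.2 (mul_mem (mem_fs.1 hu) (inv_mem hc))
  · intro u _
    exact mul_inv_cancel_right u c
  · intro u _
    exact inv_mul_cancel_right u c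
  · intro u _
    exact (rho_mul u c v).symm

theorem nm_of_fix [Finite Y] {H : Subgroup Y} {v : V} (hv : v ∈ fixS ρ H) : Nm ρ H v = Nat.card H • v := by
  unfold Nm
  rw [← card_fs, ← Finset.sum_const]
  exact Finset.sum_congr rfl fun u hu => hv u (mem_fs.1 hu)

theorem nm_of_fix_even [Finite Y] {H : Subgroup Y} {v : V} (hv : v ∈ fixS ρ H) (h2 : 2 ∣ Nat.card H) :
    Nm ρ H v = 0 := by
  obtain ⟨k, hk⟩ := h2
  rw [nm_of_fix hv, hk, mul_comm, mul_nsmul', two_nsmul', smul_zero]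

end Lin

variable {I W Y V : Type*} [Fintype I] [DecidableEq I] [Group W] [Group Y] [AddCommGroup V]
    [Module (ZMod 2) V] {M : CoxeterMatrix I} {cs : CoxeterSystem M W} {A : I → I → ℤ} {h : IsCartan M A}
    {T : Subgroup Y} {n : I → Y} {X : (I → ℤ) → Subgroup Y} {ρ : Y →* (V ≃ₗ[ZMod 2] V)}

/-- the fixed points of `U` -/
def VU (cs : CoxeterSystem M W) (h : IsCartan M A) (X : (I → ℤ) → Subgroup Y) (ρ : Y →* (V ≃ₗ[ZMod 2] V)) :
    Submodule (ZMod 2) V := fixS ρ (RGD.Sup X (RGD.Pos cs h))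

/-- the operator `e_i` -/
noncomputable def ei [Finite Y] (ρ : Y →* (V ≃ₗ[ZMod 2] V)) (X : (I → ℤ) → Subgroup Y) (n : I → Y) (i : I) :
    V →ₗ[ZMod 2] V := (NmL ρ (X (sr i))).comp (ρ (n i)).toLinearMap

theorem ei_apply [Finite Y] (i : I) (v : V) : ei ρ X n i v = Nm ρ (X (sr i)) (ρ (n i) v) := by
  unfold ei
  rw [LinearMap.comp_apply, NmL_apply]
  rfl

section A

variable [Finite Y] (R : RGD cs h 2 T n X)

include R

theorem conj_T {w : W} {g t : Y} (hg : Rp cs R.nsys w g) (ht : t ∈ T) : g * t * g⁻¹ ∈ T := by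
  have h1 := mem_normalizer_iff_cj.1 hg.mem_normalizer
  have h2 : g * t * g⁻¹ ∈ cj g T := conj_mem_cj.2 ht
  rwa [h1] at h2

theorem conj_T' {w : W} {g t : Y} (hg : Rp cs R.nsys w g) (ht : t ∈ T) : g⁻¹ * t * g ∈ T := by
  have := conj_T R hg.inv ht
  rwa [inv_inv] at this

theorem rn (i : I) : Rp cs R.nsys (cs.simple i) (n i) := rp_simple cs R.nsys i

theorem rn' (i : I) : Rp cs R.nsys (cs.simple i) (n i)⁻¹ := by
  have := (rp_simple cs R.nsys i).inv
  rwa [inv_simple] at this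

theorem conj_U {t : Y} (ht : t ∈ T) {u : Y} (hu : u ∈ RGD.Sup X (RGD.Pos cs h)) :
    t * u * t⁻¹ ∈ RGD.Sup X (RGD.Pos cs h) :=
  (Subgroup.mem_normalizer_iff.1 (R.T_le_normalizer_U ht) u).1 hu

theorem stab_VU : Stab ρ T (VU cs h X ρ) := by
  intro t ht v hv u hu
  have h1 : t⁻¹ * u * t ∈ RGD.Sup X (RGD.Pos cs h) := by
    have := conj_U R (inv_mem ht) hu
    rwa [inv_inv] at this
  have h2 : u * t = t * (t⁻¹ * u * t) := by group
  rw [← rho_mul, h2, rho_mul, hv _ h1]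

theorem ei_mem (i : I) {v : V} (hv : v ∈ VU cs h X ρ) : ei ρ X n i v ∈ VU cs h X ρ := by
  rw [ei_apply]
  have hV : ∀ g ∈ RGD.Sup X (RGD.PosNe cs h i), ρ g v = v := fun g hg =>
    hv g (RGD.Sup_mono (S := RGD.PosNe cs h i) (S' := RGD.Pos cs h) (fun z hz => ⟨hz.1, hz.2.1⟩) hg)
  set e := Nm ρ (X (sr i)) (ρ (n i) v) with he
  have hU : RGD.Sup X (RGD.Pos cs h) ≤ ThmA.St ρ e := by
    rw [R.Upos_eq i]
    refine sup_le (fun g hg => fix hg _) ?_
    intro v' hv'
    rw [ThmA.mem_St, he]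
    unfold Nm
    rw [map_sum]
    refine Finset.sum_congr rfl fun u hu => ?_
    have hu' := mem_fs.1 hu
    have h1 : u⁻¹ * v' * u ∈ RGD.Sup X (RGD.PosNe cs h i) := by
      have h2 := R.X_le_normalizer_V i (inv_mem hu')
      have h3 := (Subgroup.mem_normalizer_iff.1 h2 v').1 hv'
      rwa [inv_inv] at h3
    have h2 : (n i)⁻¹ * (u⁻¹ * v' * u) * n i ∈ RGD.Sup X (RGD.PosNe cs h i) := by
      rw [← mem_cj, R.cj_n_V i]
      exact h1
    rw [← rho_mul, ← rho_mul, ← rho_mul]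
    have h3 : v' * u * n i = u * n i * ((n i)⁻¹ * (u⁻¹ * v' * u) * n i) := by group
    rw [h3, rho_mul, hV _ h2]
  exact fun g hg => hU hg

theorem nm_tor {x : I → ℤ} (hx : IsRoot cs h x) {t : Y} (ht : t ∈ T) (v : V) :
    Nm ρ (X x) (ρ t v) = ρ t (Nm ρ (X x) v) := by
  have hc : ∀ s ∈ T, ∀ u ∈ X x, s * u * s⁻¹ ∈ X x := by
    intro s hs u hu
    rw [← R.tor x hx s hs]
    exact conj_mem_cj.2 hu
  refine Nm.conj (H := X x) (H' := X x) (g := t) (fun u hu => hc t ht u hu) (fun u hu => ?_) v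
  have := hc t⁻¹ (inv_mem ht) u hu
  rwa [inv_inv] at this

theorem ei_tor (i : I) {t : Y} (ht : t ∈ T) (v : V) :
    ρ t (ei ρ X n i v) = ei ρ X n i (ρ ((n i)⁻¹ * t * n i) v) := by
  rw [ei_apply, ei_apply, ← nm_tor R (isRoot_sr cs h i) ht, ← rho_mul, ← rho_mul]
  congr 2
  congr 1
  group

theorem ei_tor' (i : I) {t : Y} (ht : t ∈ T) (v : V) :
    ei ρ X n i (ρ t v) = ρ (n i * t * (n i)⁻¹) (ei ρ X n i v) := by
  rw [ei_tor R i (conj_T R (rn R i) ht)]
  congr 2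
  congr 1
  group

theorem even_X (i : I) : 2 ∣ Nat.card (X (sr i)) := by
  obtain ⟨u, hu, hu1⟩ := exists_ne_one R i
  obtain ⟨m, hm⟩ := IsPGroup.iff_card.1 (R.pgrp i)
  rw [hm]
  refine dvd_pow_self 2 ?_
  rintro rfl
  rw [pow_zero] at hm
  have h1 : X (sr i) = ⊥ := Subgroup.eq_bot_of_card_eq _ hm
  rw [h1] at hu
  exact hu1 (Subgroup.mem_bot.1 hu)

/-- `e_i e_i = e_i σ_i` on the fixed points of `U` -/
theorem ei_ei (i : I) : ∃ τ : Y → Y, (∀ b, τ b ∈ T) ∧ ∃ s : Finset Y, ∀ v ∈ VU cs h X ρ,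
    ei ρ X n i (ei ρ X n i v) = ei ρ X n i (∑ b ∈ s, ρ (τ b) v) := by
  classical
  have hrk : ∀ b : Y, ∃ t ∈ T, b ∈ X (sr i) → b ≠ 1 → ∃ c ∈ X (sr i), ∃ d ∈ X (sr i),
      n i * b * (n i)⁻¹ = c * t * n i * d := by
    intro b
    by_cases hb : b ∈ X (sr i) ∧ b ≠ 1
    · have h1 : n i * b * (n i)⁻¹ ∈ X (-sr i) := by
        have := R.conj_mem (rn R i) (isRoot_sr cs h i) hb.1
        rwa [rep_simple_sr] at this
      have h2 : n i * b * (n i)⁻¹ ≠ 1 := fun h3 => hb.2 (mul_eq_left.1 (mul_inv_eq_one.1 h3))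
      obtain ⟨c, hc, t, ht, d, hd, e⟩ := R.rk1 i _ h1 h2
      exact ⟨t, ht, fun _ _ => ⟨c, hc, d, hd, e⟩⟩
    · exact ⟨1, one_mem _, fun h1 h2 => absurd ⟨h1, h2⟩ hb⟩
  choose t ht hcd using hrk
  have hsq := R.sq_mem_T i
  refine ⟨fun b => (n i)⁻¹ * t b * n i * (n i * n i), fun b => mul_mem (conj_T' R (rn R i) (ht b)) hsq,
    (fs (X (sr i))).erase 1, ?_⟩
  intro v hv
  have hv2 : ρ (n i * n i) v ∈ VU cs h X ρ := stab_VU R _ hsq v hv
  have hX : ∀ {d : Y}, d ∈ X (sr i) → ∀ {w : V}, w ∈ VU cs h X ρ → ρ d w = w := fun hd w hw =>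
    hw _ (RGD.le_Sup (S := RGD.Pos cs h) ⟨isRoot_sr cs h i, sr_nonneg i⟩ hd)
  rw [map_sum]
  have e1 : ei ρ X n i (ei ρ X n i v) = ∑ b ∈ fs (X (sr i)), Nm ρ (X (sr i)) (ρ (n i * b * n i) v) := by
    rw [ei_apply, ei_apply]
    have : ρ (n i) (Nm ρ (X (sr i)) (ρ (n i) v)) = ∑ b ∈ fs (X (sr i)), ρ (n i * b * n i) v := by
      unfold Nm
      rw [map_sum]
      refine Finset.sum_congr rfl fun b _ => ?_
      rw [← rho_mul, ← rho_mul, mul_assoc]
    rw [this, nm_sum]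
  have h1 : (1 : Y) ∈ fs (X (sr i)) := mem_fs.2 (one_mem _)
  rw [e1, ← Finset.add_sum_erase _ _ h1]
  have e2 : Nm ρ (X (sr i)) (ρ (n i * 1 * n i) v) = 0 := by
    rw [mul_one]
    exact nm_of_fix_even (fun d hd => hX hd hv2) (even_X R i)
  rw [e2, zero_add]
  refine Finset.sum_congr rfl fun b hb => ?_
  rw [Finset.mem_erase] at hb
  obtain ⟨c, hc, d, hd, e⟩ := hcd b (mem_fs.1 hb.2) hb.1
  have e4 : ρ (n i * b * n i) v = ρ c (ρ (n i) (ρ ((n i)⁻¹ * t b * n i * (n i * n i)) v)) := by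
    have h5 : n i * b * n i = c * (t b * (n i * (d * (n i * n i)))) := by
      have : n i * b * n i = (n i * b * (n i)⁻¹) * (n i * n i) := by group
      rw [this, e]; group
    rw [h5, rho_mul c, rho_mul (t b), rho_mul (n i), rho_mul d, hX hd hv2, ← rho_mul (t b)]
    congr 1
    rw [← rho_mul, ← rho_mul (n i)]
    congr 2
    group
  rw [e4, nm_right hc, ei_apply]

/-! ### the norms for elements of the Weyl group -/

omit R in
/-- `v ↦ N_w (g v)` -/
noncomputable def NW (cs : CoxeterSystem M W) (h : IsCartan M A) (X : (I → ℤ) → Subgroup Y)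
    (ρ : Y →* (V ≃ₗ[ZMod 2] V)) (w : W) (g : Y) : V →ₗ[ZMod 2] V :=
  (NmL ρ (RGD.Sup X (RGD.Inv cs h w))).comp (ρ g).toLinearMap

omit R in
theorem NW_apply (w : W) (g : Y) (v : V) : NW cs h X ρ w g v = Nm ρ (RGD.Sup X (RGD.Inv cs h w)) (ρ g v) := by
  unfold NW
  rw [LinearMap.comp_apply, NmL_apply]
  rfl

theorem NW_step [Finite W] {i : I} {w : W} (hlt : cs.length (cs.simple i * w) < cs.length w) (g : Y) (v : V) :
    NW cs h X ρ w g v = ei ρ X n i (NW cs h X ρ (cs.simple i * w) ((n i)⁻¹ * g) v) := by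
  have hneg : rep cs h w⁻¹ (sr i) ≤ 0 := by
    refine nonpos_of_lt cs h _ i ?_
    rw [cs.length_inv, ← cs.length_inv (w⁻¹ * cs.simple i), mul_inv_rev, inv_inv, cs.inv_simple]
    exact hlt
  rw [NW_apply, ei_apply, NW_apply, ← ThmA.nm_step R hneg, ← rho_mul, mul_inv_cancel_left]

theorem NW_mem [Finite W] {w : W} {g : Y} (hg : Rp cs R.nsys w g) {v : V} (hv : v ∈ VU cs h X ρ) :
    NW cs h X ρ w g v ∈ VU cs h X ρ := by
  induction hn : cs.length w using Nat.strong_induction_on generalizing w g with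
  | _ k ih =>
  by_cases h1 : w = 1
  · subst h1
    have h2 : RGD.Sup X (RGD.Inv cs h (1 : W)) = ⊥ := by rw [RGD.inv_one_eq, Sup_empty]
    rw [NW_apply, h2, ThmA.nm_bot]
    exact stab_VU R _ hg.mem_of_one v hv
  · obtain ⟨i, hi⟩ := cs.exists_leftDescent_of_ne_one h1
    have hlt : cs.length (cs.simple i * w) < cs.length w := hi
    rw [NW_step R hlt]
    refine ei_mem R i (ih _ (hn ▸ hlt) ?_ rfl)
    exact (rn' R i).mul hg

theorem NW_tor {w : W} {g : Y} {t : Y} (ht : t ∈ T) (v : V) :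
    ρ t (NW cs h X ρ w g v) = NW cs h X ρ w g (ρ (g⁻¹ * t * g) v) := by
  have hN : T ≤ Subgroup.normalizer (RGD.Sup X (RGD.Inv cs h w) : Set Y) := R.T_le_normalizer fun x hx => hx.1
  rw [NW_apply, NW_apply, ← Nm.conj (H := RGD.Sup X (RGD.Inv cs h w)) (H' := RGD.Sup X (RGD.Inv cs h w)) (g := t)
    (fun u hu => (Subgroup.mem_normalizer_iff.1 (hN ht) u).1 hu) (fun u hu => by
      have := (Subgroup.mem_normalizer_iff.1 (hN (inv_mem ht)) u).1 hu
      rwa [inv_inv] at this), ← rho_mul, ← rho_mul]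
  congr 2
  congr 1
  group

/-- **The minimal space**: a `T`-stable space of fixed points of `U` stable under all `e_i`, of order at most `|E|`. -/
theorem exists_stable [Finite W] [Finite V] {E : Submodule (ZMod 2) V} (hE : E ≤ VU cs h X ρ) (hT : Stab ρ T E)
    (hne : E ≠ ⊥) : ∃ E' : Submodule (ZMod 2) V, E' ≠ ⊥ ∧ E' ≤ VU cs h X ρ ∧ Stab ρ T E' ∧
      (∀ i, ∀ v ∈ E', ei ρ X n i v ∈ E') ∧ Nat.card E' ≤ Nat.card E := by
  classical
  set S : Set W := {w | ∃ g, Rp cs R.nsys w g ∧ E.map (NW cs h X ρ w g) ≠ ⊥} with hS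
  have h1S : S.Nonempty := by
    refine ⟨1, 1, rp_one, ?_⟩
    have h2 : NW cs h X ρ (1 : W) (1 : Y) = LinearMap.id := by
      ext v
      have h2 : RGD.Sup X (RGD.Inv cs h (1 : W)) = ⊥ := by rw [RGD.inv_one_eq, Sup_empty]
      rw [NW_apply, h2, ThmA.nm_bot, rho_one]
      rfl
    rw [h2, Submodule.map_id]
    exact hne
  obtain ⟨w, ⟨g, hg, hw⟩, hmax⟩ := Set.exists_max_image S cs.length (Set.toFinite S) h1S
  refine ⟨E.map (NW cs h X ρ w g), hw, ?_, ?_, ?_, ?_⟩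
  · rintro _ ⟨v, hv, rfl⟩
    exact NW_mem R hg (hE hv)
  · rintro t ht _ ⟨v, hv, rfl⟩
    rw [NW_tor R ht]
    exact ⟨_, hT _ (conj_T' R hg ht) v hv, rfl⟩
  · rintro i _ ⟨v, hv, rfl⟩
    rcases lt_or_gt_of_ne (show cs.length (cs.simple i * w) ≠ cs.length w from by
      have := cs.length_simple_mul w i
      omega) with hlt | hgt
    · -- a left descent
      have hk : Rp cs R.nsys (cs.simple i * w) ((n i)⁻¹ * g) := (rn' R i).mul hg
      obtain ⟨τ, hτ, s, hs⟩ := ei_ei (ρ := ρ) R i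
      rw [NW_step R hlt, hs _ (NW_mem R hk (hE hv))]
      set k := (n i)⁻¹ * g with hkdef
      have e1 : ∑ b ∈ s, ρ (τ b) (NW cs h X ρ (cs.simple i * w) k v) =
          NW cs h X ρ (cs.simple i * w) k (∑ b ∈ s, ρ (k⁻¹ * τ b * k) v) := by
        rw [map_sum]
        exact Finset.sum_congr rfl fun b _ => NW_tor R (hτ b) v
      rw [e1, hkdef, ← NW_step R hlt]
      exact ⟨_, Submodule.sum_mem _ fun b _ => hT _ (conj_T' R hk (hτ b)) v hv, rfl⟩
    · -- an ascent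
      have hss : cs.simple i * (cs.simple i * w) = w := by rw [← mul_assoc, cs.simple_mul_simple_self, one_mul]
      have hlt' : cs.length (cs.simple i * (cs.simple i * w)) < cs.length (cs.simple i * w) := by rw [hss]; exact hgt
      have e1 : ei ρ X n i (NW cs h X ρ w g v) = NW cs h X ρ (cs.simple i * w) (n i * g) v := by
        rw [NW_step R hlt', hss, inv_mul_cancel_left]
      have e2 : E.map (NW cs h X ρ (cs.simple i * w) (n i * g)) = ⊥ := by
        by_contra hcon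
        have h3 := hmax (cs.simple i * w) ⟨n i * g, (rn R i).mul hg, hcon⟩
        omega
      have e3 : ei ρ X n i (NW cs h X ρ w g v) = 0 := by
        have h4 : ei ρ X n i (NW cs h X ρ w g v) ∈ E.map (NW cs h X ρ (cs.simple i * w) (n i * g)) := by
          rw [e1]; exact ⟨v, hv, rfl⟩
        rw [e2] at h4
        exact (Submodule.mem_bot _).1 h4
      rw [e3]
      exact Submodule.zero_mem _
  · exact Nat.card_le_card_of_surjective (fun v : E => (⟨NW cs h X ρ w g v, ⟨v, v.2, rfl⟩⟩ :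
      E.map (NW cs h X ρ w g))) (by
        rintro ⟨_, v, hv, rfl⟩
        exact ⟨⟨v, hv⟩, rfl⟩)

end A

end Cfsg.Agent.Omega.EH3.Kf.CR

end

section


/-!
# EH3, Lie rows in characteristic 2: step (C) (blueprints/OMEGA-EH3-KF3-helper227.md)

`R : Row cs h T n X ρ b a D X0 w`, `K = Mv ρ n a` the nodes moving `a`, `J` its complement.

* `le_of_le_sup_comm` : `U ≤ H [U, U]` implies `U ≤ H` (`U` a `p`-group);
* `stab_eq` : `{g | g a = a} = P_J`;
* `le_VJ` : `X0 ≤ V_J`;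
* `eq_VJ` : if `U` is generated by the root groups of the fundamental roots (in the form: all others lie in
  `[U, U]`) and `X0` covers `U / O(K)` (Theorem A), then `X0 = V_J = O_2(P_J)`.
-/

set_option autoImplicit false

namespace Cfsg.Agent.Omega.EH3.Kf.Cov

open CoxeterSystem Cfsg.Agent.ChevalleyStructure.CoxeterGeom Cfsg.Agent.Tits.Roots Cfsg.Agent.Tits.Core
  Cfsg.Agent.Tits.Exchange
  Cfsg.Agent.Tits.RootComb Cfsg.Agent.Nodes.Comb Cfsg.Agent.Nodes.Reps Cfsg.Agent.Nodes.BNOf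
  Cfsg.Agent.Nodes.StabComb Cfsg.Agent.Nodes.Bruhat Cfsg.Agent.Nodes.OppDec Cfsg.Agent.Nodes.LeviDec
  Cfsg.Agent.Omega.EH3.Kf.Base
open scoped commutatorElement

/-- `U ≤ H [U, U]` implies `U ≤ H`. -/
theorem le_of_le_sup_comm {G : Type*} [Group G] [Finite G] {p : ℕ} [Fact p.Prime] {U H : Subgroup G}
    (hU : IsPGroup p U) (hH : H ≤ U) (h : U ≤ H ⊔ ⁅U, U⁆) : U ≤ H := by
  have h1 : H.subgroupOf U = ⊤ := by
    rcases eq_top_or_exists_le_coatom (H.subgroupOf U) with h0 | ⟨M, hM, hle⟩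
    · exact h0
    · exfalso
      have hc : commutator U ≤ M := Lib.FrattiniBasic.commutator_le_of_isCoatom hU hM
      have h2 : H ≤ M.map U.subtype := by
        intro x hx
        exact ⟨⟨x, hH hx⟩, hle (Subgroup.mem_subgroupOf.2 hx), rfl⟩
      have h3 : ⁅U, U⁆ ≤ M.map U.subtype := by
        have : ⁅U, U⁆ = (commutator U).map U.subtype := by
          rw [commutator_def, Subgroup.map_commutator, ← MonoidHom.range_eq_map, Subgroup.range_subtype]
        rw [this]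
        exact Subgroup.map_mono hc
      have h4 : U ≤ M.map U.subtype := h.trans (sup_le h2 h3)
      apply hM.1
      rw [eq_top_iff]
      rintro ⟨x, hx⟩ -
      obtain ⟨y, hy, e⟩ := h4 hx
      have : y = ⟨x, hx⟩ := Subtype.ext e
      rwa [← this]
  exact Subgroup.subgroupOf_eq_top.1 h1

variable {I W Y V : Type*} [Fintype I] [DecidableEq I] [Group W] [Group Y] [AddCommGroup V]
    [Module (ZMod 2) V] {M : CoxeterMatrix I} {cs : CoxeterSystem M W} {A : I → I → ℤ} {h : IsCartan M A}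
    {T : Subgroup Y} {n : I → Y} {X : (I → ℤ) → Subgroup Y} {ρ : Y →* (V ≃ₗ[ZMod 2] V)}
    {b : LinearMap.BilinForm (ZMod 2) V} {a : V} {D : Submodule (ZMod 2) V} {X0 : Subgroup Y} {w : ℕ}

/-- the stabiliser of `a` -/
def St (ρ : Y →* (V ≃ₗ[ZMod 2] V)) (a : V) : Subgroup Y where
  carrier := {g | ρ g a = a}
  one_mem' := by show ρ 1 a = a; rw [map_one]; rfl
  mul_mem' := by
    intro g g' (hg : ρ g a = a) (hg' : ρ g' a = a)
    show ρ (g * g') a = a
    rw [map_mul]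
    show ρ g (ρ g' a) = a
    rw [hg', hg]
  inv_mem' := by
    intro g (hg : ρ g a = a)
    show ρ g⁻¹ a = a
    have h1 : ρ g⁻¹ (ρ g a) = a := by
      show (ρ g⁻¹ * ρ g) a = a
      rw [← map_mul, inv_mul_cancel, map_one]
      rfl
    rwa [hg] at h1

theorem mem_St {g : Y} : g ∈ St ρ a ↔ ρ g a = a := Iff.rfl

section

variable (R : Row cs h T n X ρ b a D X0 w)

include R

/-- the stabiliser of `a` is `P_J` -/
theorem St_eq [Finite W] : St ρ a = PJ cs h T X (Mv ρ n a)ᶜ := by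
  have hB : RGD.B cs h T X ≤ St ρ a := fun g hg => R.fixB g hg
  have h1 := inf_eq_PJ R.rgd hB
  rw [R.gen, inf_top_eq] at h1
  rw [h1]
  congr 1
  ext i
  show ρ (n i) a = a ↔ i ∈ (Mv ρ n a)ᶜ
  unfold Mv
  simp

theorem U_le_St : RGD.Sup X (RGD.Pos cs h) ≤ St ρ a := fun g hg => R.fixB g (RGD.U_le_B hg)

theorem comm_X0 {x y : Y} (hx : x ∈ X0) (hy : y ∈ X0) : x * y = y * x := by
  have h1 := R.sq _ (X0.mul_mem hx hy)
  have h2 : x⁻¹ = x := inv_eq_of_mul_eq_one_left (R.sq x hx)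
  have h3 : y⁻¹ = y := inv_eq_of_mul_eq_one_left (R.sq y hy)
  have h4 : (x * y)⁻¹ = x * y := inv_eq_of_mul_eq_one_left h1
  rw [mul_inv_rev, h2, h3] at h4
  exact h4.symm

theorem X0_le_normalizer : St ρ a ≤ Subgroup.normalizer (X0 : Set Y) := by
  intro g hg
  rw [Subgroup.mem_normalizer_iff]
  intro x
  refine ⟨fun hx => R.norm g hg x hx, fun hx => ?_⟩
  have h1 := R.norm g⁻¹ ((St ρ a).inv_mem hg) _ hx
  have h2 : g⁻¹ * (g * x * g⁻¹) * g⁻¹⁻¹ = x := by group
  rwa [h2] at h1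

/-- `X0 ≤ V_J` -/
theorem le_VJ [Finite W] : X0 ≤ VJ cs h X (Mv ρ n a)ᶜ := by
  obtain ⟨wj, hwj⟩ := exists_isLongest cs (Mv ρ n a)ᶜ
  obtain ⟨k, hk⟩ := exists_rp cs R.rgd.nsys wj
  have hkP : k ∈ St ρ a := by
    rw [St_eq R]
    exact LJ_le_PJ (rp_mem_LJ R.rgd hwj.1 hk)
  intro x hx
  have h1 : (k⁻¹)⁻¹ * x * k⁻¹ ∈ RGD.B cs h T X := by
    rw [inv_inv]
    exact RGD.U_le_B (R.le (R.norm k hkP x hx))
  have h2 := mem_PW_of_conj R.rgd hk.inv (R.le hx) h1
  rw [inv_inv] at h2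
  refine RGD.Sup_mono (fun r hr => ?_) h2
  rcases mem_PosJ_or_NotJ (Mv ρ n a)ᶜ hr.1 hr.2.1 with h3 | h3
  · exact absurd (rep_longest_nonpos hwj h3) fun h4 => (hr.1.act wj).not_pos_neg hr.2.2 h4
  · exact h3

/-- **(C)** -/
theorem eq_VJ [Finite W] [Finite Y]
    (hA : ∀ u ∈ RGD.Sup X (RGD.Pos cs h), ∃ x ∈ X0, u⁻¹ * x ∈ VJ cs h X (Mv ρ n a))
    (hgen : ∀ x, IsRoot cs h x → 0 ≤ x → (∀ i, x ≠ sr i) →
      X x ≤ ⁅RGD.Sup X (RGD.Pos cs h), RGD.Sup X (RGD.Pos cs h)⁆) :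
    X0 = VJ cs h X (Mv ρ n a)ᶜ := by
  apply le_antisymm (le_VJ R)
  have : Fact (Nat.Prime 2) := ⟨Nat.prime_two⟩
  -- `V_K ≤ U_J [U, U]`
  have h1 : VJ cs h X (Mv ρ n a) ≤ UJ cs h X (Mv ρ n a)ᶜ ⊔ ⁅RGD.Sup X (RGD.Pos cs h), RGD.Sup X (RGD.Pos cs h)⁆ := by
    refine RGD.Sup_le fun r hr => ?_
    obtain ⟨hr1, hr2, k, hk, hk0⟩ := hr
    by_cases hs : ∀ i, r ≠ sr i
    · exact (hgen r hr1 hr2 hs).trans le_sup_right
    · push Not at hs
      obtain ⟨i, rfl⟩ := hs
      have hik : k = i := by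
        by_contra hne
        have h0 : (sr i : I → ℤ) k = 0 := by
          unfold sr
          exact Pi.single_eq_of_ne hne _
        omega
      subst hik
      exact (RGD.le_Sup (sr_mem_PosJ (show k ∈ (Mv ρ n a)ᶜ from hk))).trans le_sup_left
  have h2 : RGD.Sup X (RGD.Pos cs h) ≤ X0 ⊔ UJ cs h X (Mv ρ n a)ᶜ := by
    refine le_of_le_sup_comm (R.rgd.isPGroup_Upos) (sup_le R.le (UJ_le_U _)) ?_
    intro u hu
    obtain ⟨x, hx, hux⟩ := hA u hu
    have h3 : u = x * (u⁻¹ * x)⁻¹ := by group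
    rw [h3]
    refine Subgroup.mul_mem _ ((le_sup_left.trans le_sup_left : X0 ≤ _) hx) (Subgroup.inv_mem _ ?_)
    exact (sup_le (le_sup_right.trans le_sup_left) le_sup_right : UJ cs h X (Mv ρ n a)ᶜ ⊔
      ⁅RGD.Sup X (RGD.Pos cs h), RGD.Sup X (RGD.Pos cs h)⁆ ≤ X0 ⊔ UJ cs h X (Mv ρ n a)ᶜ ⊔
        ⁅RGD.Sup X (RGD.Pos cs h), RGD.Sup X (RGD.Pos cs h)⁆) (h1 hux)
  intro x hx
  have h3 : x ∈ ((X0 ⊔ UJ cs h X (Mv ρ n a)ᶜ : Subgroup Y) : Set Y) := h2 (VJ_le_U _ hx)
  rw [Subgroup.coe_mul_of_right_le_normalizer_left X0 (UJ cs h X (Mv ρ n a)ᶜ)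
    (((UJ_le_U _).trans (U_le_St R)).trans (X0_le_normalizer R))] at h3
  obtain ⟨x0, hx0, u, hu, e⟩ := Set.mem_mul.1 h3
  have h4 : u = x0⁻¹ * x := by rw [← e]; group
  have h5 : u = 1 := by
    have h6 : u ∈ UJ cs h X (Mv ρ n a)ᶜ ⊓ VJ cs h X (Mv ρ n a)ᶜ :=
      ⟨hu, by rw [h4]; exact (VJ cs h X (Mv ρ n a)ᶜ).mul_mem ((VJ cs h X (Mv ρ n a)ᶜ).inv_mem (le_VJ R hx0)) hx⟩
    rw [UJ_inf_VJ R.rgd] at h6
    exact Subgroup.mem_bot.1 h6
  rw [← e]
  show x0 * u ∈ X0
  rw [h5, mul_one]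
  exact hx0

end

end Cfsg.Agent.Omega.EH3.Kf.Cov

end

section


/-!
# Consequences of Theorem A (helper227)

* `UJ_sq`, `UJ_comm` : `U_K` is elementary abelian for every set `K` of nodes moving `a`;
* `M_eq_two` : two different nodes moving `a` are orthogonal;
* `cover_mul` : every `u` in `U` is `x * o`, `x ∈ X0`, `o ∈ O(K)`.
-/

set_option autoImplicit false

namespace Cfsg.Agent.Omega.EH3.Kf.ThmA2

open CoxeterSystem Cfsg.Agent.ChevalleyStructure.CoxeterGeom Cfsg.Agent.Tits.Roots Cfsg.Agent.Tits.Core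
  Cfsg.Agent.Tits.RootComb Cfsg.Agent.Nodes.Comb Cfsg.Agent.Nodes.Reps Cfsg.Agent.Nodes.BNOf
  Cfsg.Agent.Nodes.StabComb Cfsg.Agent.Nodes.Bruhat Cfsg.Agent.Nodes.LeviDec Cfsg.Agent.Tits.Exchange
  Cfsg.Agent.Omega.EH3.Kf.Base Cfsg.Agent.Omega.EH3.Kf.Nm Cfsg.Agent.Omega.EH3.Kf.ThmA

open scoped commutatorElement

variable {I W Y V : Type*} [Fintype I] [DecidableEq I] [Group W] [Group Y] [AddCommGroup V]
    [Module (ZMod 2) V] {M : CoxeterMatrix I} {cs : CoxeterSystem M W} {A : I → I → ℤ} {h : IsCartan M A}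
    {T : Subgroup Y} {n : I → Y} {X : (I → ℤ) → Subgroup Y} {ρ : Y →* (V ≃ₗ[ZMod 2] V)} {a : V}
    {X0 : Subgroup Y}

/-- elements of exponent two commute -/
theorem comm_of_sq (hsq : ∀ x ∈ X0, x * x = 1) {x y : Y} (hx : x ∈ X0) (hy : y ∈ X0) : x * y = y * x := by
  have h1 := hsq _ (mul_mem hx hy)
  have h2 := hsq _ hx
  have h3 := hsq _ hy
  have hx' : x⁻¹ = x := inv_eq_of_mul_eq_one_right h2
  have hy' : y⁻¹ = y := inv_eq_of_mul_eq_one_right h3
  have h4 : (x * y)⁻¹ = x * y := inv_eq_of_mul_eq_one_right h1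
  rw [← h4, mul_inv_rev, hx', hy']

/-- every element of `U` is `x * o` -/
theorem cover_mul [Finite W] [Finite Y] (R : Core cs h T n X ρ a X0) {K : Set I} (hK : K ⊆ Mv ρ n a) {u : Y}
    (hu : u ∈ RGD.Sup X (RGD.Pos cs h)) : ∃ x ∈ X0, ∃ o ∈ VJ cs h X K, u = x * o := by
  obtain ⟨x, hx, hxo⟩ := thmA R hK u hu
  refine ⟨x, hx, (u⁻¹ * x)⁻¹, inv_mem hxo, ?_⟩
  group

theorem UJ_sq [Finite W] [Finite Y] (R : Core cs h T n X ρ a X0) (hsq : ∀ x ∈ X0, x * x = 1) {K : Set I}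
    (hK : K ⊆ Mv ρ n a) {u : Y} (hu : u ∈ UJ cs h X K) : u * u = 1 := by
  obtain ⟨x, hx, hxo⟩ := thmA R hK u (UJ_le_U K hu)
  have hUL : UJ cs h X K ≤ LJ cs h T X K := le_trans UJ_le_BJ BJ_le_LJ
  set o := u⁻¹ * x with ho
  have hxu : x = u * o := by rw [ho]; group
  have h1 : u⁻¹ * o * u ∈ VJ cs h X K := by
    have h2 := LJ_le_normalizer_VJ R.rgd K (inv_mem (hUL hu))
    have h3 := (Subgroup.mem_normalizer_iff.1 h2 o).1 hxo
    rwa [inv_inv] at h3
  have h2 : u * u = ((u⁻¹ * o * u) * o)⁻¹ := by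
    have h3 := hsq x hx
    rw [hxu] at h3
    have h4 : u * u * ((u⁻¹ * o * u) * o) = 1 := by
      rw [← h3]; group
    exact eq_inv_of_mul_eq_one_left h4
  have h4 : u * u ∈ VJ cs h X K := by rw [h2]; exact inv_mem (mul_mem h1 hxo)
  have h3 : u * u ∈ UJ cs h X K ⊓ VJ cs h X K := ⟨mul_mem hu hu, h4⟩
  rw [UJ_inf_VJ R.rgd] at h3
  exact Subgroup.mem_bot.1 h3

theorem UJ_comm [Finite W] [Finite Y] (R : Core cs h T n X ρ a X0) (hsq : ∀ x ∈ X0, x * x = 1) {K : Set I}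
    (hK : K ⊆ Mv ρ n a) {u v : Y} (hu : u ∈ UJ cs h X K) (hv : v ∈ UJ cs h X K) : u * v = v * u :=
  comm_of_sq (X0 := UJ cs h X K) (fun _ hx => UJ_sq R hsq hK hx) hu hv

/-- commuting simple root groups belong to orthogonal nodes -/
theorem M_eq_two_of_comm [Finite W] (R : RGD cs h 2 T n X) {i j : I} (hij : i ≠ j)
    (hc : ∀ u ∈ X (sr i), ∀ v ∈ X (sr j), u * v = v * u) : M i j = 2 := by
  by_contra h2
  have hbot : Nodes.Reps.btw cs h X (-sr i) (sr j) = ⊥ := by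
    rw [eq_bot_iff]
    unfold Nodes.Reps.btw
    refine iSup_le ?_
    rintro ⟨z, hz⟩
    exfalso
    have h1 : 0 < z j := btwn_apply_pos hz.symm (by rw [sr_self]; exact one_pos)
      (by rw [Pi.neg_apply, sr_ne hij.symm]; rfl)
    have h3 : 0 < (-z) i := by
      have h4 : Btwn cs h (sr i) (-sr j) (-z) := by
        have := btwn_neg hz
        rwa [neg_neg] at this
      exact btwn_apply_pos h4 (by rw [sr_self]; exact one_pos) (by rw [Pi.neg_apply, sr_ne hij]; rfl)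
    rw [Pi.neg_apply] at h3
    rcases hz.1.pos_or_neg with h4 | h4
    · have := h4 i
      simp only [Pi.zero_apply] at this
      omega
    · have := h4 j
      simp only [Pi.zero_apply] at this
      omega
  have hneg : ∀ u ∈ X (-sr i), ∀ v ∈ X (sr j), u * v = v * u := by
    intro u hu v hv
    have hne1 : (-sr i : I → ℤ) ≠ sr j := by
      intro he
      have := congrFun he i
      rw [Pi.neg_apply, sr_self, sr_ne hij] at this
      omega
    have hne2 : (-sr i : I → ℤ) ≠ - sr j := by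
      intro he
      have := congrFun he i
      rw [Pi.neg_apply, sr_self, Pi.neg_apply, sr_ne hij] at this
      omega
    have h1 := R.comm (-sr i) (sr j) (isRoot_sr cs h i).neg (isRoot_sr cs h j) hne1 hne2 u hu v hv
    rw [hbot, Subgroup.mem_bot, commutatorElement_eq_one_iff_mul_comm] at h1
    exact h1
  -- `n i` normalises `X (sr j)`
  obtain ⟨u0, hu0, hu01⟩ := exists_ne_one R i
  have hu : n i * u0 * (n i)⁻¹ ∈ X (-sr i) := by
    have := R.conj_mem (rp_simple cs R.nsys i) (isRoot_sr cs h i) hu0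
    rwa [rep_simple_sr] at this
  have hu1 : n i * u0 * (n i)⁻¹ ≠ 1 := by
    intro h3
    apply hu01
    have h4 : u0 = (n i)⁻¹ * (n i * u0 * (n i)⁻¹) * n i := by group
    rw [h4, h3]; group
  obtain ⟨c, hc', t, ht, d, hd, e⟩ := R.rk1 i _ hu hu1
  have hn : n i = t⁻¹ * c⁻¹ * (n i * u0 * (n i)⁻¹) * d⁻¹ := by
    rw [e]; group
  have hcen : ∀ g, (∀ v ∈ X (sr j), g * v = v * g) → cj g (X (sr j)) = X (sr j) := by
    intro g hg
    ext v
    rw [mem_cj]
    constructor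
    · intro hv
      have h5 := hg _ hv
      have h6 : v = g * (g⁻¹ * v * g) * g⁻¹ := by group
      rw [h6, h5, mul_inv_cancel_right]
      exact hv
    · intro hv
      rw [mul_assoc, ← hg v hv, inv_mul_cancel_left]
      exact hv
  have hinv : ∀ g, (∀ v ∈ X (sr j), g * v = v * g) → ∀ v ∈ X (sr j), g⁻¹ * v = v * g⁻¹ := by
    intro g hg v hv
    rw [inv_mul_eq_iff_eq_mul, ← mul_assoc, hg v hv, mul_inv_cancel_right]
  have hni : cj (n i) (X (sr j)) = X (sr j) := by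
    have e1 := hcen _ (hinv d (fun v hv => hc d hd v hv))
    have e2 := hcen _ (hneg _ hu)
    have e3 := hcen _ (hinv c (fun v hv => hc c hc' v hv))
    have e4 := R.tor _ (isRoot_sr cs h j) _ (inv_mem ht)
    rw [hn, cj_mul, e1, cj_mul, e2, cj_mul, e3, e4]
  rw [R.conj i _ (isRoot_sr cs h j)] at hni
  set y := rep cs h (cs.simple i) (sr j) with hy
  have hyr : IsRoot cs h y := (isRoot_sr cs h j).act _
  have hyne : y ≠ sr j := by
    intro he
    have h5 := congrFun he i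
    rw [hy, rep_simple_apply_self, sr_ne hij] at h5
    have h6 : pairing A i (sr j) = A i j := by rw [sr, pairing_single, mul_one]
    rw [h6] at h5
    have h7 := cartan_neg h hij h2
    omega
  have hy0 : 0 ≤ y := (isRoot_sr cs h j).simple_nonneg (sr_nonneg j) i (by
    intro he
    have h5 := congrFun he i
    rw [sr_self, sr_ne hij] at h5
    omega)
  have h5 : 0 ≤ rep cs h (cs.simple j) y := hyr.simple_nonneg hy0 j hyne
  have h6 : X (rep cs h (cs.simple j) y) = X (-sr j) := by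
    rw [← R.conj j y hyr, hni, R.conj j _ (isRoot_sr cs h j), rep_simple_sr]
  apply R.not_neg_le_B j
  rw [← h6]
  exact RGD.X_le_B (hyr.act _) h5

/-- two different nodes moving `a` are orthogonal -/
theorem M_eq_two [Finite W] [Finite Y] (R : Core cs h T n X ρ a X0) (hsq : ∀ x ∈ X0, x * x = 1) {i j : I}
    (hij : i ≠ j) (hi : i ∈ Mv ρ n a) (hj : j ∈ Mv ρ n a) : M i j = 2 := by
  refine M_eq_two_of_comm R.rgd hij fun u hu v hv => ?_
  exact UJ_comm R hsq (K := Mv ρ n a) (le_refl _) (RGD.le_Sup (sr_mem_PosJ hi) hu)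
    (RGD.le_Sup (sr_mem_PosJ hj) hv)

end Cfsg.Agent.Omega.EH3.Kf.ThmA2

end

section


/-!
# EH3, Lie rows in characteristic 2: relative type `C_n` (helper94; blueprints/OMEGA-EH3-KF3-helper227.md, K6)

The unitary groups, `Ω⁻`, and `Sp_2n(q)` have a root group datum of type `C_n` (`Nodes/TypeC`, `Nodes/WittAll`).

* `coef`, `nonneg_of`, `exists_pos` : the positive roots are `ε_i ± ε_j`, `2 ε_i`;
* `Gd X` : the commutator identities used (all inside `U`); `Gd.gen` : the root groups of the roots that are not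
  fundamental lie in `[U, U]`;
* `comm_bot`, `mv_nonempty` (any type), `mv_int`, `mv_nax`, `mv_naz`, `mv_one` : the possible sets `Mv`.
-/

set_option autoImplicit false

namespace Cfsg.Agent.Omega.EH3.Kf.TwC

open CoxeterSystem Cfsg.Agent.ChevalleyStructure.CoxeterGeom Cfsg.Agent.Tits.Roots Cfsg.Agent.Tits.Core
  Cfsg.Agent.Tits.RootComb Cfsg.Agent.Nodes.Comb Cfsg.Agent.Nodes.Reps Cfsg.Agent.Nodes.BNOf
  Cfsg.Agent.Nodes.StabComb Cfsg.Agent.Nodes.Bruhat Cfsg.Agent.Nodes.LeviDec Cfsg.Agent.Nodes.TypeC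
open scoped commutatorElement

variable {n : ℕ}

/-! ### Roots -/

/-- the sign -/
def sn (s : Bool) : ℤ := if s then 1 else -1

theorem sum_wt (a : Fin n × Bool) (m : Fin n) :
    ∑ k ∈ Finset.Iic m, wt a k = if a.1 ≤ m then sn a.2 else 0 := by
  simp only [wt, Finset.sum_pi_single', Finset.mem_Iic, sn]

/-- the coefficients of a root -/
theorem coef {x : Fin n → ℤ} {a b : Fin n × Bool} (e : ee x = wt a + wt b) (m : Fin n) :
    (if (m : ℕ) + 1 < n then 1 else 2) * x m = (if a.1 ≤ m then sn a.2 else 0) + (if b.1 ≤ m then sn b.2 else 0) := by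
  have h1 : ∑ k ∈ Finset.Iic m, ee x k = (if (m : ℕ) + 1 < n then 1 else 2) * x m := by
    have h1 : ∀ k, ee x k = ∑ j, x j * bt j k := by
      intro k
      simp [ee, Finset.sum_apply]
    simp only [h1]
    rw [Finset.sum_comm]
    simp only [← Finset.mul_sum, sum_bt]
    rw [Finset.sum_eq_single m]
    · simp only [if_true]
      split_ifs <;> ring
    · intro j _ hj
      simp [Ne.symm hj]
    · simp
  rw [← h1, e, ← sum_wt, ← sum_wt, ← Finset.sum_add_distrib]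
  rfl

theorem nonneg_of {x : Fin n → ℤ} {a b : Fin n × Bool} (e : ee x = wt a + wt b) (ha : a.2 = true)
    (hab : a.1 ≤ b.1) : 0 ≤ x := by
  intro m
  have h1 := coef e m
  rw [ha] at h1
  show 0 ≤ x m
  have h2 : (sn b.2 : ℤ) = 1 ∨ sn b.2 = -1 := by
    unfold sn; split_ifs <;> simp
  have h3 : sn true = 1 := rfl
  rw [h3] at h1
  by_cases h4 : b.1 ≤ m
  · rw [if_pos (hab.trans h4), if_pos h4] at h1
    split_ifs at h1 <;> rcases h2 with h2 | h2 <;> rw [h2] at h1 <;> omega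
  · rw [if_neg h4] at h1
    split_ifs at h1 <;> omega

variable {W : Type*} [Group W] {cs : CoxeterSystem (CoxeterMatrix.B n) W}

/-- the positive roots -/
theorem exists_pos {x : Fin n → ℤ} (hx : IsRoot cs (isCartan n) x) (h0 : 0 ≤ x) :
    ∃ a b : Fin n × Bool, a.2 = true ∧ a.1 ≤ b.1 ∧ Ok a b ∧ ee x = wt a + wt b := by
  obtain ⟨a, b, hab, e⟩ := exists_of_isRoot cs hx
  have key : ∀ a b : Fin n × Bool, Ok a b → ee x = wt a + wt b → a.1 ≤ b.1 → a.2 = true := by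
    intro a b hab e hle
    by_contra hf
    have h1 : ee (-x) = wt (ng a) + wt (ng b) := by rw [ee_neg, e, wt_ng, wt_ng]; abel
    have h2 : 0 ≤ -x := nonneg_of h1 (by simp [ng, hf]) hle
    exact hx.ne_zero (le_antisymm (neg_nonneg.1 h2) h0)
  rcases le_total a.1 b.1 with h1 | h1
  · exact ⟨a, b, key a b hab e h1, h1, hab, e⟩
  · exact ⟨b, a, key b a hab.symm (by rw [e, add_comm]) h1, h1, hab.symm, by rw [e, add_comm]⟩

variable {Y : Type*} [Group Y]

/-- The commutator identities (all inside `U`). -/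
structure Gd (X : (Fin n → ℤ) → Subgroup Y) : Prop where
  a2 : ∀ (i j k : Fin n), i < j → j < k → ∀ x y z, ee x = wt (i, true) + wt (j, false) →
    ee y = wt (j, true) + wt (k, false) → ee z = wt (i, true) + wt (k, false) → X z ≤ ⁅X x, X y⁆
  mid : ∀ (i j : Fin n), i < j → ∀ x y z t, ee x = wt (i, true) + wt (j, true) →
    ee y = wt (i, true) + wt (j, false) → ee z = wt (i, true) + wt (i, true) → ee t = wt (j, true) + wt (j, true) →
    X x ≤ ⁅X y, X t⁆ ⊔ ⁅X x, X y⁆ ⊔ ⁅X z, X t⁆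
  lng : ∀ (i j : Fin n), i < j → ∀ x y z t, ee x = wt (i, true) + wt (j, true) →
    ee y = wt (i, true) + wt (j, false) → ee z = wt (i, true) + wt (i, true) → ee t = wt (j, true) + wt (j, true) →
    X z ≤ ⁅X y, X t⁆ ⊔ ⁅X x, X y⁆ ⊔ ⁅X z, X t⁆

theorem exists_root (cs : CoxeterSystem (CoxeterMatrix.B n) W) {a b : Fin n × Bool} (hab : Ok a b)
    (ha : a.2 = true) (hle : a.1 ≤ b.1) : ∃ x ∈ RGD.Pos cs (isCartan n), ee x = wt a + wt b := by
  obtain ⟨x, hx, e⟩ := rt_of_ok (cs := cs) hab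
  exact ⟨x, ⟨hx, nonneg_of e ha hle⟩, e⟩

/-- **Generation.** -/
theorem Gd.gen (cs : CoxeterSystem (CoxeterMatrix.B n) W) {X : (Fin n → ℤ) → Subgroup Y} (G : Gd X)
    {x : Fin n → ℤ} (hx : IsRoot cs (isCartan n) x) (h0 : 0 ≤ x) (hs : ∀ i, x ≠ sr i) :
    X x ≤ ⁅RGD.Sup X (RGD.Pos cs (isCartan n)), RGD.Sup X (RGD.Pos cs (isCartan n))⁆ := by
  set U := RGD.Sup X (RGD.Pos cs (isCartan n)) with hU
  have hle : ∀ {z}, z ∈ RGD.Pos cs (isCartan n) → X z ≤ U := fun hz => RGD.le_Sup hz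
  have hcom : ∀ {z z'}, z ∈ RGD.Pos cs (isCartan n) → z' ∈ RGD.Pos cs (isCartan n) → ⁅X z, X z'⁆ ≤ ⁅U, U⁆ :=
    fun hz hz' => Subgroup.commutator_mono (hle hz) (hle hz')
  obtain ⟨⟨i, s⟩, ⟨j, t⟩, hs1, hij, hok, e⟩ := exists_pos hx h0
  simp only at hs1 hij
  subst hs1
  -- the four roots of a pair `i < j`
  have four : ∀ (i j : Fin n), i < j → ∀ x z, ee x = wt (i, true) + wt (j, true) →
      ee z = wt (i, true) + wt (i, true) → X x ≤ ⁅U, U⁆ ∧ X z ≤ ⁅U, U⁆ := by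
    intro i j hlt x z ex ez
    obtain ⟨y, hy, ey⟩ := exists_root cs (a := (i, true)) (b := (j, false)) (Or.inl hlt.ne) rfl hlt.le
    obtain ⟨t, ht, et⟩ := exists_root cs (a := (j, true)) (b := (j, true)) (Or.inr rfl) rfl le_rfl
    obtain ⟨x', hx', ex'⟩ := exists_root cs (a := (i, true)) (b := (j, true)) (Or.inl hlt.ne) rfl hlt.le
    obtain ⟨z', hz', ez'⟩ := exists_root cs (a := (i, true)) (b := (i, true)) (Or.inr rfl) rfl le_rfl
    have e1 : x = x' := ee_injective (ex.trans ex'.symm)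
    have e2 : z = z' := ee_injective (ez.trans ez'.symm)
    subst e1 e2
    have h5 : ⁅X y, X t⁆ ⊔ ⁅X x, X y⁆ ⊔ ⁅X z, X t⁆ ≤ ⁅U, U⁆ :=
      sup_le (sup_le (hcom hy ht) (hcom hx' hy)) (hcom hz' ht)
    exact ⟨(G.mid i j hlt x y z t ex ey ez et).trans h5, (G.lng i j hlt x y z t ex ey ez et).trans h5⟩
  rcases eq_or_lt_of_le hij with h1 | h1
  · -- `2 ε_i`
    subst h1
    have hst : t = true := by
      rcases hok with h2 | h2
      · exact absurd rfl h2
      · exact (Prod.mk.inj h2).2.symm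
    subst hst
    by_cases hn : (i : ℕ) + 1 < n
    · obtain ⟨x', hx', ex'⟩ := exists_root cs (a := (i, true)) (b := (⟨i + 1, hn⟩, true))
        (Or.inl (by simp [Fin.ext_iff])) rfl (by rw [Fin.le_def]; simp)
      exact (four i ⟨i + 1, hn⟩ (by rw [Fin.lt_def]; simp) x' x ex' e).2
    · exfalso
      apply hs i
      apply ee_injective
      rw [e, ee_sr, bt, nx, dif_neg hn]
  · cases t
    · -- `ε_i - ε_j`
      by_cases hn : (i : ℕ) + 1 = j
      · exfalso
        apply hs i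
        apply ee_injective
        rw [e, ee_sr, bt, nx, dif_pos (by rw [hn]; exact j.2)]
        congr 3
        exact Fin.ext hn.symm
      · have hlt : (i : ℕ) + 1 < j := by have := Fin.lt_def.1 h1; omega
        have hk : (i : ℕ) + 1 < n := hlt.trans j.2
        set k : Fin n := ⟨i + 1, hk⟩ with hkd
        have hik : i < k := by rw [Fin.lt_def]; simp [hkd]
        have hkj : k < j := by rw [Fin.lt_def]; exact hlt
        obtain ⟨y, hy, ey⟩ := exists_root cs (a := (i, true)) (b := (k, false)) (Or.inl hik.ne) rfl hik.le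
        obtain ⟨z, hz, ez⟩ := exists_root cs (a := (k, true)) (b := (j, false)) (Or.inl hkj.ne) rfl hkj.le
        exact (G.a2 i k j hik hkj y z x ey ez e).trans (hcom hy hz)
    · -- `ε_i + ε_j`
      obtain ⟨z, hz, ez⟩ := exists_root cs (a := (i, true)) (b := (i, true)) (Or.inr rfl) rfl le_rfl
      exact (four i j h1 x z e ez).1

/-! ### The moved nodes, any type -/

section Any

open Cfsg.Agent.Omega.EH3.Kf.Base Cfsg.Agent.Omega.EH3.Kf.Cov

variable {I W V : Type*} [Fintype I] [DecidableEq I] [Group W] [AddCommGroup V]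
    [Module (ZMod 2) V] {M : CoxeterMatrix I} {cs : CoxeterSystem M W} {A : I → I → ℤ} {h : IsCartan M A}
    {T : Subgroup Y} {nn : I → Y} {X : (I → ℤ) → Subgroup Y} {ρ : Y →* (V ≃ₗ[ZMod 2] V)}
    {b : LinearMap.BilinForm (ZMod 2) V} {a : V} {D : Submodule (ZMod 2) V} {X0 : Subgroup Y} {w : ℕ}

theorem X_le_VJ {x : I → ℤ} (hx : x ∈ RGD.Pos cs h) {k : I} (hk : k ∈ Mv ρ nn a) (hxk : 0 < x k) :
    X x ≤ VJ cs h X (Mv ρ nn a)ᶜ :=
  RGD.le_Sup ⟨hx.1, hx.2, k, fun h0 => h0 hk, hxk⟩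

/-- two root groups of `V_J = X0` commute -/
theorem comm_bot (R : Row cs h T nn X ρ b a D X0 w) (hX : X0 = VJ cs h X (Mv ρ nn a)ᶜ) {x y : I → ℤ}
    (hx : x ∈ RGD.Pos cs h) (hy : y ∈ RGD.Pos cs h) {k l : I} (hk : k ∈ Mv ρ nn a) (hl : l ∈ Mv ρ nn a)
    (hxk : 0 < x k) (hyl : 0 < y l) : ⁅X x, X y⁆ = ⊥ := by
  rw [eq_bot_iff, Subgroup.commutator_le]
  intro u hu v hv
  have hu' : u ∈ X0 := by rw [hX]; exact X_le_VJ hx hk hxk hu
  have hv' : v ∈ X0 := by rw [hX]; exact X_le_VJ hy hl hyl hv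
  rw [Subgroup.mem_bot, commutatorElement_eq_one_iff_mul_comm]
  exact comm_X0 R hu' hv'

/-- some node moves `a` -/
theorem mv_nonempty [Finite W] (R : Row cs h T nn X ρ b a D X0 w) : (Mv ρ nn a).Nonempty := by
  by_contra hne
  rw [Set.not_nonempty_iff_eq_empty] at hne
  have h1 : ∀ g : Y, ρ g a = a := by
    intro g
    have h2 : g ∈ St ρ a := by
      rw [St_eq R, hne, Set.compl_empty]
      have h3 : g ∈ GG cs h T X := by rw [R.gen]; trivial
      rw [← LJ_univ] at h3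
      exact LJ_le_PJ h3
    exact h2
  have h2 : (Set.range fun g => ρ g a) = {a} := by
    ext v
    constructor
    · rintro ⟨g, rfl⟩; exact h1 g
    · rintro rfl; exact ⟨1, h1 1⟩
  have h3 := R.span
  rw [h2] at h3
  have h4 : Nat.card V ≤ 2 := by
    have h5 : Function.Surjective (fun c : ZMod 2 => c • a) := by
      intro v
      have h6 : v ∈ Submodule.span (ZMod 2) ({a} : Set V) := by rw [h3]; trivial
      exact Submodule.mem_span_singleton.1 h6
    have h6 := Nat.card_le_card_of_surjective _ h5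
    rwa [Nat.card_zmod] at h6
  rw [R.card_V] at h4
  have h5 := R.six
  have h6 : 2 ^ 12 ≤ 2 ^ (2 * w) := Nat.pow_le_pow_right (by norm_num) (by omega)
  norm_num at h6
  omega

end Any

/-! ### The moved nodes, type `C_n` -/

theorem pos_sub {i j m : Fin n} {x : Fin n → ℤ} (e : ee x = wt (i, true) + wt (j, false)) (h1 : i ≤ m) (h2 : m < j) :
    0 < x m := by
  have h3 := coef e m
  have h4 : ¬ j ≤ m := not_le.2 h2
  have h5 : (m : ℕ) + 1 < n := by have := Fin.lt_def.1 h2; have := j.2; omega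
  simp only [h1, h4, h5, if_true, if_false] at h3
  simp only [sn, if_true] at h3
  omega

theorem pos_add {i j m : Fin n} {x : Fin n → ℤ} (e : ee x = wt (i, true) + wt (j, true)) (h1 : i ≤ m) :
    0 < x m := by
  have h3 := coef e m
  simp only [h1, if_true] at h3
  simp only [sn, if_true] at h3
  split_ifs at h3 <;> omega

/-- `[X(ε_i + ε_j), X(ε_i - ε_j)] ≠ 1` -/
def NAX (X : (Fin n → ℤ) → Subgroup Y) : Prop :=
  ∀ i j : Fin n, i < j → ∀ x y, ee x = wt (i, true) + wt (j, true) → ee y = wt (i, true) + wt (j, false) →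
    ⁅X x, X y⁆ ≠ ⊥

/-- `[X(2 ε_i), X(2 ε_j)] ≠ 1` -/
def NAZ (X : (Fin n → ℤ) → Subgroup Y) : Prop :=
  ∀ i j : Fin n, i < j → ∀ x y, ee x = wt (i, true) + wt (i, true) → ee y = wt (j, true) + wt (j, true) →
    ⁅X x, X y⁆ ≠ ⊥

/-- `[X(ε_i - ε_k), X(ε_j + ε_k)] ≠ 1` -/
def NAS (X : (Fin n → ℤ) → Subgroup Y) : Prop :=
  ∀ i j k : Fin n, i < j → j < k → ∀ x y, ee x = wt (i, true) + wt (k, false) →
    ee y = wt (j, true) + wt (k, true) → ⁅X x, X y⁆ ≠ ⊥

section KAn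

open Cfsg.Agent.Omega.EH3.Kf.Base Cfsg.Agent.Omega.EH3.Kf.Cov Cfsg.Agent.Omega.EH3.Kf.ThmA2

variable {V : Type*} [AddCommGroup V] [Module (ZMod 2) V] {T : Subgroup Y} {nn : Fin n → Y}
  {X : (Fin n → ℤ) → Subgroup Y} {ρ : Y →* (V ≃ₗ[ZMod 2] V)} {b : LinearMap.BilinForm (ZMod 2) V} {a : V}
  {D : Submodule (ZMod 2) V} {X0 : Subgroup Y} {w : ℕ}
  (R : Row cs (isCartan n) T nn X ρ b a D X0 w) (hX : X0 = VJ cs (isCartan n) X (Mv ρ nn a)ᶜ)

include R hX

/-- an interior node is not moved -/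
theorem mv_int (hS : NAS X) {k : Fin n} (hk : k ∈ Mv ρ nn a) : (k : ℕ) = 0 ∨ (k : ℕ) + 1 = n := by
  by_contra hne
  push Not at hne
  obtain ⟨h0, h1⟩ := hne
  have hk2 := k.2
  set i : Fin n := ⟨0, by omega⟩ with hi
  set j : Fin n := ⟨1, by omega⟩ with hj
  set l : Fin n := ⟨n - 1, by omega⟩ with hl
  have hij : i < j := by rw [Fin.lt_def]; simp [hi, hj]
  have hjl : j < l := by rw [Fin.lt_def]; simp only [hj, hl]; omega
  obtain ⟨x, hx, ex⟩ := exists_root cs (a := (i, true)) (b := (l, false)) (Or.inl (hij.trans hjl).ne) rfl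
    (hij.trans hjl).le
  obtain ⟨y, hy, ey⟩ := exists_root cs (a := (j, true)) (b := (l, true)) (Or.inl hjl.ne) rfl hjl.le
  refine hS i j l hij hjl x y ex ey (comm_bot R hX hx hy hk hk (pos_sub ex ?_ ?_) (pos_add ey ?_))
  · rw [Fin.le_def]; simp [hi]
  · rw [Fin.lt_def]; simp only [hl]; omega
  · rw [Fin.le_def]; simp only [hj]; omega

theorem mv_nax (hS : NAX X) {k : Fin n} (hk : k ∈ Mv ρ nn a) : (k : ℕ) + 1 = n := by
  by_contra h1
  have hk2 := k.2
  set i : Fin n := ⟨0, by omega⟩ with hi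
  set j : Fin n := ⟨k + 1, by omega⟩ with hj
  have hij : i < j := by rw [Fin.lt_def]; simp [hi, hj]
  obtain ⟨x, hx, ex⟩ := exists_root cs (a := (i, true)) (b := (j, true)) (Or.inl hij.ne) rfl hij.le
  obtain ⟨y, hy, ey⟩ := exists_root cs (a := (i, true)) (b := (j, false)) (Or.inl hij.ne) rfl hij.le
  refine hS i j hij x y ex ey (comm_bot R hX hx hy hk hk (pos_add ex ?_) (pos_sub ey ?_ ?_))
  · rw [Fin.le_def]; simp [hi]
  · rw [Fin.le_def]; simp [hi]
  · rw [Fin.lt_def]; simp [hj]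

theorem mv_naz (hS : NAZ X) {k : Fin n} (hk : k ∈ Mv ρ nn a) : (k : ℕ) = 0 := by
  by_contra h1
  have hk2 := k.2
  set i : Fin n := ⟨0, by omega⟩ with hi
  have hij : i < k := by rw [Fin.lt_def]; simp only [hi]; omega
  obtain ⟨x, hx, ex⟩ := exists_root cs (a := (i, true)) (b := (i, true)) (Or.inr rfl) rfl le_rfl
  obtain ⟨y, hy, ey⟩ := exists_root cs (a := (k, true)) (b := (k, true)) (Or.inr rfl) rfl le_rfl
  exact hS i k hij x y ex ey (comm_bot R hX hx hy hk hk (pos_add ex hij.le) (pos_add ey le_rfl))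

/-- at most one node is moved -/
theorem mv_one [Finite Y] (hS : NAS X) {k l : Fin n} (hk : k ∈ Mv ρ nn a) (hl : l ∈ Mv ρ nn a) : k = l := by
  have : Finite W := finite_W cs
  have key : ∀ {k l : Fin n}, k ∈ Mv ρ nn a → l ∈ Mv ρ nn a → ¬ k < l := by
    intro k l hk hl hlt
    have hlt' := Fin.lt_def.1 hlt
    have h1 := mv_int R hX hS hk
    have h2 := mv_int R hX hS hl
    have hl2 := l.2
    by_cases hn : n = 2
    · subst hn
      have h3 := M_eq_two R.core R.sq hlt.ne hk hl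
      have hk0 : k = 0 := Fin.ext (by simp; omega)
      have hl1 : l = 1 := Fin.ext (by simp; omega)
      subst hk0 hl1
      exact absurd h3 (by decide)
    · set j : Fin n := ⟨1, by omega⟩ with hj
      have hkj : k < j := by rw [Fin.lt_def]; simp only [hj]; omega
      have hjl : j < l := by rw [Fin.lt_def]; simp only [hj]; omega
      obtain ⟨x, hx, ex⟩ := exists_root cs (a := (k, true)) (b := (l, false)) (Or.inl hlt.ne) rfl hlt.le
      obtain ⟨y, hy, ey⟩ := exists_root cs (a := (j, true)) (b := (l, true)) (Or.inl hjl.ne) rfl hjl.le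
      exact hS k j l hkj hjl x y ex ey (comm_bot R hX hx hy hk hl (pos_sub ex le_rfl hlt) (pos_add ey hjl.le))
  exact le_antisymm (not_lt.1 (key hl hk)) (not_lt.1 (key hk hl))

end KAn

end Cfsg.Agent.Omega.EH3.Kf.TwC

end

section


/-!
# EH3, Lie rows in characteristic 2: families without a row (helper737)

* `false_of_pair` : the root groups of the roots that are not fundamental lie in `[U, U]`, and two root groups of roots
  with all coefficients positive do not commute: there is no `Row`.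
* `rowEnd_of_pair`, `kfRow_of_pair` : the same for the interface `FamRow`.
-/

set_option autoImplicit false

namespace Cfsg.Agent.Omega.EH3.Kf.NoRow

open CoxeterSystem Cfsg.Agent.ChevalleyStructure.CoxeterGeom Cfsg.Agent.Tits.Roots Cfsg.Agent.Tits.Core
  Cfsg.Agent.Tits.RootComb Cfsg.Agent.Nodes.Comb Cfsg.Agent.Nodes.Reps Cfsg.Agent.Nodes.BNOf
  Cfsg.Agent.Nodes.StabComb Cfsg.Agent.Nodes.Bruhat Cfsg.Agent.Nodes.LeviDec Cfsg.Agent.Nodes.RGDLib
  Cfsg.Agent.Omega.EH3.Kf.Base Cfsg.Agent.Omega.EH3.Kf.Out Cfsg.Agent.Omega.EH3.Kf.Goal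
  Cfsg.Agent.Omega.EH3.Kf.FamRow

universe u v

section

variable {I W Y V : Type*} [Fintype I] [DecidableEq I] [Group W] [Group Y] [AddCommGroup V]
    [Module (ZMod 2) V] {M : CoxeterMatrix I} {cs : CoxeterSystem M W} {A : I → I → ℤ} {h : IsCartan M A}
    {T : Subgroup Y} {n : I → Y} {X : (I → ℤ) → Subgroup Y} {ρ : Y →* (V ≃ₗ[ZMod 2] V)}
    {b : LinearMap.BilinForm (ZMod 2) V} {a : V} {D : Submodule (ZMod 2) V} {X0 : Subgroup Y} {w : ℕ}

/-- `V_J` is abelian and contains all root groups of roots with full support. -/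
theorem false_of_pair [Finite W] [Finite Y] (R : Row cs h T n X ρ b a D X0 w)
    (hgen : ∀ x, IsRoot cs h x → 0 ≤ x → (∀ i, x ≠ sr i) →
      X x ≤ ⁅RGD.Sup X (RGD.Pos cs h), RGD.Sup X (RGD.Pos cs h)⁆)
    {x y : I → ℤ} (hx : IsRoot cs h x) (hy : IsRoot cs h y) (hfx : ∀ k, 0 < x k) (hfy : ∀ k, 0 < y k)
    (hne : ⁅X x, X y⁆ ≠ ⊥) : False := by
  have hX : X0 = VJ cs h X (Mv ρ n a)ᶜ := Cov.eq_VJ R (fun u hu => ThmA.thmA R.core le_rfl u hu) hgen
  obtain ⟨k, hk⟩ := TwC.mv_nonempty R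
  exact hne (TwC.comm_bot R hX (x := x) (y := y) ⟨hx, fun i => (hfx i).le⟩ ⟨hy, fun i => (hfy i).le⟩ hk hk
    (hfx k) (hfy k))

end

/-- The same for the family level. -/
theorem rowEnd_of_pair {K : Type v} [Group K] [Finite K] {l : ℕ} {M : CoxeterMatrix (Fin l)}
    {A : Fin l → Fin l → ℤ} {h : IsCartan M A} {T : Subgroup K} {n : Fin l → K} {X : (Fin l → ℤ) → Subgroup K}
    (B : Bd M h T n X)
    (hgen : ∀ x, IsRoot M.toCoxeterSystem h x → 0 ≤ x → (∀ i, x ≠ sr i) →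
      X x ≤ ⁅RGD.Sup X (RGD.Pos M.toCoxeterSystem h), RGD.Sup X (RGD.Pos M.toCoxeterSystem h)⁆)
    {x y : Fin l → ℤ} (hx : IsRoot M.toCoxeterSystem h x) (hy : IsRoot M.toCoxeterSystem h y)
    (hfx : ∀ k, 0 < x k) (hfy : ∀ k, 0 < y k) (hne : ⁅X x, X y⁆ ≠ ⊥) : RowEnd.{u} M h T n X := by
  intro V _ _ ρ b a D X0 w R
  have : Finite M.Group := B.fin
  exact (false_of_pair R hgen hx hy hfx hfy hne).elim

/-- The row of `K`. -/
theorem kfRow_of_pair {K : Type v} [Group K] [Finite K] {l : ℕ} {M : CoxeterMatrix (Fin l)}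
    {A : Fin l → Fin l → ℤ} {h : IsCartan M A} {T : Subgroup K} {n : Fin l → K} {X : (Fin l → ℤ) → Subgroup K}
    (B : Bd M h T n X)
    (hgen : ∀ x, IsRoot M.toCoxeterSystem h x → 0 ≤ x → (∀ i, x ≠ sr i) →
      X x ≤ ⁅RGD.Sup X (RGD.Pos M.toCoxeterSystem h), RGD.Sup X (RGD.Pos M.toCoxeterSystem h)⁆)
    {x y : Fin l → ℤ} (hx : IsRoot M.toCoxeterSystem h x) (hy : IsRoot M.toCoxeterSystem h y)
    (hfx : ∀ k, 0 < x k) (hfy : ∀ k, 0 < y k) (hne : ⁅X x, X y⁆ ≠ ⊥) : KfRow.{u} K :=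
  ⟨l, M, A, h, T, n, X, B, rowEnd_of_pair B hgen hx hy hfx hfy hne⟩

end Cfsg.Agent.Omega.EH3.Kf.NoRow

end

section


/-!
# EH3, Lie rows in characteristic 2: the bundle of data of the Chevalley groups `D.group K` (helper737)

* `tor_comm` : the torus of `RGDChev.rgd` is abelian (any characteristic);
* `el` : the root groups have exponent two in characteristic two;
* `bd : Bd M h T n X` for all types of `RGDChev`.
-/

set_option autoImplicit false

namespace Cfsg.Agent.Omega.EH3.Kf.FamChev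

open CoxeterSystem Cfsg.Agent.ChevalleyStructure.CoxeterGeom Cfsg.Agent.Tits.Roots Cfsg.Agent.Tits.Core
  Cfsg.Agent.Tits.RootComb Cfsg.Agent.Nodes.Comb Cfsg.Agent.Nodes.Reps Cfsg.Agent.Nodes.BNOf
open Cfsg.Lie Cfsg.Agent.ChevalleyStructure Cfsg.Agent.ChevalleyStructure.Elts
  Cfsg.Agent.ChevalleyStructure.RootVec Cfsg.Agent.ChevalleyStructure.RootVecTab
  Cfsg.Agent.ChevalleyStructure.NPerm Cfsg.Agent.ChevalleyStructure.CoxeterGeomTypes
open Cfsg.Agent.Nodes.RGDChev Cfsg.Agent.Omega.EH3.Kf.FamRow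
open scoped commutatorElement

universe u

variable {D : ChevalleyDatum} {l : ℕ} {M : CoxeterMatrix (Fin l)} (hp : IsType D l M) {K : Type u} [Field K]

include hp

/-- The torus is abelian. -/
theorem tor_comm {s t : ↥(D.group K)} (hs : s ∈ (D.diagonalSubgroup K).subgroupOf (D.group K))
    (ht : t ∈ (D.diagonalSubgroup K).subgroupOf (D.group K)) : s * t = t * s := by
  obtain ⟨χ, hχ⟩ := HMatDiagAll.mem_torus.1 (HMatDiagAll.diagonalSubgroup_le_torus hp.inList
    (Subgroup.mem_subgroupOf.1 hs))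
  obtain ⟨ψ, hψ⟩ := HMatDiagAll.mem_torus.1 (HMatDiagAll.diagonalSubgroup_le_torus hp.inList
    (Subgroup.mem_subgroupOf.1 ht))
  apply Subtype.ext
  apply Units.ext
  show ((s : GL D.Idx K) : Matrix D.Idx D.Idx K) * ((t : GL D.Idx K) : Matrix D.Idx D.Idx K) =
    ((t : GL D.Idx K) : Matrix D.Idx D.Idx K) * ((s : GL D.Idx K) : Matrix D.Idx D.Idx K)
  rw [hχ, hψ, Matrix.diagonal_mul_diagonal, Matrix.diagonal_mul_diagonal]
  congr 1
  funext i
  exact mul_comm _ _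

/-- `xG t ∈ X (vec r)` in the group. -/
theorem mem_X_iff {r : ℕ} (hr : r < D.nroots) {g : ↥(D.group K)} :
    g ∈ (XV D l K (vec D l r)).subgroupOf (D.group K) ↔ ∃ t, (g : GL D.Idx K) = xG hp.inList r t := by
  rw [Subgroup.mem_subgroupOf, XV_vec hp K hr, mem_rootSubgroup_iff hp.inList]

theorem xG_sq [CharP K 2] (r : ℕ) (t : K) : xG hp.inList r t * xG hp.inList r t = 1 := by
  rw [xG_add, CharTwo.add_self_eq_zero, xG_zero]

theorem xG_inv_eq [CharP K 2] (r : ℕ) (t : K) : (xG hp.inList r t)⁻¹ = xG hp.inList r t :=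
  inv_eq_of_mul_eq_one_left (xG_sq hp r t)

theorem el [CharP K 2] {r : ℕ} (hr : r < D.nroots) {g : ↥(D.group K)}
    (hg : g ∈ (XV D l K (vec D l r)).subgroupOf (D.group K)) : g * g = 1 := by
  obtain ⟨t, ht⟩ := (mem_X_iff hp hr).1 hg
  apply Subtype.ext
  show (g : GL D.Idx K) * (g : GL D.Idx K) = 1
  rw [ht, xG_sq hp]

/-- **The bundle of data of `D.group K`.** -/
theorem bd [Finite K] [CharP K 2] : Bd M hp.isCartan ((D.diagonalSubgroup K).subgroupOf (D.group K))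
    (fun i => (⟨nn hp K i, nn_mem_group hp i⟩ : ↥(D.group K)))
    (fun x => (XV D l K x).subgroupOf (D.group K)) where
  fin := finite_W hp M.toCoxeterSystem
  rgd := by
    have : Fact (Nat.Prime 2) := ⟨Nat.prime_two⟩
    exact rgd (K := K) hp M.toCoxeterSystem 2
  gen := by
    rw [← G1_eq_top hp M.toCoxeterSystem (K := K)]
    unfold RGD.Sup Nodes.RGDLib.G1
    apply le_antisymm
    · refine iSup_le fun z => ?_
      exact le_iSup (fun x : {x // IsRoot M.toCoxeterSystem hp.isCartan x} => (XV D l K x).subgroupOf (D.group K))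
        ⟨z.1, z.2⟩
    · refine iSup_le fun z => ?_
      exact le_iSup (fun x : {x // x ∈ {x | IsRoot M.toCoxeterSystem hp.isCartan x}} =>
        (XV D l K x).subgroupOf (D.group K)) ⟨z.1, z.2⟩
  ab s hs t ht := tor_comm hp hs ht
  el i u hu := by
    rw [← vec_simple hp i] at hu
    exact el hp (simple_lt hp.inList (lt_rank hp i)) hu

/-- the commutator of two root elements in characteristic two -/
theorem comm_two [CharP K 2] {r s : ℕ} (hr : r < D.nroots) (hs : s < D.nroots) (hrs : s ≠ r)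
    (hneg : s ≠ D.neg r) (t u : K) :
    ⁅xG hp.inList s u, xG hp.inList r t⁆ = wordG hp.inList (D.commWord K r s t u) := by
  rw [← comm_xG hp hr hs hrs hneg, xG_inv_eq hp, xG_inv_eq hp]

end Cfsg.Agent.Omega.EH3.Kf.FamChev

end
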