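import Mathlib
import Cfsg.Agent.Mrg.Omega.EH3.Kf.Base
import Cfsg.Agent.KFacts.RgdRigid
import Cfsg.Agent.KFacts.RgdFixU
import Cfsg.Agent.Omega.EH3.Cons
import Cfsg.Agent.Omega.EH3.TForm
import Cfsg.Agent.Nodes.RGDLib

section


/-!
# `X ≤ L` (helper810; KF3 (2))

`L` normal in `H`, with a root group datum of characteristic 2 which generates it; `H` acts on the `ZMod 2`-space `V`; the
Borel subgroup fixes `a ≠ 0`, `C_V(U) = {0, a}`; `P` is an elementary abelian 2-group normalised by the stabiliser of `a`,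
with `C_V(P) = {0, a}`, normalising `U`. If the groups `X_i` have exponent 2 (`Nd`: for at most one node exponent 4, as in
the odd-dimensional unitary groups) then `P ≤ U` (`Inp.mem_U`).

No hypothesis on the type, the rank or the diagram symmetries.
-/

set_option autoImplicit false
set_option linter.unusedSectionVars false

namespace Cfsg.Agent.Omega.EH3.Kf.InL

open CoxeterSystem Cfsg.Agent.ChevalleyStructure.CoxeterGeom Cfsg.Agent.Tits.Roots Cfsg.Agent.Tits.Core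
  Cfsg.Agent.Tits.RootComb Cfsg.Agent.Nodes.Comb Cfsg.Agent.Nodes.Reps Cfsg.Agent.Nodes.BNOf
  Cfsg.Agent.Nodes.StabComb Cfsg.Agent.Nodes.Bruhat Cfsg.Agent.Nodes.OppDec Cfsg.Agent.Tits.Exchange
  Cfsg.Agent.KFacts.RgdOpp Cfsg.Agent.KFacts.RgdAut Cfsg.Agent.KFacts.RgdDiag Cfsg.Agent.KFacts.RgdFixU
  Cfsg.Agent.Omega.EH3.Kf.Nm Cfsg.Agent.Omega.EH3.Kf.TrOne

/-! ### complements in groups of exponent 2 -/

/-- complements in a group of exponent 2 -/
theorem exists_compl {G : Type*} [Group G] [Finite G] {P N : Subgroup G} (hP : ∀ x ∈ P, x * x = 1) (hN : N ≤ P) :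
    ∃ R ≤ P, (∀ x ∈ R, x ∈ N → x = 1) ∧ ∀ x ∈ P, ∃ r ∈ R, ∃ m ∈ N, x = r * m := by
  classical
  have hinv : ∀ x ∈ P, x⁻¹ = x := fun x hx => inv_eq_of_mul_eq_one_left (hP x hx)
  have hcomm : ∀ x ∈ P, ∀ y ∈ P, x * y = y * x := by
    intro x hx y hy
    have h1 := hinv _ (mul_mem hx hy)
    rw [mul_inv_rev, hinv x hx, hinv y hy] at h1
    exact h1.symm
  set S : Set (Subgroup G) := {R | R ≤ P ∧ ∀ x ∈ R, x ∈ N → x = 1} with hS
  have hne : S.Nonempty := ⟨⊥, bot_le, fun x hx _ => Subgroup.mem_bot.1 hx⟩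
  obtain ⟨R, ⟨hRP, hRN⟩, hmax⟩ := Set.exists_max_image S (fun R : Subgroup G => Nat.card R) (Set.toFinite S) hne
  refine ⟨R, hRP, hRN, fun x hx => ?_⟩
  by_contra hcon
  push Not at hcon
  -- `R ∪ R x`
  let R' : Subgroup G :=
    { carrier := {g | g ∈ R ∨ g * x ∈ R}
      one_mem' := Or.inl (one_mem _)
      mul_mem' := by
        rintro g k (hg | hg) (hk | hk)
        · exact Or.inl (mul_mem hg hk)
        · exact Or.inr (by rw [mul_assoc]; exact mul_mem hg hk)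
        · right
          have hgP : g ∈ P := by
            have := mul_mem (hRP hg) (inv_mem hx)
            rwa [mul_inv_cancel_right] at this
          have : g * k * x = g * x * k := by rw [mul_assoc, hcomm k (hRP hk) x hx, mul_assoc]
          rw [this]
          exact mul_mem hg hk
        · left
          have hkP : k ∈ P := by
            have := mul_mem (hRP hk) (inv_mem hx)
            rwa [mul_inv_cancel_right] at this
          have : g * k = (g * x) * (k * x) := by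
            rw [hcomm k hkP x hx, mul_assoc g, ← mul_assoc x x k, hP x hx, one_mul]
          rw [this]
          exact mul_mem hg hk
      inv_mem' := by
        rintro g (hg | hg)
        · exact Or.inl (inv_mem hg)
        · right
          have hgP : g ∈ P := by
            have := mul_mem (hRP hg) (inv_mem hx)
            rwa [mul_inv_cancel_right] at this
          rw [hinv g hgP]
          exact hg }
  have hR' : ∀ g, g ∈ R' ↔ g ∈ R ∨ g * x ∈ R := fun g => Iff.rfl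
  have hle : R ≤ R' := fun g hg => Or.inl hg
  have hxR : x ∉ R := fun h1 => hcon x h1 1 (one_mem _) (mul_one x).symm
  have hxR' : x ∈ R' := (hR' x).2 (Or.inr (by rw [hP x hx]; exact one_mem _))
  have hR'S : R' ∈ S := by
    refine ⟨?_, ?_⟩
    · rintro g (hg | hg)
      · exact hRP hg
      · have := mul_mem (hRP hg) (inv_mem hx)
        rwa [mul_inv_cancel_right] at this
    · rintro g (hg | hg) hgN
      · exact hRN g hg hgN
      · exfalso
        refine hcon _ hg g hgN ?_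
        have hgP : g ∈ P := hN hgN
        rw [hcomm g hgP x hx, mul_assoc, hP g hgP, mul_one]
  have h1 := hmax R' hR'S
  have h2 : R = R' := Subgroup.eq_of_le_of_card_ge hle h1
  rw [h2] at hxR
  exact hxR hxR'

variable {I W H V : Type*} [Fintype I] [DecidableEq I] [Group W] [Group H] [AddCommGroup V]
    [Module (ZMod 2) V] {M : CoxeterMatrix I} {cs : CoxeterSystem M W} {A : I → I → ℤ} {h : IsCartan M A}

/-! ### the groups `V_i` -/

section V

variable {Y : Type*} [Group Y] {T : Subgroup Y} {n : I → Y} {X : (I → ℤ) → Subgroup Y} {p : ℕ}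
variable (R : RGD cs h p T n X)

include R

/-- `V_i = U ∩ n_i⁻¹ U n_i` -/
theorem mem_V_iff [Finite W] {i : I} {k : Y} (hk : Rp cs R.nsys (cs.simple i) k) {u : Y} :
    u ∈ RGD.Sup X (RGD.PosNe cs h i) ↔
      u ∈ RGD.Sup X (RGD.Pos cs h) ∧ k * u * k⁻¹ ∈ RGD.Sup X (RGD.Pos cs h) := by
  have hkV : ∀ v ∈ RGD.Sup X (RGD.PosNe cs h i), k * v * k⁻¹ ∈ RGD.Sup X (RGD.Pos cs h) := fun v hv =>
    conj_mem_Sup R hk (S' := RGD.Pos cs h) (fun x hx => hx.1) (fun x hx =>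
      ⟨hx.1.act _, hx.1.simple_nonneg hx.2.1 i hx.2.2⟩) hv
  constructor
  · intro hu
    exact ⟨V_le_U R i hu, hkV u hu⟩
  · rintro ⟨h1, h2⟩
    obtain ⟨a, ha, v, hv, rfl⟩ := exists_mul_V R i h1
    have h3 : k * a * k⁻¹ ∈ RGD.Sup X (RGD.Pos cs h) := by
      have e : k * a * k⁻¹ = k * (a * v) * k⁻¹ * (k * v * k⁻¹)⁻¹ := by group
      rw [e]
      exact mul_mem h2 (inv_mem (hkV v hv))
    have h4 := eq_one_of_conj_mem_B R ha hk (RGD.U_le_B h3)
    rw [h4, one_mul]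
    exact hv

theorem X_le_V {i j : I} (hij : i ≠ j) : X (sr i) ≤ RGD.Sup X (RGD.PosNe cs h j) := by
  refine RGD.le_Sup (S := RGD.PosNe cs h j) ⟨isRoot_sr cs h i, sr_nonneg i, fun he => ?_⟩
  have h1 := congrFun he i
  rw [sr_self, sr_ne hij] at h1
  exact one_ne_zero h1

theorem X_le_U (i : I) : X (sr i) ≤ RGD.Sup X (RGD.Pos cs h) :=
  RGD.le_Sup (S := RGD.Pos cs h) ⟨isRoot_sr cs h i, sr_nonneg i⟩

/-- `V_i` is normal in `U` -/
theorem conj_V {i : I} {u v : Y} (hu : u ∈ RGD.Sup X (RGD.Pos cs h)) (hv : v ∈ RGD.Sup X (RGD.PosNe cs h i)) :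
    u * v * u⁻¹ ∈ RGD.Sup X (RGD.PosNe cs h i) :=
  (Subgroup.mem_normalizer_iff.1 (U_le_normalizer_V R i hu) v).1 hv

/-- `U / V_i` is abelian if `X_i` is -/
theorem comm_V {i : I} (hab : ∀ x ∈ X (sr i), ∀ y ∈ X (sr i), x * y = y * x) {u k : Y}
    (hu : u ∈ RGD.Sup X (RGD.Pos cs h)) (hk : k ∈ X (sr i)) : u * k * u⁻¹ * k⁻¹ ∈ RGD.Sup X (RGD.PosNe cs h i) := by
  obtain ⟨y, hy, v, hv, rfl⟩ := exists_mul_V R i hu
  have e : y * v * k * (y * v)⁻¹ * k⁻¹ = y * (v * (k * v⁻¹ * k⁻¹)) * y⁻¹ * (y * k * y⁻¹ * k⁻¹) := by group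
  have e2 : y * k * y⁻¹ * k⁻¹ = 1 := by rw [hab y hy k hk]; group
  rw [e, e2, mul_one]
  exact conj_V R (X_le_U R i hy) (mul_mem hv (conj_V R (X_le_U R i hk) (inv_mem hv)))

/-- a frame automorphism maps `V_i` to `V_{σ i}` -/
theorem diag_V [Finite W] {β : MulAut Y} {σ : Equiv.Perm I} (D : Diag T X β σ)
    (hU : Fix β (RGD.Sup X (RGD.Pos cs h))) (i : I) (v : Y) :
    β v ∈ RGD.Sup X (RGD.PosNe cs h (σ i)) ↔ v ∈ RGD.Sup X (RGD.PosNe cs h i) := by
  rw [mem_V_iff R (D.rp (R := R) i), mem_V_iff R (rp_simple cs R.nsys i), hU v, ← map_inv, ← map_mul, ← map_mul,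
    hU (n i * v * (n i)⁻¹)]

end V

/-! ### the setup -/

/-- a node with `X_i` of exponent 4 (the last node of the odd-dimensional unitary groups) -/
structure Ex {Y : Type*} [Group Y] (T : Subgroup Y) (X : (I → ℤ) → Subgroup Y) (i : I) : Prop where
  cen : ∀ u ∈ X (sr i), u * u = 1 → ∀ v ∈ X (sr i), u * v = v * u
  com : ∀ u ∈ X (sr i), ∀ v ∈ X (sr i), (u * v * u⁻¹ * v⁻¹) * (u * v * u⁻¹ * v⁻¹) = 1
  sq : ∀ z ∈ X (sr i), z * z = 1 → ∃ y ∈ X (sr i), z = y * y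
  irr : ∀ K : Subgroup Y, K ≤ X (sr i) → (∀ z ∈ X (sr i), z * z = 1 → z ∈ K) →
    (∀ t ∈ T, ∀ k ∈ K, t * k * t⁻¹ ∈ K) → (∀ z ∈ K, z * z = 1) ∨ X (sr i) ≤ K
  card : ∀ Z : Subgroup Y, (∀ z ∈ Z, z ∈ X (sr i) ∧ z * z = 1) → Nat.card Z * Nat.card Z < Nat.card (X (sr i))

/-- the possible nodes -/
def Nd {Y : Type*} [Group Y] (T : Subgroup Y) (X : (I → ℤ) → Subgroup Y) (i : I) : Prop :=
  (∀ u ∈ X (sr i), u * u = 1) ∨ Ex T X i

/-- the setup -/
structure Inp {L : Subgroup H} [L.Normal] (cs : CoxeterSystem M W) {A : I → I → ℤ} (h : IsCartan M A)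
    (T : Subgroup L) (n : I → L) (X : (I → ℤ) → Subgroup L) (ρ : H →* (V ≃ₗ[ZMod 2] V)) (a : V) (P : Subgroup H) :
    Prop where
  rgd : RGD cs h 2 T n X
  g1 : RGD.Sup X {x | IsRoot cs h x} = ⊤
  nd : ∀ i, Nd T X i
  one : ∀ i j, ¬ (∀ u ∈ X (sr i), u * u = 1) → ¬ (∀ u ∈ X (sr j), u * u = 1) → i = j
  a_ne : a ≠ 0
  fixB : ∀ g ∈ RGD.B cs h T X, ρ g a = a
  fixU : ∀ v, (∀ u ∈ RGD.Sup X (RGD.Pos cs h), ρ u v = v) → v = 0 ∨ v = a
  sq : ∀ x ∈ P, x * x = 1
  norm : ∀ g : H, ρ g a = a → ∀ x ∈ P, g * x * g⁻¹ ∈ P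
  Pa : ∀ x ∈ P, ρ x a = a
  fix : ∀ v, (∀ x ∈ P, ρ x v = v) → v = 0 ∨ v = a
  nU : ∀ x ∈ P, Fix (MulAut.conjNormal x) (RGD.Sup X (RGD.Pos cs h))
  cen : ∀ g : H, (∀ l : L, g * l * g⁻¹ = l) → g = 1

section S

variable [Finite H] [Finite W] {L : Subgroup H} [L.Normal] {T : Subgroup L} {n : I → L}
  {X : (I → ℤ) → Subgroup L} {ρ : H →* (V ≃ₗ[ZMod 2] V)} {a : V} {P : Subgroup H}

variable (N : Inp cs h T n X ρ a P)

include N

theorem Inp.gen : GG cs h T X = ⊤ := KFacts.RgdRigid.GG_eq_top N.g1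

omit N [Finite H] [Finite W] [Group W] in
theorem ab_of {i : I} (hel : ∀ u ∈ X (sr i), u * u = 1) : ∀ x ∈ X (sr i), ∀ y ∈ X (sr i), x * y = y * x := by
  intro x hx y hy
  have hi : ∀ z ∈ X (sr i), z⁻¹ = z := fun z hz => inv_eq_of_mul_eq_one_left (hel z hz)
  have h1 := hi _ (mul_mem hx hy)
  rw [mul_inv_rev, hi x hx, hi y hy] at h1
  exact h1.symm

theorem Inp.P_inv {x : H} (hx : x ∈ P) : x⁻¹ = x := inv_eq_of_mul_eq_one_left (N.sq x hx)

theorem Inp.P_comm {x y : H} (hx : x ∈ P) (hy : y ∈ P) : x * y = y * x := by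
  have h1 := N.P_inv (mul_mem hx hy)
  rw [mul_inv_rev, N.P_inv hx, N.P_inv hy] at h1
  exact h1.symm

theorem Inp.core : ThmA.Core cs h T n X (ρ.comp L.subtype) a (RGD.Sup X (RGD.Pos cs h)) :=
  ⟨N.rgd, N.a_ne, N.fixB, le_rfl, N.fixU⟩

/-- `P ∩ L ≤ U` -/
theorem Inp.le_U {z : L} (hz : (z : H) ∈ P) : z ∈ RGD.Sup X (RGD.Pos cs h) := by
  have h1 : z ∈ Subgroup.normalizer (RGD.Sup X (RGD.Pos cs h) : Set L) := by
    rw [Subgroup.mem_normalizer_iff]
    intro u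
    have h2 := N.nU _ hz u
    rw [MulAut.conjNormal_val, MulAut.conj_apply] at h2
    exact h2.symm
  rw [normalizer_U' N.rgd N.gen] at h1
  refine N.rgd.mem_U_of_mem_B h1 (k := 1) ?_
  rw [pow_one, pow_two]
  exact Subtype.ext (N.sq _ hz)

/-- `[P, B] ≤ P ∩ L` -/
theorem Inp.comm_mem {x : H} (hx : x ∈ P) {y : L} (hy : y ∈ RGD.B cs h T X) :
    ((MulAut.conjNormal x y * y⁻¹ : L) : H) ∈ P := by
  rw [Subgroup.coe_mul, MulAut.conjNormal_apply, Subgroup.coe_inv]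
  have h1 : x * y * x⁻¹ * (y : H)⁻¹ = x * ((y : H) * x * (y : H)⁻¹)⁻¹ := by group
  rw [h1]
  exact mul_mem hx (inv_mem (N.norm _ (N.fixB y hy) x hx))

theorem Inp.conj_P {z y : L} (hz : (z : H) ∈ P) (hy : y ∈ RGD.B cs h T X) : ((y * z * y⁻¹ : L) : H) ∈ P := by
  rw [Subgroup.coe_mul, Subgroup.coe_mul, Subgroup.coe_inv]
  exact N.norm _ (N.fixB y hy) _ hz

theorem Inp.apply_P {x : H} (hx : x ∈ P) {z : L} (hz : (z : H) ∈ P) : MulAut.conjNormal x z = z := by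
  apply Subtype.ext
  rw [MulAut.conjNormal_apply, N.P_comm hx hz, mul_inv_cancel_right]

/-- an element of `P ∩ L` outside `V_i` : `P ∩ L` covers `U / V_i` -/
theorem Inp.cover {i : I} (hel : ∀ u ∈ X (sr i), u * u = 1) {z : L} (hz : (z : H) ∈ P) (hzV : z ∉ RGD.Sup X (RGD.PosNe cs h i)) {u : L}
    (hu : u ∈ RGD.Sup X (RGD.Pos cs h)) :
    ∃ z' : L, (z' : H) ∈ P ∧ z'⁻¹ * u ∈ RGD.Sup X (RGD.PosNe cs h i) := by
  obtain ⟨y, hy, v, hv, rfl⟩ := exists_mul_V N.rgd i (N.le_U hz)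
  obtain ⟨y', hy', v', hv', rfl⟩ := exists_mul_V N.rgd i hu
  by_cases h1 : y' = 1
  · refine ⟨1, one_mem _, ?_⟩
    rw [h1, inv_one, one_mul, one_mul]
    exact hv'
  have hy1 : y ≠ 1 := by
    rintro rfl
    rw [one_mul] at hzV
    exact hzV hv
  obtain ⟨t, ht, e⟩ := tr_pos N.rgd hel hy hy1 hy' h1
  refine ⟨t * (y * v) * t⁻¹, N.conj_P hz (RGD.T_le_B ht.1), ?_⟩
  have e1 : (t * (y * v) * t⁻¹)⁻¹ * (y' * v') = (t * v * t⁻¹)⁻¹ * v' := by
    rw [← e]; group
  rw [e1]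
  have hTV : T ≤ Subgroup.normalizer (RGD.Sup X (RGD.PosNe cs h i) : Set L) :=
    N.rgd.T_le_normalizer fun x hx => hx.1
  exact mul_mem (inv_mem ((Subgroup.mem_normalizer_iff.1 (hTV ht.1) v).1 hv)) hv'

/-- an element of `P ∩ L` outside `V_i` : the node `i` moves `a` -/
theorem Inp.moves {i : I} {z : L} (hz : (z : H) ∈ P) (hzV : z ∉ RGD.Sup X (RGD.PosNe cs h i)) :
    ρ (n i) a ≠ a := by
  intro ha
  apply hzV
  rw [mem_V_iff N.rgd (rp_simple cs N.rgd.nsys i)]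
  refine ⟨N.le_U hz, N.le_U ?_⟩
  rw [Subgroup.coe_mul, Subgroup.coe_mul, Subgroup.coe_inv]
  exact N.norm _ ha _ hz

/-- an element of `P` preserving `V_i` centralises `U / V_i` -/
theorem Inp.triv {i : I} (hel : ∀ u ∈ X (sr i), u * u = 1) {x : H} (hx : x ∈ P)
    (hxV : ∀ v ∈ RGD.Sup X (RGD.PosNe cs h i), MulAut.conjNormal x v ∈ RGD.Sup X (RGD.PosNe cs h i)) {u : L}
    (hu : u ∈ RGD.Sup X (RGD.Pos cs h)) : MulAut.conjNormal x u * u⁻¹ ∈ RGD.Sup X (RGD.PosNe cs h i) := by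
  have hz := N.comm_mem hx (RGD.U_le_B hu)
  by_cases hzV : MulAut.conjNormal x u * u⁻¹ ∈ RGD.Sup X (RGD.PosNe cs h i)
  · exact hzV
  obtain ⟨z', hz', hv⟩ := N.cover hel hz hzV hu
  have e : MulAut.conjNormal x u * u⁻¹ =
      z' * (MulAut.conjNormal x (z'⁻¹ * u) * (z'⁻¹ * u)⁻¹) * z'⁻¹ := by
    rw [map_mul, map_inv, N.apply_P hx hz']; group
  rw [e]
  exact conj_V N.rgd (N.le_U hz') (mul_mem (hxV _ hv) (inv_mem hv))

/-- the frame of an element of `P` -/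
theorem Inp.frame {x : H} (hx : x ∈ P) : ∃ u ∈ RGD.Sup X (RGD.Pos cs h), ∃ σ : Equiv.Perm I,
    Diag T X (MulAut.conj u * MulAut.conjNormal x) σ ∧
      Fix (MulAut.conj u * MulAut.conjNormal x) (RGD.Sup X (RGD.Pos cs h)) := by
  obtain ⟨u, hu, hU, -, hUN, -, -⟩ := exists_frame N.rgd N.gen (N.nU x hx)
  obtain ⟨σ, D⟩ := exists_diag N.rgd N.gen hU hUN
  exact ⟨u, hu, σ, D, hU⟩

/-- `x V_i x⁻¹ = V_{σ i}` -/
theorem Inp.map_V {x : H} {u : L} (hu : u ∈ RGD.Sup X (RGD.Pos cs h)) {σ : Equiv.Perm I}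
    (D : Diag T X (MulAut.conj u * MulAut.conjNormal x) σ)
    (hU : Fix (MulAut.conj u * MulAut.conjNormal x) (RGD.Sup X (RGD.Pos cs h))) (i : I) (v : L) :
    MulAut.conjNormal x v ∈ RGD.Sup X (RGD.PosNe cs h (σ i)) ↔ v ∈ RGD.Sup X (RGD.PosNe cs h i) := by
  rw [← diag_V N.rgd D hU i v, MulAut.mul_apply, MulAut.conj_apply]
  exact Subgroup.mem_normalizer_iff.1 (U_le_normalizer_V N.rgd (σ i) hu) _

/-- `σ i = i` if `x` preserves `V_i` -/
theorem Inp.sigma_eq {x : H} {u : L} (hu : u ∈ RGD.Sup X (RGD.Pos cs h)) {σ : Equiv.Perm I}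
    (D : Diag T X (MulAut.conj u * MulAut.conjNormal x) σ)
    (hU : Fix (MulAut.conj u * MulAut.conjNormal x) (RGD.Sup X (RGD.Pos cs h))) {i : I}
    (hxV : ∀ v ∈ RGD.Sup X (RGD.PosNe cs h i), MulAut.conjNormal x v ∈ RGD.Sup X (RGD.PosNe cs h i)) : σ i = i := by
  by_contra hne
  obtain ⟨y, hy, hy1⟩ := exists_ne_one N.rgd i
  -- `V_{σ i} ≤ V_i`, but `X_i ≤ V_{σ i}`
  have h1 : y ∈ RGD.Sup X (RGD.PosNe cs h (σ i)) := X_le_V N.rgd (Ne.symm hne) hy
  have h2 : (MulAut.conjNormal x)⁻¹ y ∈ RGD.Sup X (RGD.PosNe cs h i) := by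
    rw [← N.map_V hu D hU, MulAut.apply_inv_self]
    exact h1
  have h3 := hxV _ h2
  rw [MulAut.apply_inv_self] at h3
  exact hy1 (eq_one_of_mem_PosNe N.rgd hy h3)

omit [Finite W] N in
theorem self_add (v : V) : v + v = 0 := by
  have h1 := two_nsmul' v
  rwa [two_nsmul] at h1

omit [Fintype I] [DecidableEq I] [Group W] [Finite W] N in
theorem nm_pair {Y : Type*} [Group Y] [Finite Y] {τ : Y →* (V ≃ₗ[ZMod 2] V)} {y : Y} (hy : y * y = 1) (hy1 : y ≠ 1)
    (w : V) : Nm τ (Subgroup.zpowers y) w = w + τ y w := by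
  classical
  have hz : ∀ g, g ∈ Subgroup.zpowers y ↔ g = 1 ∨ g = y := by
    intro g
    constructor
    · rintro ⟨k, rfl⟩
      have h2 : y ^ (2 : ℤ) = 1 := by
        rw [show (2 : ℤ) = ((2 : ℕ) : ℤ) from rfl, zpow_natCast, pow_two, hy]
      rcases Int.even_or_odd' k with ⟨m, rfl | rfl⟩
      · left
        show y ^ (2 * m) = 1
        rw [zpow_mul, h2, one_zpow]
      · right
        show y ^ (2 * m + 1) = y
        rw [zpow_add, zpow_mul, h2, one_zpow, one_mul, zpow_one]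
    · rintro (rfl | rfl)
      · exact one_mem _
      · exact Subgroup.mem_zpowers g
  have h1 : fs (Subgroup.zpowers y) = {1, y} := by
    ext g
    rw [mem_fs, hz, Finset.mem_insert, Finset.mem_singleton]
  unfold Nm
  rw [h1, Finset.sum_pair (Ne.symm hy1), rho_one]

/-- `V_i` fixes `n_i a` -/
theorem Inp.fixc {i : I} {v : L} (hv : v ∈ RGD.Sup X (RGD.PosNe cs h i)) : ρ v (ρ (n i) a) = ρ (n i) a := by
  have hk : Rp cs N.rgd.nsys (cs.simple i) (n i)⁻¹ := rp_inv N.rgd (rp_simple cs N.rgd.nsys i)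
  have h1 := ((mem_V_iff N.rgd hk).1 hv).2
  rw [inv_inv] at h1
  have h2 := N.fixB _ (RGD.U_le_B h1)
  have e : (v : H) * n i = n i * (((n i)⁻¹ * v * n i : L) : H) := by
    rw [Subgroup.coe_mul, Subgroup.coe_mul, Subgroup.coe_inv]; group
  rw [← rho_mul, e, rho_mul, h2]

/-- **The vector `s`**: the norm of `n_i a` over a hyperplane of `X_i`. -/
theorem Inp.exists_s {i : I} (hel : ∀ u ∈ X (sr i), u * u = 1) (hi : ρ (n i) a ≠ a) : ∃ s : V, ∃ y ∈ X (sr i), ρ y s = s + a ∧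
    (∀ v ∈ RGD.Sup X (RGD.PosNe cs h i), ρ v s = s) ∧
    (∀ u ∈ RGD.Sup X (RGD.Pos cs h), ρ u s = s ∨ ρ u s = s + a) ∧
    ∀ x ∈ P, (∀ v ∈ RGD.Sup X (RGD.PosNe cs h i), MulAut.conjNormal x v ∈ RGD.Sup X (RGD.PosNe cs h i)) →
      ρ x s = s ∨ ρ x s = s + a := by
  classical
  obtain ⟨y, hy, hy1⟩ := exists_ne_one N.rgd i
  have hyy := hel y hy
  have hzy : Subgroup.zpowers y ≤ X (sr i) := by rw [Subgroup.zpowers_le]; exact hy
  obtain ⟨K, hKX, hK1, hK2⟩ := exists_compl hel hzy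
  set ρL : L →* (V ≃ₗ[ZMod 2] V) := ρ.comp L.subtype with hρL
  have hρ : ∀ (l : L) (v : V), ρL l v = ρ l v := fun _ _ => rfl
  set s := Nm ρL K (ρ (n i) a) with hs
  have hUa : ∀ u ∈ RGD.Sup X (RGD.Pos cs h), ρ u a = a := fun u hu => N.fixB u (RGD.U_le_B hu)
  have hXU := X_le_U N.rgd i
  -- `y s = s + a`
  have hys : ρ y s = s + a := by
    have h1 : Nm ρL (X (sr i)) (ρL (n i) a) = a := ThmA.nm_simple N.core hi
    have h2 : Nm ρL (X (sr i)) (ρL (n i) a) = Nm ρL (Subgroup.zpowers y) (Nm ρL K (ρL (n i) a)) := by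
      refine Nm.prod (fun k hk l hl => mul_mem (hzy hk) (hKX hl)) (fun g hg => ?_) (fun g hg hg' => hK1 g hg' hg) _
      obtain ⟨r, hr, m, hm, e⟩ := hK2 g hg
      exact ⟨m, hm, r, hr, by rw [e, ab_of hel r (hKX hr) m (hzy hm)]⟩
    rw [h2, nm_pair hyy hy1] at h1
    have h3 : s + (s + ρ y s) = s + a := congrArg (s + ·) h1
    rwa [← add_assoc, self_add, zero_add] at h3
  have hVs : ∀ v ∈ RGD.Sup X (RGD.PosNe cs h i), ρ v s = s := by
    intro v hv
    rw [hs]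
    unfold Nm
    rw [map_sum]
    refine Finset.sum_congr rfl fun k hk => ?_
    have hkU := hXU (hKX (mem_fs.1 hk))
    have h1 : k⁻¹ * v * k ∈ RGD.Sup X (RGD.PosNe cs h i) := by
      have := conj_V N.rgd (inv_mem hkU) hv
      rwa [inv_inv] at this
    have e : (v : H) * k = k * ((k⁻¹ * v * k : L) : H) := by
      rw [Subgroup.coe_mul, Subgroup.coe_mul, Subgroup.coe_inv]; group
    rw [hρ, ← rho_mul, e, rho_mul, N.fixc h1]
  have hKs : ∀ k ∈ K, ρ k s = s := fun k hk => Nm.fix (ρ := ρL) hk _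
  have hUs : ∀ u ∈ RGD.Sup X (RGD.Pos cs h), ρ u s = s ∨ ρ u s = s + a := by
    intro u hu
    obtain ⟨x, hx, v, hv, rfl⟩ := exists_mul_V N.rgd i hu
    rw [Subgroup.coe_mul, rho_mul, hVs v hv]
    obtain ⟨r, hr, m, hm, rfl⟩ := hK2 x hx
    rw [Subgroup.coe_mul, rho_mul]
    have hra := hUa r (hXU (hKX hr))
    have hm' : ρ m s = s ∨ ρ m s = s + a := by
      obtain ⟨k, rfl⟩ := hm
      have h2 : y ^ (2 : ℤ) = 1 := by
        rw [show (2 : ℤ) = ((2 : ℕ) : ℤ) from rfl, zpow_natCast, pow_two, hyy]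
      rcases Int.even_or_odd' k with ⟨j, rfl | rfl⟩
      · left
        have : y ^ (2 * j) = 1 := by rw [zpow_mul, h2, one_zpow]
        show ρ ((y ^ (2 * j) : L) : H) s = s
        rw [this, Subgroup.coe_one, rho_one]
      · right
        have : y ^ (2 * j + 1) = y := by
          rw [zpow_add, zpow_mul, h2, one_zpow, one_mul, zpow_one]
        show ρ ((y ^ (2 * j + 1) : L) : H) s = s + a
        rw [this, hys]
    rcases hm' with h3 | h3
    · left
      rw [h3, hKs r hr]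
    · right
      rw [h3, map_add, hKs r hr, hra]
  refine ⟨s, y, hy, hys, hVs, hUs, fun x hx hxV => ?_⟩
  obtain ⟨u, hu, σ, D, hU⟩ := N.frame hx
  have hσ := N.sigma_eq hu D hU hxV
  set β := MulAut.conj u * MulAut.conjNormal x with hβ
  have hβH : ∀ l : L, ((β l : L) : H) = (u * x) * l * ((u : H) * x)⁻¹ := by
    intro l
    rw [hβ, MulAut.mul_apply, MulAut.conj_apply, Subgroup.coe_mul, Subgroup.coe_mul, Subgroup.coe_inv,
      MulAut.conjNormal_apply]
    group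
  have hβρ : ∀ (l : L) (w : V), ρ ((u : H) * x) (ρ l w) = ρ (β l) (ρ ((u : H) * x) w) := by
    intro l w
    rw [hβH, ← rho_mul, ← rho_mul, inv_mul_cancel_right]
  have hga : ρ ((u : H) * x) a = a := by rw [rho_mul, N.Pa x hx, hUa u hu]
  have hgc : ρ ((u : H) * x) (ρ (n i) a) = ρ (n i) a := by
    rw [hβρ, hga]
    have h1 := D.rp (R := N.rgd) i
    rw [hσ] at h1
    have h2 := (rp_simple cs N.rgd.nsys i).unique h1
    have h3 := N.fixB _ (RGD.T_le_B h2)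
    have e : ((β (n i) : L) : H) = n i * (((n i)⁻¹ * β (n i) : L) : H) := by
      rw [Subgroup.coe_mul, Subgroup.coe_inv]; group
    rw [e, rho_mul, h3]
  have hβk : ∀ k ∈ K, β k = k := by
    intro k hk
    have hkX := hKX hk
    have h1 : β k ∈ X (sr i) := by
      have := (D.pos i k).2 hkX
      rwa [hσ] at this
    have h2 : β k * k⁻¹ ∈ RGD.Sup X (RGD.PosNe cs h i) := by
      have e : β k * k⁻¹ = u * (MulAut.conjNormal x k * k⁻¹) * u⁻¹ * (u * k * u⁻¹ * k⁻¹) := by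
        rw [hβ, MulAut.mul_apply, MulAut.conj_apply]; group
      rw [e]
      exact mul_mem (conj_V N.rgd hu (N.triv hel hx hxV (hXU hkX))) (comm_V N.rgd (ab_of hel) hu hkX)
    exact mul_inv_eq_one.1 (eq_one_of_mem_PosNe N.rgd (mul_mem h1 (inv_mem hkX)) h2)
  have hgs : ρ ((u : H) * x) s = s := by
    rw [hs]
    unfold Nm
    rw [map_sum]
    refine Finset.sum_congr rfl fun k hk => ?_
    rw [hρ, hβρ, hβk k (mem_fs.1 hk), hgc]
  have hxs : ρ x s = ρ (u⁻¹ : L) s := by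
    have e : x = ((u⁻¹ : L) : H) * ((u : H) * x) := by
      rw [Subgroup.coe_inv]; group
    conv_lhs => rw [e]
    rw [rho_mul, hgs]
  rw [hxs]
  exact hUs _ (inv_mem hu)

/-- `P` preserves `V_i` if `X_i` has exponent 2 -/
theorem Inp.pres_el {i : I} (hel : ∀ u ∈ X (sr i), u * u = 1) : ∀ x ∈ P, ∀ v ∈ RGD.Sup X (RGD.PosNe cs h i),
    MulAut.conjNormal x v ∈ RGD.Sup X (RGD.PosNe cs h i) := by
  classical
  by_contra hcon
  push Not at hcon
  obtain ⟨x₀, hx₀, v₀, hv₀, hxv⟩ := hcon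
  -- `i` moves `a`
  have hi : ρ (n i) a ≠ a := by
    obtain ⟨u, hu, σ, D, hU⟩ := N.frame hx₀
    have hσ : σ i ≠ i := by
      intro hσ
      apply hxv
      have := (N.map_V hu D hU i v₀).2 hv₀
      rwa [hσ] at this
    obtain ⟨y, hy, hy1⟩ := exists_ne_one N.rgd i
    refine N.moves (i := i) (N.comm_mem hx₀ (RGD.X_le_B (isRoot_sr cs h i) (sr_nonneg i) hy)) fun hz => hy1 ?_
    have h1 : MulAut.conjNormal x₀ y ∈ RGD.Sup X (RGD.PosNe cs h i) := by
      have h2 := X_le_V N.rgd hσ ((D.pos i y).2 hy)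
      rw [MulAut.mul_apply, MulAut.conj_apply] at h2
      exact (Subgroup.mem_normalizer_iff.1 (U_le_normalizer_V N.rgd i hu) _).2 h2
    have h3 : y ∈ RGD.Sup X (RGD.PosNe cs h i) := by
      have e : y = (MulAut.conjNormal x₀ y * y⁻¹)⁻¹ * MulAut.conjNormal x₀ y := by group
      rw [e]
      exact mul_mem (inv_mem hz) h1
    exact eq_one_of_mem_PosNe N.rgd hy h3
  obtain ⟨s, y, hy, hys, hVs, -, hPs⟩ := N.exists_s hel hi
  let Ni : Subgroup H :=
    { carrier := {x | x ∈ P ∧ ∀ v ∈ RGD.Sup X (RGD.PosNe cs h i), MulAut.conjNormal x v ∈ RGD.Sup X (RGD.PosNe cs h i)}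
      one_mem' := ⟨one_mem _, fun v hv => by rw [map_one]; exact hv⟩
      mul_mem' := by
        rintro x x' ⟨hx, hxV⟩ ⟨hx', hxV'⟩
        exact ⟨mul_mem hx hx', fun v hv => by rw [map_mul, MulAut.mul_apply]; exact hxV _ (hxV' v hv)⟩
      inv_mem' := by
        rintro x ⟨hx, hxV⟩
        have e := N.P_inv hx
        exact ⟨by rw [e]; exact hx, by rw [e]; exact hxV⟩ }
  have hNi : ∀ x, x ∈ Ni ↔ x ∈ P ∧ ∀ v ∈ RGD.Sup X (RGD.PosNe cs h i),
      MulAut.conjNormal x v ∈ RGD.Sup X (RGD.PosNe cs h i) := fun x => Iff.rfl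
  obtain ⟨Rc, hRP, hR1, hR2⟩ := exists_compl N.sq (N := Ni) (fun x hx => hx.1)
  have hUa : ∀ u ∈ RGD.Sup X (RGD.Pos cs h), ρ u a = a := fun u hu => N.fixB u (RGD.U_le_B hu)
  -- `|R|` is even
  have heven : 2 ∣ Nat.card Rc := by
    obtain ⟨r, hr, m, hm, e⟩ := hR2 x₀ hx₀
    have hr1 : r ≠ 1 := by
      rintro rfl
      rw [one_mul] at e
      rw [e] at hxv
      exact hxv (hm.2 v₀ hv₀)
    have h2 : orderOf (⟨r, hr⟩ : Rc) = 2 := by
      refine orderOf_eq_prime ?_ (fun h3 => hr1 (congrArg Subtype.val h3))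
      rw [pow_two]
      exact Subtype.ext (N.sq r (hRP hr))
    rw [← h2]
    exact orderOf_dvd_natCard _
  have hcard : ∀ w : V, ∑ _r ∈ fs Rc, w = 0 := by
    intro w
    rw [Finset.sum_const, card_fs]
    obtain ⟨k, hk⟩ := heven
    rw [hk, mul_comm, mul_nsmul', two_nsmul', smul_zero]
  set v := Nm ρ Rc s with hv
  have hfixv : ∀ x ∈ P, ρ x v = v := by
    intro x hx
    obtain ⟨r, hr, m, hm, rfl⟩ := hR2 x hx
    have hmP := ((hNi m).1 hm).1
    have h1 : ρ m v = v := by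
      have h2 : ρ m v = ∑ r' ∈ fs Rc, ρ r' (ρ m s) := by
        rw [hv]
        unfold Nm
        rw [map_sum]
        refine Finset.sum_congr rfl fun r' hr' => ?_
        rw [← rho_mul, N.P_comm hmP (hRP (mem_fs.1 hr')), rho_mul]
      rw [h2]
      rcases hPs m hmP ((hNi m).1 hm).2 with h3 | h3
      · rw [h3]
        rfl
      · rw [h3]
        have h4 : ∑ r' ∈ fs Rc, ρ r' (s + a) = ∑ r' ∈ fs Rc, ρ r' s + ∑ _r' ∈ fs Rc, a := by
          rw [← Finset.sum_add_distrib]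
          refine Finset.sum_congr rfl fun r' hr' => ?_
          rw [map_add, N.Pa r' (hRP (mem_fs.1 hr'))]
        rw [h4, hcard, add_zero]
        rfl
    rw [rho_mul, h1]
    exact Nm.fix hr _
  have hyv : ρ y v = v := by
    rcases N.fix v hfixv with h0 | h0
    · rw [h0, map_zero]
    · rw [h0]
      exact hUa y (X_le_U N.rgd i hy)
  have hyv' : ρ y v = v + a := by
    have h1 : (1 : H) ∈ fs Rc := mem_fs.2 (one_mem _)
    rw [hv]
    unfold Nm
    rw [map_sum, ← Finset.add_sum_erase _ _ h1, ← Finset.add_sum_erase (a := (1 : H)) _ (fun u => ρ u s) h1]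
    rw [rho_one, hys]
    have h2 : ∑ r ∈ (fs Rc).erase 1, ρ y (ρ r s) = ∑ r ∈ (fs Rc).erase 1, ρ r s := by
      refine Finset.sum_congr rfl fun r hr => ?_
      rw [Finset.mem_erase] at hr
      have hrR := mem_fs.1 hr.2
      have hrP := hRP hrR
      obtain ⟨u, hu, σ, D, hU⟩ := N.frame hrP
      have hσ : σ i ≠ i := by
        intro hσ
        apply hr.1
        refine hR1 r hrR ((hNi r).2 ⟨hrP, fun v hv => ?_⟩)
        have := (N.map_V hu D hU i v).2 hv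
        rwa [hσ] at this
      have h3 : y ∈ RGD.Sup X (RGD.PosNe cs h (σ i)) := X_le_V N.rgd (Ne.symm hσ) hy
      have h4 : (MulAut.conjNormal r)⁻¹ y ∈ RGD.Sup X (RGD.PosNe cs h i) := by
        rw [← N.map_V hu D hU, MulAut.apply_inv_self]
        exact h3
      have h5 := hVs _ h4
      have h6 : (((MulAut.conjNormal r)⁻¹ y : L) : H) = r⁻¹ * y * r := by
        rw [MulAut.conjNormal_inv_apply]
      rw [h6] at h5
      have e : (y : H) * r = r * (r⁻¹ * y * r) := by group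
      rw [← rho_mul, e, rho_mul, h5]
    rw [h2]
    abel
  rw [hyv] at hyv'
  have h7 : a = 0 := by
    exact (left_eq_add.1 hyv')
  exact N.a_ne h7

/-- **`P` preserves all the `V_i`.** -/
theorem Inp.pres (i : I) : ∀ x ∈ P, ∀ v ∈ RGD.Sup X (RGD.PosNe cs h i),
    MulAut.conjNormal x v ∈ RGD.Sup X (RGD.PosNe cs h i) := by
  by_cases hel : ∀ u ∈ X (sr i), u * u = 1
  · exact N.pres_el hel
  intro x hx v hv
  obtain ⟨u, hu, σ, D, hU⟩ := N.frame hx
  have hσ : σ i = i := by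
    refine N.one _ _ (fun h1 => hel fun k hk => ?_) hel
    have h2 := h1 _ ((D.pos i k).2 hk)
    rw [← map_mul] at h2
    exact (map_eq_one_iff _ (MulEquiv.injective _)).1 h2
  have := (N.map_V hu D hU i v).2 hv
  rwa [hσ] at this

/-- the frame automorphism of an element of `P` is trivial -/
theorem Inp.frame_eq_one {x : H} (hx : x ∈ P) : ∃ u ∈ RGD.Sup X (RGD.Pos cs h),
    MulAut.conj u * MulAut.conjNormal x = 1 := by
  obtain ⟨u, hu, σ, D, hU⟩ := N.frame hx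
  have hσ1 : σ = 1 := Equiv.ext fun i => N.sigma_eq hu D hU (N.pres i x hx)
  subst hσ1
  refine ⟨u, hu, KFacts.RgdRigid.Diag.eq_one N.rgd N.g1 D fun i k hk => ?_⟩
  set β := MulAut.conj u * MulAut.conjNormal x with hβ
  have hXU := X_le_U N.rgd i
  have hβX : ∀ k ∈ X (sr i), β k ∈ X (sr i) := fun k hk => (D.pos i k).2 hk
  by_cases hel : ∀ u ∈ X (sr i), u * u = 1
  · have h2 : β k * k⁻¹ ∈ RGD.Sup X (RGD.PosNe cs h i) := by
      have e : β k * k⁻¹ = u * (MulAut.conjNormal x k * k⁻¹) * u⁻¹ * (u * k * u⁻¹ * k⁻¹) := by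
        rw [hβ, MulAut.mul_apply, MulAut.conj_apply]; group
      rw [e]
      exact mul_mem (conj_V N.rgd hu (N.triv hel hx (N.pres i x hx) (hXU hk))) (comm_V N.rgd (ab_of hel) hu hk)
    exact mul_inv_eq_one.1 (eq_one_of_mem_PosNe N.rgd (mul_mem (hβX k hk) (inv_mem hk)) h2)
  -- exponent 4
  have E : Ex T X i := (N.nd i).resolve_left hel
  -- `β` centralises `T`
  have hβT : ∀ t ∈ T, β t = t := by
    intro t ht
    have hz := N.le_U (N.comm_mem hx (RGD.T_le_B (cs := cs) (h := h) (X := X) ht))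
    have h1 : β t * t⁻¹ ∈ RGD.Sup X (RGD.Pos cs h) := by
      have e : β t * t⁻¹ = u * (MulAut.conjNormal x t * t⁻¹) * (t * u⁻¹ * t⁻¹) := by
        rw [hβ, MulAut.mul_apply, MulAut.conj_apply]; group
      rw [e]
      refine mul_mem (mul_mem hu hz) ?_
      exact (Subgroup.mem_normalizer_iff.1 (N.rgd.T_le_normalizer_U ht) _).1 (inv_mem hu)
    have h2 : β t * t⁻¹ ∈ T := mul_mem ((D.tor t).2 ht) (inv_mem ht)
    have h3 : β t * t⁻¹ ∈ RGD.Sup X (RGD.Pos cs h) ⊓ T := ⟨h1, h2⟩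
    rw [U_inf_T N.rgd, Subgroup.mem_bot] at h3
    exact mul_inv_eq_one.1 h3
  -- `β y y⁻¹` is an involution
  have hψ : ∀ y ∈ X (sr i), (β y * y⁻¹) * (β y * y⁻¹) = 1 := by
    intro y hy
    have hzP := N.comm_mem hx (RGD.U_le_B (hXU hy))
    obtain ⟨z, hzdef⟩ : ∃ z, z = MulAut.conjNormal x y * y⁻¹ := ⟨_, rfl⟩
    rw [← hzdef] at hzP
    obtain ⟨z', hz', v, hv, ez⟩ := exists_mul_V N.rgd i (N.le_U hzP)
    obtain ⟨u', hu', v', hv', eu⟩ := exists_mul_V N.rgd i hu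
    -- `z' z' = 1`
    have hz2 : z' * z' = 1 := by
      have h1 : z * z = 1 := Subtype.ext (N.sq _ hzP)
      have h2 : z' * z' = z * z * (v⁻¹ * (z'⁻¹ * v⁻¹ * z')) := by rw [ez]; group
      have h3 : z'⁻¹ * v⁻¹ * z' ∈ RGD.Sup X (RGD.PosNe cs h i) := by
        have := conj_V N.rgd (inv_mem (hXU hz')) (inv_mem hv)
        rwa [inv_inv] at this
      refine eq_one_of_mem_PosNe N.rgd (mul_mem hz' hz') ?_
      rw [h2, h1, one_mul]
      exact mul_mem (inv_mem hv) h3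
    -- `β y = z' u' y u'⁻¹`
    have h1 : β y = z' * (u' * y * u'⁻¹) := by
      have h4 : β y * (z' * (u' * y * u'⁻¹))⁻¹ ∈ RGD.Sup X (RGD.PosNe cs h i) := by
        have e : β y = u * z * y * u⁻¹ := by
          rw [hβ, MulAut.mul_apply, MulAut.conj_apply, hzdef]; group
        have hcz : u' * z' * u'⁻¹ = z' := by
          rw [← E.cen z' hz' hz2 u' hu']; group
        have e2 : z' * (u' * y * u'⁻¹) = u' * z' * y * u'⁻¹ := by
          calc z' * (u' * y * u'⁻¹) = (u' * z' * u'⁻¹) * (u' * y * u'⁻¹) := by rw [hcz]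
            _ = _ := by group
        rw [e, e2, ez, eu]
        have e3 : u' * v' * (z' * v) * y * (u' * v')⁻¹ * (u' * z' * y * u'⁻¹)⁻¹ =
            u' * (v' * (z' * (v * (y * v'⁻¹ * y⁻¹)) * z'⁻¹)) * u'⁻¹ := by group
        rw [e3]
        exact conj_V N.rgd (hXU hu') (mul_mem hv' (conj_V N.rgd (hXU hz') (mul_mem hv
          (conj_V N.rgd (hXU hy) (inv_mem hv')))))
      exact mul_inv_eq_one.1 (eq_one_of_mem_PosNe N.rgd (mul_mem (hβX y hy)
        (inv_mem (mul_mem hz' (mul_mem (mul_mem hu' hy) (inv_mem hu'))))) h4)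
    have e : β y * y⁻¹ = z' * (u' * y * u'⁻¹ * y⁻¹) := by rw [h1]; group
    have hc : u' * y * u'⁻¹ * y⁻¹ ∈ X (sr i) := mul_mem (mul_mem (mul_mem hu' hy) (inv_mem hu')) (inv_mem hy)
    rw [e]
    have h5 := E.cen z' hz' hz2 _ hc
    calc z' * (u' * y * u'⁻¹ * y⁻¹) * (z' * (u' * y * u'⁻¹ * y⁻¹)) =
        z' * ((u' * y * u'⁻¹ * y⁻¹) * z') * (u' * y * u'⁻¹ * y⁻¹) := by group
      _ = z' * (z' * (u' * y * u'⁻¹ * y⁻¹)) * (u' * y * u'⁻¹ * y⁻¹) := by rw [h5]
      _ = (z' * z') * ((u' * y * u'⁻¹ * y⁻¹) * (u' * y * u'⁻¹ * y⁻¹)) := by group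
      _ = 1 := by rw [hz2, E.com u' hu' y hy, one_mul]
  -- the homomorphism
  let f : ↥(X (sr i)) →* L :=
    { toFun := fun y => β y * (y : L)⁻¹
      map_one' := by rw [Subgroup.coe_one, map_one, inv_one, one_mul]
      map_mul' := by
        intro y y'
        have h1 := E.cen _ (mul_mem (hβX y' y'.2) (inv_mem y'.2)) (hψ y' y'.2) _ (inv_mem y.2)
        show β ((y * y' : X (sr i)) : L) * ((y * y' : X (sr i)) : L)⁻¹ = β y * (y : L)⁻¹ * (β y' * (y' : L)⁻¹)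
        rw [Subgroup.coe_mul, map_mul, mul_inv_rev]
        calc β y * β y' * ((y' : L)⁻¹ * (y : L)⁻¹) = β y * ((β y' * (y' : L)⁻¹) * (y : L)⁻¹) := by group
          _ = β y * ((y : L)⁻¹ * (β y' * (y' : L)⁻¹)) := by rw [h1]
          _ = _ := by group }
  have hf : ∀ y : ↥(X (sr i)), f y = β y * (y : L)⁻¹ := fun _ => rfl
  set Z : Subgroup L := f.ker.map (X (sr i)).subtype with hZ
  have hZm : ∀ y, y ∈ Z ↔ y ∈ X (sr i) ∧ β y = y := by
    intro y
    constructor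
    · rintro ⟨⟨y', hy'⟩, h1, rfl⟩
      refine ⟨hy', ?_⟩
      have h2 := MonoidHom.mem_ker.1 h1
      rw [hf] at h2
      exact mul_inv_eq_one.1 h2
    · rintro ⟨h1, h2⟩
      refine ⟨⟨y, h1⟩, ?_, rfl⟩
      rw [SetLike.mem_coe, MonoidHom.mem_ker, hf]
      exact mul_inv_eq_one.2 h2
  have hinvZ : ∀ z ∈ X (sr i), z * z = 1 → z ∈ Z := by
    intro z hz hz1
    obtain ⟨y, hy, rfl⟩ := E.sq z hz hz1
    refine (hZm _).2 ⟨hz, ?_⟩
    have h1 := hψ y hy
    have h2 : f (⟨y, hy⟩ * ⟨y, hy⟩) = 1 := by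
      rw [map_mul, hf]
      exact h1
    rw [hf] at h2
    exact mul_inv_eq_one.1 h2
  have hkZ : k ∈ Z := by
    rcases E.irr Z (fun y hy => ((hZm y).1 hy).1) hinvZ (fun t ht y hy => by
      obtain ⟨h1, h2⟩ := (hZm y).1 hy
      refine (hZm _).2 ⟨?_, ?_⟩
      · rw [← N.rgd.tor _ (isRoot_sr cs h i) t ht]
        exact conj_mem_cj.2 h1
      · rw [map_mul, map_mul, map_inv, hβT t ht, h2]) with h1 | h1
    · exfalso
      have h2 := E.card Z fun z hz => ⟨((hZm z).1 hz).1, h1 z hz⟩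
      have h3 : Nat.card Z = Nat.card f.ker :=
        Nat.card_congr (f.ker.equivMapOfInjective _ (X (sr i)).subtype_injective).toEquiv.symm
      have h4 := Subgroup.card_mul_index f.ker
      rw [Subgroup.index_ker] at h4
      have h5 : f.range ≤ Z := by
        rintro _ ⟨y, rfl⟩
        rw [hf]
        exact hinvZ _ (mul_mem (hβX y y.2) (inv_mem y.2)) (hψ y y.2)
      have h6 := Subgroup.card_le_of_le h5
      rw [← h4, ← h3] at h2
      exact absurd (Nat.mul_le_mul_left (Nat.card Z) h6) (not_le.2 h2)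
    · exact h1 hk
  exact ((hZm k).1 hkZ).2

/-- **`P ≤ U`.** -/
theorem Inp.mem_U {x : H} (hx : x ∈ P) : ∃ z ∈ RGD.Sup X (RGD.Pos cs h), (z : H) = x := by
  obtain ⟨u, hu, e⟩ := N.frame_eq_one hx
  refine ⟨u⁻¹, inv_mem hu, ?_⟩
  have h1 : (u : H) * x = 1 := by
    refine N.cen _ fun l => ?_
    have h2 : (MulAut.conj u * MulAut.conjNormal x : MulAut L) l = l := by rw [e]; rfl
    have h3 := congrArg (Subtype.val) h2
    rw [MulAut.mul_apply, MulAut.conj_apply, Subgroup.coe_mul, Subgroup.coe_mul, Subgroup.coe_inv,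
      MulAut.conjNormal_apply] at h3
    have h4 : (u : H) * x * l * ((u : H) * x)⁻¹ = u * (x * l * x⁻¹) * (u : H)⁻¹ := by group
    rw [h4, h3]
  rw [Subgroup.coe_inv]
  exact (eq_inv_of_mul_eq_one_right h1).symm

end S

end Cfsg.Agent.Omega.EH3.Kf.InL

end

section


/-!
# EH3, Lie rows: the family level interface with a node of exponent 4 (helper227)

* `BdU M h T n X` : like `Bd`, but one node may be of the kind `InL.Ex` (the last node of `PSU_{2m+1}(q)`);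
* `KfRowU K`, `KfRowU.of_equiv`; `KfRow.toU`.
-/

set_option autoImplicit false

namespace Cfsg.Agent.Omega.EH3.Kf.FamRowU

open CoxeterSystem Cfsg.Agent.ChevalleyStructure.CoxeterGeom Cfsg.Agent.Tits.Roots Cfsg.Agent.Tits.Core
  Cfsg.Agent.Tits.RootComb Cfsg.Agent.Nodes.Comb Cfsg.Agent.Nodes.Reps Cfsg.Agent.Nodes.BNOf
  Cfsg.Agent.Nodes.StabComb Cfsg.Agent.Nodes.Bruhat Cfsg.Agent.Nodes.LeviDec Cfsg.Agent.Nodes.RGDLib
  Cfsg.Agent.Omega.EH3.Kf.Base Cfsg.Agent.Omega.EH3.Kf.Out Cfsg.Agent.Omega.EH3.Kf.Goal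
  Cfsg.Agent.Omega.EH3.Kf.FamRow

universe u v w

/-- The bundle of data of the group `K`, one node may be of exponent 4. -/
structure BdU {K : Type v} [Group K] {l : ℕ} (M : CoxeterMatrix (Fin l)) {A : Fin l → Fin l → ℤ} (h : IsCartan M A)
    (T : Subgroup K) (n : Fin l → K) (X : (Fin l → ℤ) → Subgroup K) : Prop where
  fin : Finite M.Group
  rgd : RGD M.toCoxeterSystem h 2 T n X
  gen : RGD.Sup X {x | IsRoot M.toCoxeterSystem h x} = ⊤
  ab : ∀ s ∈ T, ∀ t ∈ T, s * t = t * s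
  nd : ∀ i, InL.Nd T X i
  one : ∀ i j, ¬ (∀ u ∈ X (sr i), u * u = 1) → ¬ (∀ u ∈ X (sr j), u * u = 1) → i = j

/-- **The row of `K`** (irreducible shape, `End = F₂`). -/
def KfRowU (K : Type v) [Group K] : Prop :=
  ∃ (l : ℕ) (M : CoxeterMatrix (Fin l)) (A : Fin l → Fin l → ℤ) (h : IsCartan M A) (T : Subgroup K)
    (n : Fin l → K) (X : (Fin l → ℤ) → Subgroup K), BdU M h T n X ∧ RowEnd.{u} M h T n X

section map

variable {K : Type v} [Group K] {K' : Type w} [Group K'] {l : ℕ} {M : CoxeterMatrix (Fin l)}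
  {A : Fin l → Fin l → ℤ} {h : IsCartan M A} {T : Subgroup K} {n : Fin l → K} {X : (Fin l → ℤ) → Subgroup K}

theorem _root_.Cfsg.Agent.Omega.EH3.Kf.FamRow.Bd.toU (B : Bd M h T n X) : BdU M h T n X where
  fin := B.fin
  rgd := B.rgd
  gen := B.gen
  ab := B.ab
  nd i := Or.inl (B.el i)
  one i _ hi := (hi (B.el i)).elim

theorem _root_.Cfsg.Agent.Omega.EH3.Kf.FamRow.KfRow.toU (hK : KfRow.{u} K) : KfRowU.{u} K := by
  obtain ⟨l, M, A, h, T, n, X, B, H⟩ := hK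
  exact ⟨l, M, A, h, T, n, X, B.toU, H⟩

theorem Ex.map {i : Fin l} (E : InL.Ex T X i) (e : K ≃* K') :
    InL.Ex (T.map e.toMonoidHom) (fun x => (X x).map e.toMonoidHom) i where
  cen := by
    rintro _ ⟨u, hu, rfl⟩ huu _ ⟨v, hv, rfl⟩
    have h1 : u * u = 1 := e.injective (by rw [map_mul, map_one]; exact huu)
    show e u * e v = e v * e u
    rw [← map_mul, E.cen u hu h1 v hv, map_mul]
  com := by
    rintro _ ⟨u, hu, rfl⟩ _ ⟨v, hv, rfl⟩
    show (e u * e v * (e u)⁻¹ * (e v)⁻¹) * (e u * e v * (e u)⁻¹ * (e v)⁻¹) = 1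
    have h1 := congrArg e (E.com u hu v hv)
    simpa only [map_mul, map_inv, map_one] using h1
  sq := by
    rintro _ ⟨z, hz, rfl⟩ hzz
    have h1 : z * z = 1 := e.injective (by rw [map_mul, map_one]; exact hzz)
    obtain ⟨y, hy, rfl⟩ := E.sq z hz h1
    exact ⟨e y, ⟨y, hy, rfl⟩, by show e (y * y) = e y * e y; rw [map_mul]⟩
  irr := by
    intro S hS hz hT
    have h0 : ∀ k : K, k ∈ S.comap e.toMonoidHom ↔ e k ∈ S := fun k => Iff.rfl
    rcases E.irr (S.comap e.toMonoidHom) (fun k hk => by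
        obtain ⟨k', hk', h2⟩ := hS hk
        rwa [← e.injective h2])
      (fun z hz' hzz => hz (e z) ⟨z, hz', rfl⟩ (by rw [← map_mul, hzz, map_one]))
      (fun t ht k hk => by
        rw [h0, map_mul, map_mul, map_inv]
        exact hT (e t) ⟨t, ht, rfl⟩ (e k) hk) with h1 | h1
    · left
      intro z hz'
      obtain ⟨k, -, rfl⟩ := hS hz'
      show e k * e k = 1
      rw [← map_mul, h1 k hz', map_one]
    · right
      rintro _ ⟨k, hk, rfl⟩
      exact h1 hk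
  card := by
    intro Z hZ
    have h1 := E.card (Z.comap e.toMonoidHom) (fun z hz => by
      obtain ⟨⟨k, hk, h2⟩, h3⟩ := hZ (e z) hz
      refine ⟨by rwa [← e.injective h2], e.injective ?_⟩
      rw [map_mul, map_one]
      exact h3)
    have h2 : Nat.card (Z.comap e.toMonoidHom) = Nat.card Z :=
      Nat.card_congr (e.toEquiv.subtypeEquiv fun a => Iff.rfl)
    rw [h2] at h1
    show Nat.card Z * Nat.card Z < Nat.card ((X (sr i)).map e.toMonoidHom)
    rwa [Subgroup.card_map_of_injective e.injective]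

theorem BdU.map (B : BdU M h T n X) (e : K ≃* K') :
    BdU M h (T.map e.toMonoidHom) (fun i => e (n i)) (fun x => (X x).map e.toMonoidHom) where
  fin := B.fin
  rgd := rgd_map_of_injective B.rgd e.toMonoidHom e.injective
  gen := by
    have h1 : (RGD.Sup X {x | IsRoot M.toCoxeterSystem h x}).map e.toMonoidHom =
        RGD.Sup (fun x => (X x).map e.toMonoidHom) {x | IsRoot M.toCoxeterSystem h x} := by
      unfold RGD.Sup
      rw [Subgroup.map_iSup]
    rw [← h1, B.gen, Subgroup.map_top_of_surjective _ e.surjective]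
  ab := by
    rintro _ ⟨s, hs, rfl⟩ _ ⟨t, ht, rfl⟩
    rw [← map_mul, B.ab s hs t ht, map_mul]
  nd i := by
    refine (B.nd i).imp ?_ fun E => Ex.map E e
    rintro h1 _ ⟨u, hu, rfl⟩
    show e u * e u = 1
    rw [← map_mul, h1 u hu, map_one]
  one i j hi hj := by
    refine B.one i j (fun h1 => hi ?_) (fun h1 => hj ?_)
    · rintro _ ⟨u, hu, rfl⟩
      show e u * e u = 1
      rw [← map_mul, h1 u hu, map_one]
    · rintro _ ⟨u, hu, rfl⟩
      show e u * e u = 1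
      rw [← map_mul, h1 u hu, map_one]

theorem KfRowU.of_equiv (hK : KfRowU.{u} K) (e : K ≃* K') : KfRowU.{u} K' := by
  obtain ⟨l, M, A, h, T, n, X, B, H⟩ := hK
  exact ⟨l, M, A, h, _, _, _, B.map e, H.map e⟩

end map

end Cfsg.Agent.Omega.EH3.Kf.FamRowU

end

section


/-!
# Modules for groups with a root group datum, defining characteristic 2, part 2 (helper810; KF3 (CR))

`Md cs h T n X ρ b` : the hypotheses. `Md.span_eq_top`, `Md.irrU`, `Md.ei_cases`, `Md.exists_ext`, `Md.fix_T`,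
`Md.card_two`.
-/

set_option autoImplicit false
set_option linter.unusedSectionVars false

namespace Cfsg.Agent.Omega.EH3.Kf.CR

open CoxeterSystem Cfsg.Agent.ChevalleyStructure.CoxeterGeom Cfsg.Agent.Tits.Roots Cfsg.Agent.Tits.Core
  Cfsg.Agent.Tits.RootComb Cfsg.Agent.Nodes.Comb Cfsg.Agent.Nodes.Reps Cfsg.Agent.Nodes.BNOf
  Cfsg.Agent.Nodes.StabComb Cfsg.Agent.Nodes.Bruhat Cfsg.Agent.Nodes.OppDec Cfsg.Agent.Tits.Exchange
  Cfsg.Agent.KFacts.RgdOpp Cfsg.Agent.Omega.EH3.Kf.Nm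

variable {I W Y V : Type*} [Fintype I] [DecidableEq I] [Group W] [Group Y] [AddCommGroup V]
    [Module (ZMod 2) V] {M : CoxeterMatrix I} {cs : CoxeterSystem M W} {A : I → I → ℤ} {h : IsCartan M A}
    {T : Subgroup Y} {n : I → Y} {X : (I → ℤ) → Subgroup Y} {ρ : Y →* (V ≃ₗ[ZMod 2] V)}

/-- the span of `U⁻ E` -/
def SP (cs : CoxeterSystem M W) (h : IsCartan M A) (X : (I → ℤ) → Subgroup Y) (ρ : Y →* (V ≃ₗ[ZMod 2] V))
    (E : Submodule (ZMod 2) V) : Submodule (ZMod 2) V :=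
  Submodule.span (ZMod 2) {m | ∃ u ∈ UN cs h X, ∃ v ∈ E, m = ρ u v}

theorem mem_SP {E : Submodule (ZMod 2) V} {u : Y} (hu : u ∈ UN cs h X) {v : V} (hv : v ∈ E) :
    ρ u v ∈ SP cs h X ρ E := Submodule.subset_span ⟨u, hu, v, hv, rfl⟩

theorem le_SP {E : Submodule (ZMod 2) V} : E ≤ SP cs h X ρ E := by
  intro v hv
  have := mem_SP (ρ := ρ) (cs := cs) (h := h) (X := X) (one_mem _) hv
  rwa [rho_one] at this

theorem SP_forall {E F : Submodule (ZMod 2) V} {g : Y} (hg : ∀ u ∈ UN cs h X, ∀ v ∈ E, ρ g (ρ u v) ∈ F) :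
    ∀ m ∈ SP cs h X ρ E, ρ g m ∈ F := by
  intro m hm
  have h1 : SP cs h X ρ E ≤ F.comap (ρ g).toLinearMap := by
    refine Submodule.span_le.2 ?_
    rintro _ ⟨u, hu, v, hv, rfl⟩
    exact hg u hu v hv
  exact h1 hm

section A

variable [Finite Y] (R : RGD cs h 2 T n X)

include R

/-- **`F₂[U⁻] E` is `Y`-stable** when `E ≤ V^U` is `T`-stable and `e_i`-stable. -/
theorem stable_SP [Finite W] (hG : GG cs h T X = ⊤) {E : Submodule (ZMod 2) V} (hE : E ≤ VU cs h X ρ)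
    (hT : Stab ρ T E) (he : ∀ i, ∀ v ∈ E, ei ρ X n i v ∈ E) :
    ∀ g, ∀ m ∈ SP cs h X ρ E, ρ g m ∈ SP cs h X ρ E := by
  classical
  let K : Subgroup Y :=
    { carrier := {g | (∀ m ∈ SP cs h X ρ E, ρ g m ∈ SP cs h X ρ E) ∧ (∀ m ∈ SP cs h X ρ E, ρ g⁻¹ m ∈ SP cs h X ρ E)}
      one_mem' := ⟨fun m hm => by rw [rho_one]; exact hm, fun m hm => by rw [inv_one, rho_one]; exact hm⟩
      mul_mem' := by
        rintro g k ⟨hg, hg'⟩ ⟨hk, hk'⟩
        refine ⟨fun m hm => ?_, fun m hm => ?_⟩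
        · rw [rho_mul]; exact hg _ (hk _ hm)
        · rw [mul_inv_rev, rho_mul]; exact hk' _ (hg' _ hm)
      inv_mem' := by
        rintro g ⟨hg, hg'⟩
        exact ⟨hg', by rw [inv_inv]; exact hg⟩ }
  have hK : ∀ g, g ∈ K ↔ (∀ m ∈ SP cs h X ρ E, ρ g m ∈ SP cs h X ρ E) ∧
      (∀ m ∈ SP cs h X ρ E, ρ g⁻¹ m ∈ SP cs h X ρ E) := fun g => Iff.rfl
  -- `U⁻`
  have hUN' : ∀ g ∈ UN cs h X, ∀ m ∈ SP cs h X ρ E, ρ g m ∈ SP cs h X ρ E := by
    intro g hg
    refine SP_forall fun u hu v hv => ?_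
    rw [← rho_mul]
    exact mem_SP (mul_mem hg hu) hv
  -- `T`
  have hN : T ≤ Subgroup.normalizer (UN cs h X : Set Y) := R.T_le_normalizer fun x hx => hx.1
  have hT' : ∀ t ∈ T, ∀ m ∈ SP cs h X ρ E, ρ t m ∈ SP cs h X ρ E := by
    intro t ht
    refine SP_forall fun u hu v hv => ?_
    have e : ρ t (ρ u v) = ρ (t * u * t⁻¹) (ρ t v) := by
      rw [← rho_mul, ← rho_mul]; congr 2; group
    rw [e]
    exact mem_SP ((Subgroup.mem_normalizer_iff.1 (hN ht) u).1 hu) (hT t ht v hv)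
  -- `n i`
  have hfix : ∀ {d : Y} {i : I}, d ∈ X (sr i) → ∀ {w : V}, w ∈ VU cs h X ρ → ρ d w = w := by
    intro d i hd w hw
    exact hw _ (RGD.le_Sup (S := RGD.Pos cs h) ⟨isRoot_sr cs h _, sr_nonneg _⟩ hd)
  have hb : ∀ i, ∀ b ∈ X (sr i), b ≠ 1 → ∀ v ∈ E, ρ b (ρ (n i) v) ∈ SP cs h X ρ E := by
    intro i b hb hb1 v hv
    have hb' : b ∈ X (-(-sr i)) := by rw [neg_neg]; exact hb
    obtain ⟨c, hc, t, ht, d, hd, e⟩ := (opp R).rk1 i b hb' hb1
    have hd2 : n i * d * (n i)⁻¹ ∈ X (sr i) := by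
      have := R.conj_mem (rn R i) (isRoot_sr cs h i).neg hd
      rwa [map_neg, rep_simple_sr, neg_neg] at this
    have hsq := R.sq_mem_T i
    have e1 : ρ b (ρ (n i) v) = ρ c (ρ (t * (n i * n i)) v) := by
      have h1 : b * n i = c * (t * ((n i * d * (n i)⁻¹) * (n i * n i))) := by rw [e]; group
      rw [← rho_mul, h1, rho_mul c, rho_mul t, rho_mul (n i * d * (n i)⁻¹),
        hfix hd2 (stab_VU R _ hsq v (hE hv)), ← rho_mul t]
    rw [e1]
    exact mem_SP (X_le_UN (isRoot_sr cs h i).neg (neg_nonpos.2 (sr_nonneg i)) hc)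
      (hT _ (mul_mem ht hsq) v hv)
  have h1 : ∀ i, ∀ v ∈ E, ρ (n i) v ∈ SP cs h X ρ E := by
    intro i v hv
    have hmem : (1 : Y) ∈ fs (X (sr i)) := mem_fs.2 (one_mem _)
    have e1 : ei ρ X n i v = ρ (n i) v + ∑ b ∈ (fs (X (sr i))).erase 1, ρ b (ρ (n i) v) := by
      rw [ei_apply]
      unfold Nm
      rw [← Finset.add_sum_erase _ _ hmem, rho_one]
    have e2 : ρ (n i) v = ei ρ X n i v - ∑ b ∈ (fs (X (sr i))).erase 1, ρ b (ρ (n i) v) := by
      rw [e1, add_sub_cancel_right]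
    rw [e2]
    refine Submodule.sub_mem _ (le_SP (he i v hv)) (Submodule.sum_mem _ fun b hb' => ?_)
    rw [Finset.mem_erase] at hb'
    exact hb i b (mem_fs.1 hb'.2) hb'.1 v hv
  have hn1 : ∀ i, ∀ m ∈ SP cs h X ρ E, ρ (n i) m ∈ SP cs h X ρ E := by
    intro i
    refine SP_forall fun u hu v hv => ?_
    have hu' : u⁻¹ ∈ RGD.Sup (fun x => X (-x)) (RGD.Pos cs h) := by rw [U_opp]; exact inv_mem hu
    obtain ⟨a, ha, r, hr, e⟩ := KFacts.RgdFixU.exists_mul_V (opp R) i hu'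
    have eu : u = r⁻¹ * a⁻¹ := by rw [← inv_inv u, e]; group
    have hr2 : n i * r⁻¹ * (n i)⁻¹ ∈ UN cs h X := by
      have h2 : n i * r⁻¹ * (n i)⁻¹ ∈ cj (n i) (RGD.Sup (fun x => X (-x)) (RGD.PosNe cs h i)) :=
        conj_mem_cj.2 (inv_mem hr)
      rw [(opp R).cj_n_V i] at h2
      have h3 := KFacts.RgdFixU.V_le_U (opp R) i h2
      rwa [U_opp] at h3
    have e1 : ρ (n i) (ρ u v) = ρ (n i * r⁻¹ * (n i)⁻¹) (ρ (n i) (ρ a⁻¹ v)) := by
      rw [eu, ← rho_mul, ← rho_mul, ← rho_mul]; congr 2; group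
    rw [e1]
    refine hUN' _ hr2 _ ?_
    by_cases ha1 : a = 1
    · rw [ha1, inv_one, rho_one]
      exact h1 i v hv
    · have ha' : a⁻¹ ∈ X (-sr i) := inv_mem ha
      have hb2 : n i * a⁻¹ * (n i)⁻¹ ∈ X (sr i) := by
        have := R.conj_mem (rn R i) (isRoot_sr cs h i).neg ha'
        rwa [map_neg, rep_simple_sr, neg_neg] at this
      have e2 : ρ (n i) (ρ a⁻¹ v) = ρ (n i * a⁻¹ * (n i)⁻¹) (ρ (n i) v) := by
        rw [← rho_mul, ← rho_mul]; congr 2; group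
      rw [e2]
      refine hb i _ hb2 (fun h3 => ha1 ?_) v hv
      exact inv_eq_one.1 (mul_eq_left.1 (mul_inv_eq_one.1 h3))
  have hn2 : ∀ i, ∀ m ∈ SP cs h X ρ E, ρ (n i)⁻¹ m ∈ SP cs h X ρ E := by
    intro i m hm
    have e : ρ (n i)⁻¹ m = ρ (n i) (ρ (n i * n i)⁻¹ m) := by
      rw [← rho_mul]; congr 2; group
    rw [e]
    exact hn1 i _ (hT' _ (inv_mem (R.sq_mem_T i)) m hm)
  have kT : T ≤ K := fun t ht => (hK t).2 ⟨hT' t ht, hT' _ (inv_mem ht)⟩
  have kN : ∀ i, n i ∈ K := fun i => (hK _).2 ⟨hn1 i, hn2 i⟩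
  have kUN : UN cs h X ≤ K := fun u hu => (hK u).2 ⟨hUN' u hu, hUN' _ (inv_mem hu)⟩
  have kNN : NN cs R.nsys ≤ K := by
    rw [NN_eq]
    refine sup_le kT ((Subgroup.closure_le _).2 ?_)
    rintro _ ⟨i, rfl⟩
    exact kN i
  have kX : ∀ x, IsRoot cs h x → X x ≤ K := by
    rintro _ ⟨w, i, rfl⟩ u hu
    obtain ⟨g, hg⟩ := exists_rp cs R.nsys (w * cs.simple i)
    have hgK : g ∈ K := kNN ⟨_, hg⟩
    have h2 : g⁻¹ * u * g ∈ X (-sr i) := by
      have := R.conj_mem' hg ⟨w, i, rfl⟩ hu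
      rwa [mul_inv_rev, inv_simple, rep_mul_apply, rep_inv_apply, rep_simple_sr] at this
    have h3 := kUN (X_le_UN (isRoot_sr cs h i).neg (neg_nonpos.2 (sr_nonneg i)) h2)
    have e : u = g * (g⁻¹ * u * g) * g⁻¹ := by group
    rw [e]
    exact mul_mem (mul_mem hgK h3) (inv_mem hgK)
  have kG : GG cs h T X ≤ K := sup_le kT (RGD.Sup_le fun x hx => kX x hx)
  intro g
  have hg : g ∈ K := kG (by rw [hG]; exact Subgroup.mem_top g)
  exact ((hK g).1 hg).1

/-- `|V^{U⁻}| = |V^U|` -/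
theorem card_fix_UN [Finite W] : Nat.card (fixS ρ (UN cs h X)) = Nat.card (VU cs h X ρ) := by
  obtain ⟨k, hk⟩ := exists_rp cs R.nsys (w0 cs)
  have h1 : fixS ρ (UN cs h X) = (VU cs h X ρ).map (ρ k).toLinearMap := by
    ext v
    rw [Submodule.mem_map]
    constructor
    · intro hv
      refine ⟨ρ k⁻¹ v, ?_, rho_inv' k v⟩
      intro u hu
      have h2 : k * u * k⁻¹ ∈ UN cs h X := by
        rw [← cj_U R hk]; exact conj_mem_cj.2 hu
      have h3 := hv _ h2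
      have e : ρ u (ρ k⁻¹ v) = ρ k⁻¹ (ρ (k * u * k⁻¹) v) := by
        rw [← rho_mul, ← rho_mul]; congr 2; group
      rw [e, h3]
    · rintro ⟨w, hw, rfl⟩ u hu
      have h2 : k⁻¹ * u * k ∈ RGD.Sup X (RGD.Pos cs h) := by
        rw [← cj_U R hk] at hu; exact mem_cj.1 hu
      have e : ρ u (ρ k w) = ρ k (ρ (k⁻¹ * u * k) w) := by
        rw [← rho_mul, ← rho_mul]; congr 2; group
      change ρ u (ρ k w) = ρ k w
      rw [e, hw _ h2]
  rw [h1]
  exact (Nat.card_congr ((ρ k).submoduleMap (VU cs h X ρ)).toEquiv).symm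

end A

theorem card_dual {E : Type*} [AddCommGroup E] [Module (ZMod 2) E] [Finite E] :
    Nat.card (E →ₗ[ZMod 2] ZMod 2) = Nat.card E := by
  rw [Module.natCard_eq_pow_finrank (K := ZMod 2) (V := E →ₗ[ZMod 2] ZMod 2),
    Module.natCard_eq_pow_finrank (K := ZMod 2) (V := E)]
  congr 1
  exact Subspace.dual_finrank_eq

/-- duality -/
theorem card_le_of_span [Finite V] {b : LinearMap.BilinForm (ZMod 2) V} (hnd : ∀ v, (∀ u, b v u = 0) → v = 0)
    (hinv : ∀ g u v, b (ρ g u) (ρ g v) = b u v) {E : Submodule (ZMod 2) V} (hs : SP cs h X ρ E = ⊤) :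
    Nat.card (fixS ρ (UN cs h X)) ≤ Nat.card E := by
  rw [← card_dual (E := E)]
  have : Finite (E →ₗ[ZMod 2] ZMod 2) := by
    refine Finite.of_injective (fun f => (f : E → ZMod 2)) DFunLike.coe_injective
  refine Nat.card_le_card_of_injective (fun x : fixS ρ (UN cs h X) => (b x.1).comp E.subtype) ?_
  rintro ⟨x, hx⟩ ⟨y, hy⟩ (e : (b x).comp E.subtype = (b y).comp E.subtype)
  apply Subtype.ext
  show x = y
  rw [← sub_eq_zero]
  apply hnd
  have hxy : x - y ∈ fixS ρ (UN cs h X) := Submodule.sub_mem _ hx hy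
  have h1 : SP cs h X ρ E ≤ LinearMap.ker (b (x - y)) := by
    refine Submodule.span_le.2 ?_
    rintro _ ⟨u, hu, v, hv, rfl⟩
    show b (x - y) (ρ u v) = 0
    have h2 : ρ u (x - y) = x - y := hxy u hu
    have h3 : b (x - y) (ρ u v) = b (x - y) v := by
      conv_lhs => rw [← h2]
      exact hinv u _ _
    rw [h3, map_sub, LinearMap.sub_apply, sub_eq_zero]
    exact LinearMap.congr_fun e ⟨v, hv⟩
  intro u
  have h2 : u ∈ SP cs h X ρ E := by rw [hs]; exact Submodule.mem_top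
  exact h1 h2

/-! ### the module -/

/-- the hypotheses of (CR) -/
structure Md (cs : CoxeterSystem M W) (h : IsCartan M A) (T : Subgroup Y) (n : I → Y)
    (X : (I → ℤ) → Subgroup Y) (ρ : Y →* (V ≃ₗ[ZMod 2] V)) (b : LinearMap.BilinForm (ZMod 2) V) : Prop where
  rgd : RGD cs h 2 T n X
  gen : GG cs h T X = ⊤
  nondeg : ∀ v, (∀ u, b v u = 0) → v = 0
  b_inv : ∀ g u v, b (ρ g u) (ρ g v) = b u v
  irr : ∀ E : Submodule (ZMod 2) V, (∀ g, ∀ v ∈ E, ρ g v ∈ E) → E = ⊥ ∨ E = ⊤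

variable {b : LinearMap.BilinForm (ZMod 2) V}

theorem eq_of_le_of_card [Finite V] {E F : Submodule (ZMod 2) V} (hEF : E ≤ F) (hc : Nat.card F ≤ Nat.card E) :
    E = F := by
  apply SetLike.coe_injective
  refine Set.eq_of_subset_of_ncard_le hEF ?_ (Set.toFinite _)
  exact hc

section B

variable [Finite Y] [Finite W] [Finite V] (N : Md cs h T n X ρ b)

include N

/-- the main step -/
theorem Md.main {E : Submodule (ZMod 2) V} (hE : E ≤ VU cs h X ρ) (hT : Stab ρ T E) (hne : E ≠ ⊥) :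
    E = VU cs h X ρ ∧ SP cs h X ρ (VU cs h X ρ) = ⊤ := by
  obtain ⟨E', hne', hE', hT', he', hc⟩ := exists_stable N.rgd hE hT hne
  have h1 : SP cs h X ρ E' = ⊤ := by
    refine (N.irr _ (stable_SP N.rgd N.gen hE' hT' he')).resolve_left fun h0 => hne' ?_
    rw [eq_bot_iff, ← h0]
    exact le_SP
  have h2 := card_le_of_span (ρ := ρ) N.nondeg N.b_inv h1
  rw [card_fix_UN N.rgd] at h2
  have h3 : E' = VU cs h X ρ := eq_of_le_of_card hE' h2
  rw [h3] at h1
  exact ⟨eq_of_le_of_card hE (h2.trans hc), h1⟩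

/-- **`V^U` is an irreducible `T`-module** -/
theorem Md.irrU {E : Submodule (ZMod 2) V} (hE : E ≤ VU cs h X ρ) (hT : Stab ρ T E) (hne : E ≠ ⊥) :
    E = VU cs h X ρ := (N.main hE hT hne).1

omit [Finite V] in
theorem Md.VU_ne [Finite V] [Nontrivial V] : VU cs h X ρ ≠ ⊥ := by
  classical
  let _ : MulAction ↥(RGD.Sup X (RGD.Pos cs h)) V :=
    MulAction.compHom V (ρ.comp (Subgroup.subtype (RGD.Sup X (RGD.Pos cs h))))
  have hact : ∀ (g : ↥(RGD.Sup X (RGD.Pos cs h))) (v : V), g • v = ρ g.1 v := fun g v => rfl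
  have h2 : 2 ∣ Nat.card V := by
    rw [Module.natCard_eq_pow_finrank (K := ZMod 2) (V := V), Nat.card_zmod]
    refine dvd_pow_self 2 ?_
    exact (Module.finrank_pos).ne'
  have h0 : (0 : V) ∈ MulAction.fixedPoints ↥(RGD.Sup X (RGD.Pos cs h)) V := by
    intro g
    rw [hact, map_zero]
  obtain ⟨v, hv, hv0⟩ := N.rgd.isPGroup_Upos.exists_fixed_point_of_prime_dvd_card_of_fixed_point V h2 h0
  intro hbot
  have h3 : v ∈ VU cs h X ρ := by
    intro g hg
    exact hv ⟨g, hg⟩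
  rw [hbot, Submodule.mem_bot] at h3
  exact hv0 h3.symm

/-- **`V` is spanned by `U⁻ V^U`** -/
theorem Md.span_eq_top [Nontrivial V] : SP cs h X ρ (VU cs h X ρ) = ⊤ :=
  (N.main le_rfl (stab_VU N.rgd) N.VU_ne).2

/-- `e_i` is zero on `V^U` or an element of the group algebra of `T` -/
theorem Md.ei_cases (i : I) : (∀ v ∈ VU cs h X ρ, ei ρ X n i v = 0) ∨
    ∃ τ : Y → Y, (∀ c, τ c ∈ T) ∧ ∃ s : Finset Y, ∀ v ∈ VU cs h X ρ, ei ρ X n i v = ∑ c ∈ s, ρ (τ c) v := by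
  set K : Submodule (ZMod 2) V := VU cs h X ρ ⊓ LinearMap.ker (ei ρ X n i) with hK
  have hKT : Stab ρ T K := by
    rintro t ht v ⟨hv, hv0⟩
    refine ⟨stab_VU N.rgd t ht v hv, ?_⟩
    rw [SetLike.mem_coe, LinearMap.mem_ker] at hv0 ⊢
    rw [ei_tor' N.rgd i ht, hv0, map_zero]
  by_cases hK0 : K = ⊥
  · right
    obtain ⟨τ, hτ, s, hs⟩ := ei_ei (ρ := ρ) N.rgd i
    refine ⟨τ, hτ, s, fun v hv => ?_⟩
    have h1 : ei ρ X n i v - ∑ c ∈ s, ρ (τ c) v ∈ K := by
      refine ⟨Submodule.sub_mem _ (ei_mem N.rgd i hv)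
        (Submodule.sum_mem _ fun c _ => stab_VU N.rgd _ (hτ c) v hv), ?_⟩
      rw [SetLike.mem_coe, LinearMap.mem_ker, map_sub, hs v hv, sub_self]
    rw [hK0, Submodule.mem_bot, sub_eq_zero] at h1
    exact h1
  · left
    have h1 := N.irrU (inf_le_left : K ≤ VU cs h X ρ) hKT hK0
    intro v hv
    rw [← h1] at hv
    exact LinearMap.mem_ker.1 hv.2

end B

/-! ### extension of endomorphisms -/

/-- the diagonal action on `V × V` -/
def rho2 (ρ : Y →* (V ≃ₗ[ZMod 2] V)) : Y →* ((V × V) ≃ₗ[ZMod 2] (V × V)) where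
  toFun g := (ρ g).prodCongr (ρ g)
  map_one' := by
    ext p
    · show ρ 1 p.1 = p.1
      rw [rho_one]
    · show ρ 1 p.2 = p.2
      rw [rho_one]
  map_mul' g k := by
    ext p
    · show ρ (g * k) p.1 = ρ g (ρ k p.1)
      rw [rho_mul]
    · show ρ (g * k) p.2 = ρ g (ρ k p.2)
      rw [rho_mul]

theorem rho2_apply (g : Y) (p : V × V) : rho2 ρ g p = (ρ g p.1, ρ g p.2) := rfl

theorem mem_VU2 {p : V × V} : p ∈ VU cs h X (rho2 ρ) ↔ p.1 ∈ VU cs h X ρ ∧ p.2 ∈ VU cs h X ρ := by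
  constructor
  · intro hp
    exact ⟨fun g hg => congrArg Prod.fst (hp g hg), fun g hg => congrArg Prod.snd (hp g hg)⟩
  · rintro ⟨h1, h2⟩ g hg
    rw [rho2_apply, h1 g hg, h2 g hg]

theorem nm2 [Finite Y] (H : Subgroup Y) (p : V × V) : Nm (rho2 ρ) H p = (Nm ρ H p.1, Nm ρ H p.2) := by
  unfold Nm
  refine Prod.ext ?_ ?_
  · rw [Prod.fst_sum]
    rfl
  · rw [Prod.snd_sum]
    rfl

theorem ei2 [Finite Y] (i : I) (p : V × V) : ei (rho2 ρ) X n i p = (ei ρ X n i p.1, ei ρ X n i p.2) := by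
  rw [ei_apply, ei_apply, ei_apply, nm2]
  rfl

/-- the form on `V × V` -/
def form2 (b : LinearMap.BilinForm (ZMod 2) V) : LinearMap.BilinForm (ZMod 2) (V × V) :=
  b.compl₁₂ (LinearMap.fst _ _ _) (LinearMap.fst _ _ _) + b.compl₁₂ (LinearMap.snd _ _ _) (LinearMap.snd _ _ _)

theorem form2_apply (p q : V × V) : form2 b p q = b p.1 q.1 + b p.2 q.2 := rfl

section C

variable [Finite Y] [Finite W] [Finite V] [Nontrivial V] (N : Md cs h T n X ρ b)

include N

/-- **Every `T`-endomorphism of `V^U` (given by its graph `Γ`) extends to a `Y`-endomorphism of `V`.** -/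
theorem Md.exists_ext {Γ : Submodule (ZMod 2) (V × V)} (h1 : ∀ p ∈ Γ, p.1 ∈ VU cs h X ρ ∧ p.2 ∈ VU cs h X ρ)
    (h2 : ∀ t ∈ T, ∀ p ∈ Γ, (ρ t p.1, ρ t p.2) ∈ Γ) (h3 : ∀ v ∈ VU cs h X ρ, ∃ w, (v, w) ∈ Γ)
    (h4 : ∀ w, ((0 : V), w) ∈ Γ → w = 0) :
    ∃ f : V →ₗ[ZMod 2] V, (∀ g v, f (ρ g v) = ρ g (f v)) ∧ ∀ p ∈ Γ, f p.1 = p.2 := by
  have hΓ : Γ ≤ VU cs h X (rho2 ρ) := fun p hp => mem_VU2.2 (h1 p hp)
  have hΓT : Stab (rho2 ρ) T Γ := fun t ht p hp => by rw [rho2_apply]; exact h2 t ht p hp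
  have hΓe : ∀ i, ∀ p ∈ Γ, ei (rho2 ρ) X n i p ∈ Γ := by
    intro i p hp
    rw [ei2]
    rcases N.ei_cases i with h0 | ⟨τ, hτ, s, hs⟩
    · rw [h0 _ (h1 p hp).1, h0 _ (h1 p hp).2]
      exact Submodule.zero_mem _
    · rw [hs _ (h1 p hp).1, hs _ (h1 p hp).2]
      have : (∑ c ∈ s, ρ (τ c) p.1, ∑ c ∈ s, ρ (τ c) p.2) = ∑ c ∈ s, (ρ (τ c) p.1, ρ (τ c) p.2) := by
        refine Prod.ext ?_ ?_
        · rw [Prod.fst_sum]
        · rw [Prod.snd_sum]
      rw [this]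
      exact Submodule.sum_mem _ fun c _ => h2 _ (hτ c) p hp
  set Q : Submodule (ZMod 2) (V × V) := SP cs h X (rho2 ρ) Γ with hQ
  have hst := stable_SP N.rgd N.gen hΓ hΓT hΓe
  -- the kernel
  set V1 : Submodule (ZMod 2) V := Q.comap (LinearMap.inr (ZMod 2) V V) with hV1
  have hV1m : ∀ w, w ∈ V1 ↔ ((0 : V), w) ∈ Q := fun w => Iff.rfl
  have hV1s : ∀ g, ∀ v ∈ V1, ρ g v ∈ V1 := by
    intro g v hv
    rw [hV1m] at hv ⊢
    have := hst g _ hv
    rw [rho2_apply] at this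
    simpa using this
  -- the projection
  have hfst : ∀ v : V, ∃ w, (v, w) ∈ Q := by
    have h5 : Q.map (LinearMap.fst (ZMod 2) V V) = ⊤ := by
      refine (N.irr _ ?_).resolve_left ?_
      · rintro g _ ⟨p, hp, rfl⟩
        exact ⟨rho2 ρ g p, hst g p hp, rfl⟩
      · intro h0
        apply N.VU_ne
        rw [eq_bot_iff, ← h0]
        intro v hv
        obtain ⟨w, hw⟩ := h3 v hv
        exact ⟨(v, w), le_SP hw, rfl⟩
    intro v
    have h6 : v ∈ Q.map (LinearMap.fst (ZMod 2) V V) := by rw [h5]; exact Submodule.mem_top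
    obtain ⟨⟨v', w⟩, hp, rfl⟩ := h6
    exact ⟨w, hp⟩
  have hV1b : V1 = ⊥ := by
    refine (N.irr _ hV1s).resolve_right fun htop => ?_
    have hQt : Q = ⊤ := by
      rw [eq_top_iff]
      rintro ⟨v, w⟩ -
      obtain ⟨w', hw'⟩ := hfst v
      have h5 : w - w' ∈ V1 := by rw [htop]; exact Submodule.mem_top
      have h6 := Submodule.add_mem _ hw' ((hV1m _).1 h5)
      simpa using h6
    have h5 := card_le_of_span (ρ := rho2 ρ) (b := form2 b) (cs := cs) (h := h) (X := X) (fun p hp => by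
      refine Prod.ext (N.nondeg _ fun u => ?_) (N.nondeg _ fun u => ?_)
      · have := hp (u, 0)
        rw [form2_apply] at this
        simpa using this
      · have := hp (0, u)
        rw [form2_apply] at this
        simpa using this) (fun g p q => by
        rw [form2_apply, form2_apply, rho2_apply, rho2_apply, N.b_inv, N.b_inv]) hQt
    rw [card_fix_UN N.rgd] at h5
    have h6 : Nat.card Γ ≤ Nat.card (VU cs h X ρ) := by
      refine Nat.card_le_card_of_injective (fun p : Γ => (⟨p.1.1, (h1 _ p.2).1⟩ : VU cs h X ρ)) ?_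
      rintro ⟨p, hp⟩ ⟨q, hq⟩ e
      have e1 : p.1 = q.1 := congrArg Subtype.val e
      apply Subtype.ext
      show p = q
      have h7 := Submodule.sub_mem _ hp hq
      have h8 : p - q = ((0 : V), p.2 - q.2) := Prod.ext (by rw [Prod.fst_sub, e1, sub_self]) rfl
      rw [h8] at h7
      exact Prod.ext e1 (sub_eq_zero.1 (h4 _ h7))
    have h7 : Nat.card (VU cs h X ρ) * Nat.card (VU cs h X ρ) ≤ Nat.card (VU cs h X (rho2 ρ)) := by
      rw [← Nat.card_prod]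
      refine Nat.card_le_card_of_injective (fun p : VU cs h X ρ × VU cs h X ρ =>
        (⟨(p.1.1, p.2.1), mem_VU2.2 ⟨p.1.2, p.2.2⟩⟩ : VU cs h X (rho2 ρ))) ?_
      rintro ⟨⟨p1, hp1⟩, ⟨p2, hp2⟩⟩ ⟨⟨q1, hq1⟩, ⟨q2, hq2⟩⟩ e
      have e1 : (p1, p2) = (q1, q2) := congrArg Subtype.val e
      rw [Prod.mk.injEq] at e1
      obtain ⟨rfl, rfl⟩ := e1
      rfl
    have h8 : 1 < Nat.card (VU cs h X ρ) := by
      rw [Finite.one_lt_card_iff_nontrivial]
      exact Submodule.nontrivial_iff_ne_bot.2 N.VU_ne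
    nlinarith
  -- the map
  have huniq : ∀ v w w', (v, w) ∈ Q → (v, w') ∈ Q → w = w' := by
    intro v w w' hw hw'
    have h5 := Submodule.sub_mem _ hw hw'
    have h6 : (v, w) - (v, w') = ((0 : V), w - w') := Prod.ext (by simp) (by simp)
    rw [h6, ← hV1m, hV1b, Submodule.mem_bot, sub_eq_zero] at h5
    exact h5
  choose F hF using hfst
  refine ⟨{ toFun := F, map_add' := ?_, map_smul' := ?_ }, ?_, ?_⟩
  · intro u v
    refine huniq (u + v) _ _ (hF _) ?_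
    have := Submodule.add_mem _ (hF u) (hF v)
    simpa using this
  · intro c v
    refine huniq (c • v) _ _ (hF _) ?_
    have := Submodule.smul_mem _ c (hF v)
    simpa using this
  · intro g v
    refine huniq (ρ g v) _ _ (hF _) ?_
    have := hst g _ (hF v)
    rwa [rho2_apply] at this
  · rintro ⟨v, w⟩ hp
    exact huniq v _ _ (hF _) (le_SP hp)

/-- `T` acts trivially on `V^U` if `T` is abelian and `End_Y V = {0, 1}` -/
theorem Md.fix_T (hab : ∀ s ∈ T, ∀ t ∈ T, s * t = t * s)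
    (hEnd : ∀ f : V →ₗ[ZMod 2] V, (∀ g v, f (ρ g v) = ρ g (f v)) → f = 0 ∨ f = LinearMap.id) :
    ∀ t ∈ T, ∀ v ∈ VU cs h X ρ, ρ t v = v := by
  intro t ht
  set Γ : Submodule (ZMod 2) (V × V) :=
    (VU cs h X ρ).map (LinearMap.prod LinearMap.id (ρ t).toLinearMap) with hΓ
  have hΓm : ∀ p, p ∈ Γ ↔ p.1 ∈ VU cs h X ρ ∧ ρ t p.1 = p.2 := by
    rintro ⟨v, w⟩
    constructor
    · rintro ⟨v', hv', e⟩
      have e' : (v', ρ t v') = (v, w) := e
      rw [Prod.mk.injEq] at e'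
      obtain ⟨rfl, rfl⟩ := e'
      exact ⟨hv', rfl⟩
    · rintro ⟨h1, h2⟩
      exact ⟨v, h1, Prod.ext rfl h2⟩
  obtain ⟨f, hf, hfΓ⟩ := N.exists_ext (Γ := Γ) (fun p hp => by
      obtain ⟨h1, h2⟩ := (hΓm p).1 hp
      exact ⟨h1, by rw [← h2]; exact stab_VU N.rgd t ht _ h1⟩) (fun s hs p hp => by
      obtain ⟨h1, h2⟩ := (hΓm p).1 hp
      refine (hΓm _).2 ⟨stab_VU N.rgd s hs _ h1, ?_⟩
      show ρ t (ρ s p.1) = ρ s p.2
      rw [← h2, ← rho_mul, ← rho_mul, hab t ht s hs]) (fun v hv => ⟨ρ t v, (hΓm _).2 ⟨hv, rfl⟩⟩) (fun w hw => by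
      obtain ⟨h1, h2⟩ := (hΓm _).1 hw
      have h3 : ρ t (0 : V) = w := h2
      rw [← h3, map_zero])
  rcases hEnd f hf with rfl | rfl
  · exfalso
    apply N.VU_ne
    rw [eq_bot_iff]
    intro v hv
    have h1 := hfΓ (v, ρ t v) ((hΓm _).2 ⟨hv, rfl⟩)
    rw [LinearMap.zero_apply] at h1
    rw [Submodule.mem_bot]
    have h2 : ρ t v = 0 := h1.symm
    have h3 := rho_inv (ρ := ρ) t v
    rw [h2, map_zero] at h3
    exact h3.symm
  · intro v hv
    exact (hfΓ (v, ρ t v) ((hΓm _).2 ⟨hv, rfl⟩)).symm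

/-- **`|V^U| = 2`** -/
theorem Md.exists_unique_fix (hab : ∀ s ∈ T, ∀ t ∈ T, s * t = t * s)
    (hEnd : ∀ f : V →ₗ[ZMod 2] V, (∀ g v, f (ρ g v) = ρ g (f v)) → f = 0 ∨ f = LinearMap.id) :
    ∃ a : V, a ≠ 0 ∧ (∀ v, v ∈ VU cs h X ρ ↔ v = 0 ∨ v = a) ∧ ∀ g ∈ RGD.B cs h T X, ρ g a = a := by
  obtain ⟨a, ha, ha0⟩ := (Submodule.ne_bot_iff _).1 N.VU_ne
  have hT := N.fix_T hab hEnd
  have h1 : Submodule.span (ZMod 2) {a} = VU cs h X ρ := by
    refine N.irrU ?_ ?_ ?_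
    · rw [Submodule.span_singleton_le_iff_mem]
      exact ha
    · intro t ht v hv
      rw [Submodule.mem_span_singleton] at hv ⊢
      obtain ⟨c, rfl⟩ := hv
      exact ⟨c, by rw [map_smul, hT t ht a ha]⟩
    · rw [Ne, Submodule.span_singleton_eq_bot]
      exact ha0
  refine ⟨a, ha0, fun v => ?_, fun g hg => ?_⟩
  · rw [← h1, Submodule.mem_span_singleton]
    constructor
    · rintro ⟨c, rfl⟩
      have hc : c = 0 ∨ c = 1 := by revert c; decide
      rcases hc with rfl | rfl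
      · exact Or.inl (zero_smul _ _)
      · exact Or.inr (one_smul _ _)
    · rintro (rfl | rfl)
      · exact ⟨0, zero_smul _ _⟩
      · exact ⟨1, one_smul _ _⟩
  · obtain ⟨t, ht, u, hu, rfl⟩ := N.rgd.mem_B.1 hg
    rw [rho_mul, ha u hu, hT t ht a ha]

end C

end Cfsg.Agent.Omega.EH3.Kf.CR

end

section


/-!
# `Row` from `Cfg` (helper810; KF3)

`C : Cfg ρ b q a D P w`, `L` normal in `H`, with a root group datum of characteristic 2 with finite Weyl group which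
generates `L`, `T` abelian, the groups `X_i` of exponent 2, `V` irreducible for `L` with `End_L V = {0, 1}`. Then, after
conjugation of the root group datum by an element of `L`, `P ≤ U` and `Row cs h T n X ρ b a D P w` (`rowOf`).
-/

set_option autoImplicit false
set_option linter.unusedSectionVars false

namespace Cfsg.Agent.Omega.EH3.Kf.RowOf

open CoxeterSystem Cfsg.Agent.ChevalleyStructure.CoxeterGeom Cfsg.Agent.Tits.Roots Cfsg.Agent.Tits.Core
  Cfsg.Agent.Tits.RootComb Cfsg.Agent.Nodes.Comb Cfsg.Agent.Nodes.Reps Cfsg.Agent.Nodes.BNOf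
  Cfsg.Agent.Nodes.StabComb Cfsg.Agent.Nodes.Bruhat Cfsg.Agent.Nodes.OppDec Cfsg.Agent.Nodes.NormalForm
  Cfsg.Agent.KFacts.RgdAut Cfsg.Agent.Omega.EH3.Kf.Base Cfsg.Agent.Omega.EH3.Kf.Nm

variable {I W H V : Type*} [Fintype I] [DecidableEq I] [Group W] [Group H] [AddCommGroup V]
    [Module (ZMod 2) V] {M : CoxeterMatrix I} {cs : CoxeterSystem M W} {A : I → I → ℤ} {h : IsCartan M A}

section Sup

variable {Y : Type*} [Group Y] {X : (I → ℤ) → Subgroup Y}

theorem Sup_cj (g : Y) (S : Set (I → ℤ)) : RGD.Sup (fun x => cj g (X x)) S = cj g (RGD.Sup X S) := by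
  unfold RGD.Sup
  rw [cj_iSup]

theorem B_cj (g : Y) (T : Subgroup Y) : RGD.B cs h (cj g T) (fun x => cj g (X x)) = cj g (RGD.B cs h T X) := by
  unfold RGD.B
  rw [Sup_cj, cj_sup]

theorem rgd_cj {T : Subgroup Y} {n : I → Y} {p : ℕ} (R : RGD cs h p T n X) (g : Y) :
    RGD cs h p (cj g T) (fun i => g * n i * g⁻¹) (fun x => cj g (X x)) :=
  Nodes.RGDLib.rgd_map_of_injective R (MulAut.conj g).toMonoidHom (MulAut.conj g).injective

theorem conj_inv_conj (g x : Y) : g * (g⁻¹ * x * g) * g⁻¹ = x := by group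

theorem Ex_cj {T : Subgroup Y} {i : I} (E : InL.Ex T X i) (g : Y) : InL.Ex (cj g T) (fun x => cj g (X x)) i := by
  have hmm : ∀ x y : Y, g⁻¹ * (x * y) * g = (g⁻¹ * x * g) * (g⁻¹ * y * g) := by intro x y; group
  have hii : ∀ x : Y, g⁻¹ * x⁻¹ * g = (g⁻¹ * x * g)⁻¹ := by intro x; group
  have h11 : g⁻¹ * 1 * g = 1 := by group
  have inj : ∀ {x y : Y}, g⁻¹ * x * g = g⁻¹ * y * g → x = y := by
    intro x y hxy
    rw [← conj_inv_conj g x, hxy, conj_inv_conj]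
  have hsq : ∀ {u : Y}, u * u = 1 → g⁻¹ * u * g * (g⁻¹ * u * g) = 1 := by
    intro u hu
    rw [← hmm, hu, h11]
  refine ⟨?_, ?_, ?_, ?_, ?_⟩
  · intro u hu hu1 v hv
    apply inj
    rw [hmm, hmm]
    exact E.cen _ (mem_cj.1 hu) (hsq hu1) _ (mem_cj.1 hv)
  · intro u hu v hv
    apply inj
    have h1 := E.com _ (mem_cj.1 hu) _ (mem_cj.1 hv)
    rw [h11, ← h1]
    simp only [hmm, hii]
  · intro z hz hz1
    obtain ⟨y, hy, e⟩ := E.sq _ (mem_cj.1 hz) (hsq hz1)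
    refine ⟨g * y * g⁻¹, conj_mem_cj.2 hy, ?_⟩
    rw [← conj_inv_conj g z, e]; group
  · intro K hK hKz hKT
    have hm : ∀ k, k ∈ cj g⁻¹ K ↔ g * k * g⁻¹ ∈ K := by
      intro k
      rw [mem_cj, inv_inv]
    rcases E.irr (cj g⁻¹ K) (fun k hk => by
      have h1 := hK ((hm k).1 hk)
      rw [mem_cj] at h1
      have e : g⁻¹ * (g * k * g⁻¹) * g = k := by group
      rwa [e] at h1) (fun z hz hz1 => (hm z).2 (hKz _ (conj_mem_cj.2 hz) (by
      have e : g * z * g⁻¹ * (g * z * g⁻¹) = g * (z * z) * g⁻¹ := by group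
      rw [e, hz1]; group))) (fun t ht k hk => (hm _).2 (by
      have h1 := hKT _ (conj_mem_cj.2 ht) _ ((hm k).1 hk)
      have e : g * t * g⁻¹ * (g * k * g⁻¹) * (g * t * g⁻¹)⁻¹ = g * (t * k * t⁻¹) * g⁻¹ := by group
      rwa [e] at h1)) with h1 | h1
    · left
      intro z hz
      have h2 := h1 (g⁻¹ * z * g) ((hm _).2 (by rw [conj_inv_conj]; exact hz))
      apply inj
      rw [h11, hmm, h2]
    · right
      intro x hx
      have h2 := (hm _).1 (h1 (mem_cj.1 hx))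
      rwa [conj_inv_conj] at h2
  · intro Z hZ
    have h1 := E.card (cj g⁻¹ Z) (fun z hz => by
      rw [mem_cj, inv_inv] at hz
      obtain ⟨h2, h3⟩ := hZ _ hz
      rw [mem_cj] at h2
      have e : g⁻¹ * (g * z * g⁻¹) * g = z := by group
      have e2 := hsq h3
      rw [e] at h2 e2
      exact ⟨h2, e2⟩)
    have hc : ∀ (k : Y) (K : Subgroup Y), Nat.card (cj k K) = Nat.card K := fun k K =>
      Nat.card_congr (K.equivMapOfInjective _ (MulAut.conj k).injective).toEquiv.symm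
    rw [hc] at h1
    show Nat.card Z * Nat.card Z < Nat.card (cj g (X (sr i)))
    rw [hc]
    exact h1

end Sup

/-- the Sylow 2-subgroups of `H` meet `L` in conjugates (in `L`) of `U` -/
theorem exists_syl [Finite H] [Finite W] {L : Subgroup H} [L.Normal] {T : Subgroup L} {n : I → L}
    {X : (I → ℤ) → Subgroup L} (R : RGD cs h 2 T n X) (hG : GG cs h T X = ⊤) (S : Sylow 2 H) :
    ∃ g : L, ∀ l : L, l ∈ cj g (RGD.Sup X (RGD.Pos cs h)) ↔ (l : H) ∈ S := by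
  have : Fact (Nat.Prime 2) := ⟨Nat.prime_two⟩
  set U : Subgroup L := RGD.Sup X (RGD.Pos cs h) with hU
  have hUp : IsPGroup 2 U := R.isPGroup_Upos
  obtain ⟨S₀, hS₀⟩ := (hUp.map L.subtype).exists_le_sylow
  have h1 : (S₀ : Subgroup H).subgroupOf L = U := by
    refine eq_U_of_isPGroup R (P := (S₀ : Subgroup H).subgroupOf L) ?_ ?_ (by rw [hG]; exact le_top)
    · exact S₀.isPGroup'.comap_of_injective L.subtype L.subtype_injective
    · intro u hu
      exact hS₀ ⟨u, hu, rfl⟩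
  obtain ⟨k, hk⟩ := MulAction.exists_smul_eq H S₀ S
  have h2 : ∀ x : H, x ∈ S ↔ k⁻¹ * x * k ∈ S₀ := by
    intro x
    rw [← hk]
    constructor
    · rintro ⟨y, hy, rfl⟩
      have e : k⁻¹ * (k * y * k⁻¹) * k = y := by group
      change k⁻¹ * (k * y * k⁻¹) * k ∈ S₀
      rw [e]
      exact hy
    · intro hx
      refine ⟨k⁻¹ * x * k, hx, ?_⟩
      show k * (k⁻¹ * x * k) * k⁻¹ = x
      group
  -- `S ∩ L = k U k⁻¹`
  set Q : Subgroup L := (S : Subgroup H).subgroupOf L with hQ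
  have h3 : Q = U.map (MulAut.conjNormal k).toMonoidHom := by
    ext l
    rw [hQ, Subgroup.mem_subgroupOf]
    change (l : H) ∈ S ↔ _
    rw [h2]
    constructor
    · intro hl
      refine ⟨(MulAut.conjNormal k)⁻¹ l, ?_, MulAut.apply_inv_self _ _ _⟩
      rw [SetLike.mem_coe, ← h1, Subgroup.mem_subgroupOf, MulAut.conjNormal_inv_apply]
      exact hl
    · rintro ⟨u, hu, rfl⟩
      have h4 : (u : H) ∈ S₀ := by
        rw [SetLike.mem_coe, ← h1] at hu
        exact hu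
      have h5 : (((MulAut.conjNormal k).toMonoidHom u : L) : H) = k * u * k⁻¹ := MulAut.conjNormal_apply k u
      rw [h5]
      have e : k⁻¹ * (k * (u : H) * k⁻¹) * k = u := by group
      rw [e]
      exact h4
  have hQp : IsPGroup 2 Q := by
    rw [h3]; exact hUp.map _
  have hQc : Nat.card Q = Nat.card U := by
    rw [h3]
    exact Nat.card_congr (U.equivMapOfInjective _ (MulAut.conjNormal k).injective).toEquiv.symm
  obtain ⟨Q', hQ'⟩ := hQp.exists_le_sylow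
  obtain ⟨g, hg⟩ : ∃ g : L, (Q' : Subgroup L) = cj g U := by
    obtain ⟨S₁, hS₁⟩ := hUp.exists_le_sylow
    have e1 : (S₁ : Subgroup L) = U := eq_U_of_isPGroup R S₁.isPGroup' hS₁ (by rw [hG]; exact le_top)
    obtain ⟨g, hg⟩ := MulAction.exists_smul_eq L S₁ Q'
    refine ⟨g, ?_⟩
    rw [← hg, ← e1]
    rfl
  have h4 : Q = (Q' : Subgroup L) := by
    refine Subgroup.eq_of_le_of_card_ge hQ' ?_
    rw [hQc, hg]
    exact le_of_eq (Nat.card_congr (U.equivMapOfInjective _ (MulAut.conj g).injective).toEquiv.symm)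
  refine ⟨g, fun l => ?_⟩
  rw [← hg, ← h4, hQ, Subgroup.mem_subgroupOf]
  rfl

/-- `C_H(L) = 1` -/
theorem cent_eq_bot {ρ : H →* (V ≃ₗ[ZMod 2] V)} {b : LinearMap.BilinForm (ZMod 2) V} {q : V → ZMod 2}
    {a : V} {D : Submodule (ZMod 2) V} {P : Subgroup H} {w : ℕ} (C : Cfg ρ b q a D P w) {L : Subgroup H}
    (hEnd : ∀ f : V →ₗ[ZMod 2] V, (∀ g ∈ L, ∀ v, f (ρ g v) = ρ g (f v)) → f = 0 ∨ f = LinearMap.id) :
    Subgroup.centralizer (L : Set H) = ⊥ := by
  rw [Subgroup.eq_bot_iff_forall]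
  intro k hk
  have hc : ∀ l ∈ L, ∀ v, (ρ k).toLinearMap (ρ l v) = ρ l ((ρ k).toLinearMap v) := by
    intro l hl v
    show ρ k (ρ l v) = ρ l (ρ k v)
    have h2 : l * k = k * l := Subgroup.mem_centralizer_iff.1 hk l hl
    rw [← C.ρ_mul, ← C.ρ_mul, h2]
  rcases hEnd _ hc with h1 | h1
  · exfalso
    apply C.a_ne
    have h2 : ρ k a = 0 := LinearMap.congr_fun h1 a
    exact C.ρ_inj k (h2.trans (map_zero _).symm)
  · apply C.ext
    intro v
    rw [C.ρ_one]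
    exact LinearMap.congr_fun h1 v

/-- **`Row` from `Cfg`**, nodes of exponent 2 or `Ex`. -/
theorem rowOf' {ρ : H →* (V ≃ₗ[ZMod 2] V)} {b : LinearMap.BilinForm (ZMod 2) V} {q : V → ZMod 2}
    {a : V} {D : Submodule (ZMod 2) V} {P : Subgroup H} {w : ℕ} (C : Cfg ρ b q a D P w) [Finite W]
    {L : Subgroup H} [L.Normal] {T : Subgroup L} {n : I → L} {X : (I → ℤ) → Subgroup L}
    (R : RGD cs h 2 T n X) (hG1 : RGD.Sup X {x | IsRoot cs h x} = ⊤) (hab : ∀ s ∈ T, ∀ t ∈ T, s * t = t * s)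
    (hnd : ∀ i, InL.Nd T X i)
    (hone : ∀ i j, ¬ (∀ u ∈ X (sr i), u * u = 1) → ¬ (∀ u ∈ X (sr j), u * u = 1) → i = j)
    (hirr : ∀ E : Submodule (ZMod 2) V, (∀ g ∈ L, ∀ v ∈ E, ρ g v ∈ E) → E = ⊥ ∨ E = ⊤)
    (hEnd : ∀ f : V →ₗ[ZMod 2] V, (∀ g ∈ L, ∀ v, f (ρ g v) = ρ g (f v)) → f = 0 ∨ f = LinearMap.id) :
    ∃ g : L, (∀ x ∈ P, ∃ z ∈ cj g (RGD.Sup X (RGD.Pos cs h)), (z : H) = x) ∧
      (∀ v : V, (∀ u ∈ cj g (RGD.Sup X (RGD.Pos cs h)), ρ u v = v) ↔ v = 0 ∨ v = a) ∧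
      Row cs h (cj g T) (fun i => g * n i * g⁻¹) (fun x => cj g (X x)) (ρ.comp L.subtype) b a D (P.subgroupOf L) w := by
  have hfV := C.finite_V
  have hfH := C.finite_H
  have hntV := C.nontrivial_V
  have hG : GG cs h T X = ⊤ := KFacts.RgdRigid.GG_eq_top hG1
  obtain ⟨S, hPS, hSa⟩ := C.exists_syl
  obtain ⟨g, hg⟩ := exists_syl R hG S
  refine ⟨g, ?_⟩
  have R' := rgd_cj R g
  set T' := cj g T with hT'
  set n' : I → L := fun i => g * n i * g⁻¹ with hn'
  set X' : (I → ℤ) → Subgroup L := fun x => cj g (X x) with hX'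
  have hU' : RGD.Sup X' (RGD.Pos cs h) = cj g (RGD.Sup X (RGD.Pos cs h)) := Sup_cj g _
  have hG1' : RGD.Sup X' {x | IsRoot cs h x} = ⊤ := by
    rw [hX', Sup_cj, hG1, eq_top_iff]
    intro x _
    rw [mem_cj]
    exact Subgroup.mem_top _
  have hG' : GG cs h T' X' = ⊤ := KFacts.RgdRigid.GG_eq_top hG1'
  have hmemU : ∀ l : L, l ∈ RGD.Sup X' (RGD.Pos cs h) ↔ (l : H) ∈ S := fun l => by rw [hU', hg]
  have hρ : ∀ (l : L) (v : V), (ρ.comp L.subtype) l v = ρ l v := fun _ _ => rfl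
  have N : CR.Md cs h T' n' X' (ρ.comp L.subtype) b :=
    { rgd := R'
      gen := hG'
      nondeg := C.nondeg
      b_inv := fun l u v => C.b_inv l u v
      irr := fun E hE => hirr E fun l hl v hv => hE ⟨l, hl⟩ v hv }
  have hEnd' : ∀ f : V →ₗ[ZMod 2] V, (∀ (l : L) v, f ((ρ.comp L.subtype) l v) = (ρ.comp L.subtype) l (f v)) →
      f = 0 ∨ f = LinearMap.id := fun f hf => hEnd f fun l hl v => hf ⟨l, hl⟩ v
  have hab' : ∀ s ∈ T', ∀ t ∈ T', s * t = t * s := by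
    intro s hs t ht
    rw [hT', mem_cj] at hs ht
    have h1 := hab _ hs _ ht
    have h2 : g * (g⁻¹ * s * g * (g⁻¹ * t * g)) * g⁻¹ = g * (g⁻¹ * t * g * (g⁻¹ * s * g)) * g⁻¹ := by rw [h1]
    have e1 : g * (g⁻¹ * s * g * (g⁻¹ * t * g)) * g⁻¹ = s * t := by group
    have e2 : g * (g⁻¹ * t * g * (g⁻¹ * s * g)) * g⁻¹ = t * s := by group
    rw [← e1, h2, e2]
  obtain ⟨a', ha'0, hVU, hBa'⟩ := N.exists_unique_fix hab' hEnd'
  have ha' : a' = a := by
    have h1 : a ∈ CR.VU cs h X' (ρ.comp L.subtype) := by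
      intro u hu
      exact hSa ((hmemU u).1 hu)
    rcases (hVU a).1 h1 with h2 | h2
    · exact absurd h2 C.a_ne
    · exact h2.symm
  subst ha'
  have hel' : ∀ i, (∀ u ∈ X (sr i), u * u = 1) → ∀ u ∈ X' (sr i), u * u = 1 := by
    intro i hel u hu
    have hu' : g⁻¹ * u * g ∈ X (sr i) := mem_cj.1 hu
    have h1 := hel _ hu'
    have e1 : u * u = g * (g⁻¹ * u * g * (g⁻¹ * u * g)) * g⁻¹ := by group
    rw [e1, h1]; group
  have hfixU : ∀ v, (∀ u ∈ RGD.Sup X' (RGD.Pos cs h), ρ u v = v) → v = 0 ∨ v = a' := fun v hv => (hVU v).1 hv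
  have J : InL.Inp cs h T' n' X' ρ a' P :=
    { rgd := R'
      g1 := hG1'
      nd := fun i => (hnd i).imp (hel' i) fun E => Ex_cj E g
      one := fun i j hi hj => hone i j (fun h1 => hi (hel' i h1)) fun h1 => hj (hel' j h1)
      a_ne := C.a_ne
      fixB := fun l hl => hBa' l hl
      fixU := hfixU
      sq := C.X_sq
      norm := C.X_norm
      Pa := fun x hx => C.X_a hx
      fix := fun v hv => C.fix_X hv
      nU := by
        intro x hx l
        rw [hmemU, hmemU, MulAut.conjNormal_apply]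
        have hxS := hPS hx
        constructor
        · intro h1
          have h2 := mul_mem (mul_mem (inv_mem hxS) h1) hxS
          have e : x⁻¹ * (x * (l : H) * x⁻¹) * x = l := by group
          rwa [e] at h2
        · intro h1
          exact mul_mem (mul_mem hxS h1) (inv_mem hxS)
      cen := by
        intro k hk
        have h0 : k ∈ Subgroup.centralizer (L : Set H) := by
          rw [Subgroup.mem_centralizer_iff]
          intro l hl
          have h1 := hk ⟨l, hl⟩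
          rw [mul_inv_eq_iff_eq_mul] at h1
          exact h1.symm
        rw [cent_eq_bot C hEnd] at h0
        exact Subgroup.mem_bot.1 h0 }
  have hPU : ∀ x ∈ P, ∃ z ∈ RGD.Sup X' (RGD.Pos cs h), (z : H) = x := fun x hx => J.mem_U hx
  have hPL : P ≤ L := by
    intro x hx
    obtain ⟨z, -, rfl⟩ := hPU x hx
    exact z.2
  refine ⟨?_, ?_, ?_⟩
  · rw [← hU']
    exact hPU
  · intro v
    rw [← hU']
    exact hVU v
  exact
    { rgd := R'
      gen := hG'
      six := C.six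
      card_V := C.card_V
      card_D := C.card_D
      card_X := by
        rw [← C.card_X]
        exact Nat.card_congr (Subgroup.subgroupOfEquivOfLe hPL).toEquiv
      b_self := C.b_self
      nondeg := C.nondeg
      b_inv := fun l u v => C.b_inv l u v
      span := by
        rcases hirr (Submodule.span (ZMod 2) (Set.range fun l : L => (ρ.comp L.subtype) l a')) (by
          intro l hl v hv
          induction hv using Submodule.span_induction with
          | mem x hx =>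
            obtain ⟨k, rfl⟩ := hx
            exact Submodule.subset_span ⟨⟨l, hl⟩ * k, C.ρ_mul l k a'⟩
          | zero => rw [map_zero]; exact Submodule.zero_mem _
          | add x y _ _ h1 h2 => rw [map_add]; exact Submodule.add_mem _ h1 h2
          | smul k x _ h1 => rw [map_smul]; exact Submodule.smul_mem _ _ h1) with h1 | h1
        · exfalso
          have h2 : a' ∈ Submodule.span (ZMod 2) (Set.range fun l : L => (ρ.comp L.subtype) l a') :=
            Submodule.subset_span ⟨1, C.ρ_one a'⟩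
          rw [h1] at h2
          exact C.a_ne h2
        · exact h1
      a_ne := C.a_ne
      a_mem := C.a_mem
      b_D := fun u hu v hv => C.b_D hu hv
      D_inv := fun l hl d hd => C.D_inv l hl d hd
      fixB := hBa'
      le := by
        intro l hl
        obtain ⟨z, hz, e⟩ := hPU l hl
        have : z = l := Subtype.ext e
        rwa [this] at hz
      sq := fun x hx => Subtype.ext (C.X_sq x hx)
      norm := fun l hl x hx => C.X_norm l hl x hx
      fix := by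
        intro v hv
        exact C.fix_X fun x hx => hv ⟨x, hPL hx⟩ hx
      semi := by
        intro x hx v hv hxv
        exact Subtype.ext (C.opp hx hv hxv)
      one := fun x hx v => C.b_a_delta (C.X_a hx) v
      two := fun x hx v hv => C.X_perp x hx v hv
      three := by
        intro x hx d hd
        rcases C.X_D x hx d hd with h1 | h1
        · left
          show ρ x d + d = 0
          rw [h1, C.add_self]
        · right
          show ρ x d + d = a'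
          rw [h1, add_right_comm, C.add_self, zero_add]
      tri := by
        intro x hx hx1 c hc
        have hx1' : (x : H) ≠ 1 := fun e => hx1 (Subtype.ext e)
        obtain ⟨y, hy, t, ht, e⟩ := C.T_nondeg hc hc hx hx1'
        refine ⟨⟨y, hPL hy⟩, hy, ⟨t, hPL ht⟩, ht, ?_⟩
        rw [C.T_swap12 hx hy ht] at e
        have e' : b (ρ y (ρ x c + c) + (ρ x c + c)) (ρ t c + c) = 1 := e
        show b (ρ y (ρ x c + c) + (ρ x c + c)) (ρ t c + c) ≠ 0
        rw [e']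
        exact one_ne_zero }

/-- **`Row` from `Cfg`**, all `X_i` of exponent 2. -/
theorem rowOf {ρ : H →* (V ≃ₗ[ZMod 2] V)} {b : LinearMap.BilinForm (ZMod 2) V} {q : V → ZMod 2}
    {a : V} {D : Submodule (ZMod 2) V} {P : Subgroup H} {w : ℕ} (C : Cfg ρ b q a D P w) [Finite W]
    {L : Subgroup H} [L.Normal] {T : Subgroup L} {n : I → L} {X : (I → ℤ) → Subgroup L}
    (R : RGD cs h 2 T n X) (hG1 : RGD.Sup X {x | IsRoot cs h x} = ⊤) (hab : ∀ s ∈ T, ∀ t ∈ T, s * t = t * s)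
    (hel : ∀ i, ∀ u ∈ X (sr i), u * u = 1)
    (hirr : ∀ E : Submodule (ZMod 2) V, (∀ g ∈ L, ∀ v ∈ E, ρ g v ∈ E) → E = ⊥ ∨ E = ⊤)
    (hEnd : ∀ f : V →ₗ[ZMod 2] V, (∀ g ∈ L, ∀ v, f (ρ g v) = ρ g (f v)) → f = 0 ∨ f = LinearMap.id) :
    ∃ g : L, (∀ x ∈ P, ∃ z ∈ cj g (RGD.Sup X (RGD.Pos cs h)), (z : H) = x) ∧
      (∀ v : V, (∀ u ∈ cj g (RGD.Sup X (RGD.Pos cs h)), ρ u v = v) ↔ v = 0 ∨ v = a) ∧
      Row cs h (cj g T) (fun i => g * n i * g⁻¹) (fun x => cj g (X x)) (ρ.comp L.subtype) b a D (P.subgroupOf L) w :=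
  rowOf' C R hG1 hab (fun i => Or.inl (hel i)) (fun i _ hi => absurd (hel i) hi) hirr hEnd

end Cfsg.Agent.Omega.EH3.Kf.RowOf

end
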