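import Mathlib
import Cfsg.Agent.Nodes.MuSq
import Cfsg.Agent.Nodes.ShortSum
import Cfsg.Agent.Nodes.Unique
import Cfsg.Agent.Nodes.CardSup

section


/-!
# Root group data with root groups of order 2, no label 6 (helper532)

* `btwn_cases` : the roots between two roots;
* `Dat` : root group datum, all root groups of order `2`, no label `6`; `u X x` the nontrivial element of `X x`;
* `comm_of_nonneg` : `u x`, `u y` commute if `⟨y, x^∨⟩ ≥ 0`;
* `comm_one_one`, `comm_one_two`, `comm_two_one` : the other commutators, exactly.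
-/

set_option autoImplicit false
set_option linter.unusedSectionVars false

namespace Cfsg.Agent.Omega.EH3.Kf.Two

open CoxeterSystem Cfsg.Agent.ChevalleyStructure.CoxeterGeom Cfsg.Agent.Tits.Roots Cfsg.Agent.Tits.Core
  Cfsg.Agent.Tits.RootComb Cfsg.Agent.Nodes.Comb Cfsg.Agent.Nodes.Reps Cfsg.Agent.Nodes.BNOf
  Cfsg.Agent.Nodes.RGDLib Cfsg.Agent.Nodes.SubComb Cfsg.Agent.Nodes.Sub Cfsg.Agent.Nodes.PosPair
  Cfsg.Agent.Nodes.ZFam Cfsg.Agent.Nodes.Coroot Cfsg.Agent.Nodes.PairOf Cfsg.Agent.Nodes.MuSq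
  Cfsg.Agent.Nodes.OppDec Cfsg.Agent.Nodes.ShortSum
open scoped commutatorElement

variable {I W Y : Type*} [Fintype I] [DecidableEq I] [Group W] [Group Y] {M : CoxeterMatrix I}
  {cs : CoxeterSystem M W} {A : I → I → ℤ} {h : IsCartan M A} {T : Subgroup Y} {n : I → Y}
  {X : (I → ℤ) → Subgroup Y}

/-! ### Roots between two roots -/

/-- `⟨y, α_i^∨⟩` for the root `l` -/
def PP (a0 : ℤ) (c : ℤ × ℤ) : ℤ := 2 * c.1 - a0 * c.2

/-- `b0 |y|² / |α_i|²` -/
def NN (a0 b0 : ℤ) (c : ℤ × ℤ) : ℤ := b0 * (c.1 * c.1) - a0 * b0 * (c.1 * c.2) + a0 * (c.2 * c.2)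

/-- the table -/
def Res (a0 b0 : ℤ) (c r : ℤ × ℤ) : Prop :=
  (PP a0 c = 0 ∧ b0 ≠ 0 ∧ NN a0 b0 c = b0 ∧ ((r.1 = 1 + c.1 ∧ r.2 = c.2) ∨ (2 * r.1 = 1 + c.1 ∧ 2 * r.2 = c.2))) ∨
  (PP a0 c = -1 ∧ b0 ≠ 0 ∧ NN a0 b0 c = b0 ∧ r.1 = 1 + c.1 ∧ r.2 = c.2) ∨
  (PP a0 c = -1 ∧ b0 ≠ 0 ∧ 2 * NN a0 b0 c = b0 ∧ ((r.1 = 1 + c.1 ∧ r.2 = c.2) ∨ (r.1 = 1 + 2 * c.1 ∧ r.2 = 2 * c.2))) ∨
  (PP a0 c = -2 ∧ b0 ≠ 0 ∧ NN a0 b0 c = 2 * b0 ∧ ((r.1 = 1 + c.1 ∧ r.2 = c.2) ∨ (r.1 = 2 + c.1 ∧ r.2 = c.2)))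

instance (a0 b0 : ℤ) (c r : ℤ × ℤ) : Decidable (Res a0 b0 c r) := by unfold Res; infer_instance

/-- the root `l` is not `± α_i` -/
def HL (a0 b0 : ℤ) (l : ℕ) : Prop := 1 ≤ l ∧ co a0 b0 l ≠ (1, 0) ∧ co a0 b0 l ≠ (-1, 0)

instance (a0 b0 : ℤ) (l : ℕ) : Decidable (HL a0 b0 l) := by unfold HL; infer_instance

/-- the root `r` is strictly between `α_i` and the root `l` -/
def HR (a0 b0 : ℤ) (l r : ℕ) : Prop := 0 < (co a0 b0 r).2 * (co a0 b0 l).2 ∧
    0 < ((co a0 b0 r).1 * (co a0 b0 l).2 - (co a0 b0 r).2 * (co a0 b0 l).1) * (co a0 b0 l).2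

instance (a0 b0 : ℤ) (l r : ℕ) : Decidable (HR a0 b0 l r) := by unfold HR; infer_instance

def Tab (m : ℕ) (a0 b0 : ℤ) : Prop :=
  ∀ l, l < 2 * m + 1 → HL a0 b0 l → ∀ r, r < 2 * m + 1 → HR a0 b0 l r → Res a0 b0 (co a0 b0 l) (co a0 b0 r)

instance (m : ℕ) (a0 b0 : ℤ) : Decidable (Tab m a0 b0) := by unfold Tab; infer_instance

omit [Fintype I] [DecidableEq I] in
theorem tab (h6 : ∀ i j, M i j ≠ 6) (h : IsCartan M A) {i j : I} (hij : i ≠ j) :
    Tab (M i j) (-A i j) (-A j i) := by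
  rcases h.rel i j hij with ⟨h0, h1, h2⟩ | ⟨h0, h1, h2⟩ | ⟨h0, ⟨h1, h2⟩ | ⟨h1, h2⟩⟩ | ⟨h0, ⟨h1, h2⟩ | ⟨h1, h2⟩⟩ <;>
    first
    | exact absurd h0 (h6 i j)
    | (rw [h0, h1, h2]; decide)

theorem btwn_aux [Fintype W] (h6 : ∀ i j, M i j ≠ 6) {x y : I → ℤ} (hx : IsRoot cs h x) (hy : IsRoot cs h y)
    (hne : x ≠ y) (hne' : x ≠ -y) {z : I → ℤ} (hz : Btwn cs h x y z) :
    (cpr cs h y x = 0 ∧ form cs h x x = form cs h y y ∧ (z = x + y ∨ (2 : ℤ) • z = x + y)) ∨
    (cpr cs h y x = -1 ∧ form cs h x x = form cs h y y ∧ z = x + y) ∨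
    (cpr cs h y x = -1 ∧ form cs h x x = 2 * form cs h y y ∧ (z = x + y ∨ z = x + (2 : ℤ) • y)) ∨
    (cpr cs h y x = -2 ∧ 2 * form cs h x x = form cs h y y ∧ (z = x + y ∨ z = (2 : ℤ) • x + y)) := by
  obtain ⟨w, i, j, hij, hwx, ⟨l, hl1, hl2, hwy⟩, hall⟩ := exists_std cs h hx hy hne hne'
  obtain ⟨hzr, m, c, d, hm, hc, hd, e⟩ := hz
  obtain ⟨r, hr1, hr2, hwz⟩ := hall z hzr m hm c d e
  have hT := tab h6 h hij l hl2
  have hyi := (cyc_apply cs h hij l).1
  have hyj := (cyc_apply cs h hij l).2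
  have hzi := (cyc_apply cs h hij r).1
  have hzj := (cyc_apply cs h hij r).2
  have hyeq := cyc_eq cs h i j l
  have hzeq := cyc_eq cs h i j r
  set c' := (co (-A i j) (-A j i) l).1 with hc'
  set d' := (co (-A i j) (-A j i) l).2 with hd'
  set e' := (co (-A i j) (-A j i) r).1 with he'
  set f' := (co (-A i j) (-A j i) r).2 with hf'
  have h1 : co (-A i j) (-A j i) l ≠ (1, 0) := by
    intro h0
    have e1 : c' = 1 := by rw [hc', h0]
    have e2 : d' = 0 := by rw [hd', h0]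
    apply hne
    apply rep_injective_apply cs h w
    rw [hwx, hwy, hyeq, e1, e2]
    module
  have h2 : co (-A i j) (-A j i) l ≠ (-1, 0) := by
    intro h0
    have e1 : c' = -1 := by rw [hc', h0]
    have e2 : d' = 0 := by rw [hd', h0]
    apply hne'
    apply rep_injective_apply cs h w
    rw [map_neg, hwx, hwy, hyeq, e1, e2]
    module
  have h3 : cpr cs h y x = 2 * c' - (-A i j) * d' := by
    have h4 := cpr_rep cs h w y hx
    rw [hwx, cpr_sr, hwy, hyeq, pairing_add, pairing_smul, pairing_smul, pairing_sr', pairing_sr', h.diag] at h4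
    linarith
  have hsym : A i j * form cs h (sr i) (sr i) = A j i * form cs h (sr j) (sr j) := by
    have h4 := two_form cs h i (sr j)
    have h5 := two_form cs h j (sr i)
    rw [pairing_sr'] at h4 h5
    rw [← h4, ← h5, form_comm]
  have hyy : form cs h y y = c' * c' * form cs h (sr i) (sr i) + A i j * (c' * d') * form cs h (sr i) (sr i) +
      d' * d' * form cs h (sr j) (sr j) := by
    have h4 : form cs h y y = form cs h (cyc cs h i j l) (cyc cs h i j l) := by rw [← hwy, form_rep]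
    have h5 := two_form cs h i (sr j)
    rw [pairing_sr'] at h5
    rw [h4, hyeq, form_add_left, form_add_right, form_add_right, form_smul_left, form_smul_right, form_smul_left,
      form_smul_right, form_smul_left, form_smul_right, form_smul_left, form_smul_right,
      form_comm cs h (sr i) (sr j)]
    linear_combination (c' * d') * h5
  have hxx : form cs h x x = form cs h (sr i) (sr i) := by rw [← hwx, form_rep]
  have hN : (-A j i) * form cs h y y = NN (-A i j) (-A j i) (co (-A i j) (-A j i) l) * form cs h x x := by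
    unfold NN
    rw [← hc', ← hd', hyy, hxx]
    linear_combination (d' * d') * hsym
  -- coordinates of the relation
  have he2 := congrArg (rep cs h w) e
  rw [map_add, map_smul, map_smul, map_smul, hwx, hwy, hwz] at he2
  have ei := congrFun he2 i
  have ej := congrFun he2 j
  simp only [Pi.add_apply, Pi.smul_apply, smul_eq_mul, hyi, hyj, hzi, hzj, sr_self, sr_ne hij.symm] at ei ej
  have hd0 : d' ≠ 0 := by
    intro h0
    rw [h0, zero_smul, add_zero] at hyeq
    have h5 : rep cs h w y = c' • sr i := by rw [hwy, hyeq]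
    rcases eq_or_eq_neg_of_smul cs h (hx.act w) (hy.act w) (a := c') (b := 1) (by
      intro hc0
      rw [hc0, zero_smul] at h5
      exact (hy.act w).ne_zero h5) (by rw [one_smul, h5, hwx]) with h6 | h6
    · exact hne (rep_injective_apply cs h w h6)
    · exact hne' (rep_injective_apply cs h w (by rw [map_neg]; exact h6))
  have hdd : 0 < d' * d' := mul_self_pos.2 hd0
  have p1 : 0 < f' * d' := by
    have h5 : m * (f' * d') = d * (d' * d') := by linear_combination d' * ej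
    have h6 : 0 < m * (f' * d') := by rw [h5]; exact mul_pos hd hdd
    exact (mul_pos_iff_of_pos_left hm).1 h6
  have p2 : 0 < (e' * d' - f' * c') * d' := by
    have h5 : m * ((e' * d' - f' * c') * d') = c * (d' * d') := by
      linear_combination (d' * d') * ei - (c' * d') * ej
    have h6 : 0 < m * ((e' * d' - f' * c') * d') := by rw [h5]; exact mul_pos hc hdd
    exact (mul_pos_iff_of_pos_left hm).1 h6
  have hR := hT ⟨hl1, h1, h2⟩ r hr2 ⟨p1, p2⟩
  unfold Res at hR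
  rw [show PP (-A i j) (co (-A i j) (-A j i) l) = cpr cs h y x from h3.symm] at hR
  rw [← hc', ← hd', ← he', ← hf'] at hR
  have q1 : e' = 1 + c' ∧ f' = d' → z = x + y := by
    rintro ⟨e1, e2⟩
    apply rep_injective_apply cs h w
    rw [map_add, hwx, hwy, hwz, hyeq, hzeq, e1, e2]
    module
  have q2 : 2 * e' = 1 + c' ∧ 2 * f' = d' → (2 : ℤ) • z = x + y := by
    rintro ⟨e1, e2⟩
    apply rep_injective_apply cs h w
    rw [map_add, map_smul, hwx, hwy, hwz, hyeq, hzeq, smul_add, smul_smul, smul_smul, e1, e2]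
    module
  have q3 : e' = 1 + 2 * c' ∧ f' = 2 * d' → z = x + (2 : ℤ) • y := by
    rintro ⟨e1, e2⟩
    apply rep_injective_apply cs h w
    rw [map_add, map_smul, hwx, hwy, hwz, hyeq, hzeq, e1, e2]
    module
  have q4 : e' = 2 + c' ∧ f' = d' → z = (2 : ℤ) • x + y := by
    rintro ⟨e1, e2⟩
    apply rep_injective_apply cs h w
    rw [map_add, map_smul, hwx, hwy, hwz, hyeq, hzeq, e1, e2]
    module
  rcases hR with ⟨g1, g2, g3, g4⟩ | ⟨g1, g2, g3, g4⟩ | ⟨g1, g2, g3, g4⟩ | ⟨g1, g2, g3, g4⟩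
  · refine Or.inl ⟨g1, ?_, g4.imp q1 q2⟩
    rw [g3] at hN
    exact (mul_left_cancel₀ g2 hN).symm
  · refine Or.inr (Or.inl ⟨g1, ?_, q1 g4⟩)
    rw [g3] at hN
    exact (mul_left_cancel₀ g2 hN).symm
  · refine Or.inr (Or.inr (Or.inl ⟨g1, ?_, g4.imp q1 q3⟩))
    refine mul_left_cancel₀ g2 ?_
    rw [mul_left_comm, hN, ← mul_assoc, g3]
  · refine Or.inr (Or.inr (Or.inr ⟨g1, ?_, g4.imp q1 q4⟩))
    refine mul_left_cancel₀ g2 ?_
    rw [hN, g3]; ring

/-- **The roots between two roots.** -/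
theorem btwn_cases [Finite W] (h6 : ∀ i j, M i j ≠ 6) {x y : I → ℤ} (hx : IsRoot cs h x) (hy : IsRoot cs h y)
    (hne : x ≠ y) (hne' : x ≠ -y) {z : I → ℤ} (hz : Btwn cs h x y z) :
    (cpr cs h y x = 0 ∧ (z = x + y ∨ (2 : ℤ) • z = x + y)) ∨
    (cpr cs h y x = -1 ∧ cpr cs h x y = -1 ∧ z = x + y) ∨
    (cpr cs h y x = -1 ∧ cpr cs h x y = -2 ∧ (z = x + y ∨ z = x + (2 : ℤ) • y)) ∨
    (cpr cs h y x = -2 ∧ cpr cs h x y = -1 ∧ (z = x + y ∨ z = (2 : ℤ) • x + y)) := by
  have := Fintype.ofFinite W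
  have e1 := two_form_cpr cs h y hx
  have e2 := two_form_cpr cs h x hy
  have hy0 := (form_pos cs h hy.ne_zero).ne'
  rw [form_comm cs h y x] at e1
  rcases btwn_aux h6 hx hy hne hne' hz with ⟨g1, g2, g3⟩ | ⟨g1, g2, g3⟩ | ⟨g1, g2, g3⟩ | ⟨g1, g2, g3⟩
  · exact Or.inl ⟨g1, g3⟩
  · refine Or.inr (Or.inl ⟨g1, mul_right_cancel₀ hy0 ?_, g3⟩)
    rw [g1, g2] at e1; linarith
  · refine Or.inr (Or.inr (Or.inl ⟨g1, mul_right_cancel₀ hy0 ?_, g3⟩))
    rw [g1, g2] at e1; linarith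
  · refine Or.inr (Or.inr (Or.inr ⟨g1, mul_right_cancel₀ hy0 ?_, g3⟩))
    rw [g1] at e1; linarith

theorem not_btwn_of_pos [Finite W] (h6 : ∀ i j, M i j ≠ 6) {x y : I → ℤ} (hx : IsRoot cs h x) (hy : IsRoot cs h y)
    (hne : x ≠ y) (hne' : x ≠ -y) (hp : 0 < cpr cs h y x) (z : I → ℤ) : ¬ Btwn cs h x y z := by
  intro hz
  rcases btwn_cases h6 hx hy hne hne' hz with ⟨g, -⟩ | ⟨g, -, -⟩ | ⟨g, -, -⟩ | ⟨g, -, -⟩ <;> omega

theorem ne_neg_of_cpr [Finite W] {x y : I → ℤ} (hx : IsRoot cs h x) (hp : -2 < cpr cs h y x) : x ≠ -y := by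
  intro e
  have h1 : y = -x := by rw [e, neg_neg]
  rw [h1, cpr_neg cs h x hx, cpr_self cs h hx] at hp
  omega

/-- the Cartan numbers of two roots at an obtuse angle -/
theorem neg_cases [Finite W] (h6 : ∀ i j, M i j ≠ 6) {x y : I → ℤ} (hx : IsRoot cs h x) (hy : IsRoot cs h y)
    (hne' : x ≠ -y) (hp : cpr cs h y x < 0) :
    (cpr cs h y x = -1 ∧ cpr cs h x y = -1) ∨ (cpr cs h y x = -1 ∧ cpr cs h x y = -2) ∨
      (cpr cs h y x = -2 ∧ cpr cs h x y = -1) := by
  have hne : x ≠ y := by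
    rintro rfl
    rw [cpr_self cs h hx] at hp
    omega
  have hz : Btwn cs h x y (y - cpr cs h y x • x) :=
    ⟨isRoot_refl cs h hy hx, 1, -cpr cs h y x, 1, one_pos, by omega, one_pos, by module⟩
  rcases btwn_cases h6 hx hy hne hne' hz with ⟨g, -⟩ | ⟨g, g', -⟩ | ⟨g, g', -⟩ | ⟨g, g', -⟩
  · omega
  · exact Or.inl ⟨g, g'⟩
  · exact Or.inr (Or.inl ⟨g, g'⟩)
  · exact Or.inr (Or.inr ⟨g, g'⟩)

/-! ### The datum -/

/-- the nontrivial element of `X x` (`1` if there is none) -/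
noncomputable def u (X : (I → ℤ) → Subgroup Y) (x : I → ℤ) : Y := by
  classical
  exact if hx : ∃ g ∈ X x, g ≠ 1 then Classical.choose hx else 1

/-- Root group datum with root groups of order `2`, no label `6`. -/
structure Dat (cs : CoxeterSystem M W) {A : I → I → ℤ} (h : IsCartan M A) (T : Subgroup Y) (n : I → Y)
    (X : (I → ℤ) → Subgroup Y) : Prop where
  rgd : RGD cs h 2 T n X
  two : ∀ i, Nat.card (X (sr i)) = 2
  six : ∀ i j, M i j ≠ 6

section

variable (D : Dat cs h T n X)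

include D

theorem Dat.card {x : I → ℤ} (hx : IsRoot cs h x) : Nat.card (X x) = 2 := by
  obtain ⟨w, i, rfl⟩ := hx
  obtain ⟨g, hg⟩ := exists_rp cs D.rgd.nsys w
  rw [← D.rgd.conj_rp hg (isRoot_sr cs h i), Cfsg.Agent.Nodes.CardSup.card_cj]
  exact D.two i

theorem Dat.exists_ne {x : I → ℤ} (hx : IsRoot cs h x) : ∃ g ∈ X x, g ≠ 1 := by
  obtain ⟨y, hy, -⟩ := (Nat.card_eq_two_iff' (1 : X x)).1 (D.card hx)
  exact ⟨y, y.2, fun e => hy (Subtype.ext e)⟩

theorem Dat.u_mem {x : I → ℤ} (hx : IsRoot cs h x) : u X x ∈ X x := by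
  unfold u
  rw [dif_pos (D.exists_ne hx)]
  exact (Classical.choose_spec (D.exists_ne hx)).1

theorem Dat.u_ne {x : I → ℤ} (hx : IsRoot cs h x) : u X x ≠ 1 := by
  unfold u
  rw [dif_pos (D.exists_ne hx)]
  exact (Classical.choose_spec (D.exists_ne hx)).2

theorem Dat.eq_u {x : I → ℤ} (hx : IsRoot cs h x) {g : Y} (hg : g ∈ X x) (hg1 : g ≠ 1) : g = u X x := by
  obtain ⟨y, -, hy⟩ := (Nat.card_eq_two_iff' (1 : X x)).1 (D.card hx)
  have h1 := hy ⟨g, hg⟩ (fun e => hg1 (congrArg Subtype.val e))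
  have h2 := hy ⟨u X x, D.u_mem hx⟩ (fun e => D.u_ne hx (congrArg Subtype.val e))
  exact congrArg Subtype.val (h1.trans h2.symm)

theorem Dat.mem_iff {x : I → ℤ} (hx : IsRoot cs h x) {g : Y} : g ∈ X x ↔ g = 1 ∨ g = u X x := by
  constructor
  · intro hg
    by_cases h1 : g = 1
    · exact Or.inl h1
    · exact Or.inr (D.eq_u hx hg h1)
  · rintro (rfl | rfl)
    · exact one_mem _
    · exact D.u_mem hx

theorem Dat.u_sq {x : I → ℤ} (hx : IsRoot cs h x) : u X x * u X x = 1 := by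
  by_contra h1
  have h2 := D.eq_u hx (mul_mem (D.u_mem hx) (D.u_mem hx)) h1
  exact D.u_ne hx (mul_eq_left.1 h2)

theorem Dat.u_inv {x : I → ℤ} (hx : IsRoot cs h x) : (u X x)⁻¹ = u X x :=
  inv_eq_of_mul_eq_one_right (D.u_sq hx)

theorem Dat.conj_u {w : W} {k : Y} (hk : Rp cs D.rgd.nsys w k) {x : I → ℤ} (hx : IsRoot cs h x) :
    k * u X x * k⁻¹ = u X (rep cs h w x) := by
  refine D.eq_u (hx.act w) (D.rgd.conj_mem hk hx (D.u_mem hx)) fun e => D.u_ne hx ?_
  have : u X x = k⁻¹ * (k * u X x * k⁻¹) * k := by group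
  rw [this, e]; group

theorem Dat.u_inj [Finite W] {x y : I → ℤ} (hx : IsRoot cs h x) (hy : IsRoot cs h y) (e : u X x = u X y) : x = y := by
  by_contra hne
  have h1 : u X x ∈ X x ⊓ X y := ⟨D.u_mem hx, e ▸ D.u_mem hy⟩
  rw [X_inf_X D.rgd hx hy hne, Subgroup.mem_bot] at h1
  exact D.u_ne hx h1

/-- acute angles -/
theorem Dat.comm_of_pos [Finite W] {x y : I → ℤ} (hx : IsRoot cs h x) (hy : IsRoot cs h y)
    (hp : 0 < cpr cs h y x) : u X x * u X y = u X y * u X x := by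
  by_cases hne : x = y
  · rw [hne]
  have hne' : x ≠ -y := ne_neg_of_cpr hx (by omega)
  exact commutatorElement_eq_one_iff_mul_comm.1
    (comm_of_no_btwn D.rgd hx hy hne hne' (not_btwn_of_pos D.six hx hy hne hne' hp) _ (D.u_mem hx) _ (D.u_mem hy))

/-! ### Orthogonal roots -/

omit D in
theorem Sq.swap' [Fintype W] {m : ℤ} {y₁ y₂ x b : I → ℤ} (S : Sq cs h m y₁ y₂ x b) : Sq cs h m y₂ y₁ x (-b) where
  pos := S.pos
  root₁ := S.root₂
  root₂ := S.root₁
  root := S.root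
  rootb := S.rootb.neg
  orth := by rw [form_comm]; exact S.orth
  len := S.len.symm
  add := by rw [S.add]; abel
  sub := by rw [smul_neg, S.sub]; abel

theorem Dat.orth_aux [Fintype W] {m : ℤ} {y₁ y₂ x b : I → ℤ} (S : Sq cs h m y₁ y₂ x b)
    (hc : ⁅u X y₁, u X y₂⁆ = u X x) : u X b * u X y₁ * (u X b)⁻¹ = u X y₁ ∨
      u X b * u X y₁ * (u X b)⁻¹ = u X x * u X y₁ := by
  have c1 : u X x * u X y₁ = u X y₁ * u X x :=
    (D.comm_of_pos S.root₁ S.root ((cpr_pos_iff cs h x S.root₁).2 S.x₁_pos)).symm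
  have c2 : u X x * u X y₂ = u X y₂ * u X x :=
    (D.comm_of_pos S.root₂ S.root ((cpr_pos_iff cs h x S.root₂).2 S.x₂_pos)).symm
  have hcc : ∀ a ∈ X y₂, ∀ b ∈ X x, a * b = b * a := by
    intro a ha b hb
    rcases (D.mem_iff S.root₂).1 ha with rfl | rfl
    · rw [one_mul, mul_one]
    rcases (D.mem_iff S.root).1 hb with rfl | rfl
    · rw [one_mul, mul_one]
    exact c2.symm
  obtain ⟨a, ha, c, hc', e⟩ := comm_two D.rgd S.root₁ S.rootb S.ne_b.1 S.ne_b.2 (fun z hz => S.btwn' hz) hcc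
    (D.u_mem S.root₁) (D.u_mem S.rootb)
  have e1 : u X b * u X y₁ * (u X b)⁻¹ = c⁻¹ * a⁻¹ * u X y₁ := by
    have h1 : u X b * u X y₁ * (u X b)⁻¹ = ⁅u X y₁, u X b⁆⁻¹ * u X y₁ := by
      rw [commutatorElement_def]; group
    rw [h1, e, mul_inv_rev]
  have hsq : (c⁻¹ * a⁻¹ * u X y₁) * (c⁻¹ * a⁻¹ * u X y₁) = 1 := by
    rw [← e1]
    have h1 : u X b * u X y₁ * (u X b)⁻¹ * (u X b * u X y₁ * (u X b)⁻¹) =
      u X b * (u X y₁ * u X y₁) * (u X b)⁻¹ := by group
    rw [h1, D.u_sq S.root₁, mul_one, mul_inv_cancel]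
  have i1 := D.u_inv S.root₁
  have i2 := D.u_inv S.root₂
  have ix := D.u_inv S.root
  have ha1 : a = 1 := by
    rcases (D.mem_iff S.root₂).1 ha with h1 | rfl
    · exact h1
    exfalso
    apply D.u_ne S.root
    have h2 : (u X y₂ * u X y₁) * (u X y₂ * u X y₁) = 1 := by
      rcases (D.mem_iff S.root).1 hc' with rfl | rfl
      · rwa [inv_one, one_mul, i2] at hsq
      · rw [i2, ix] at hsq
        have h3 : u X x * u X y₂ * u X y₁ * (u X x * u X y₂ * u X y₁) =
            (u X x * u X x) * ((u X y₂ * u X y₁) * (u X y₂ * u X y₁)) := by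
          calc u X x * u X y₂ * u X y₁ * (u X x * u X y₂ * u X y₁)
              = u X x * u X y₂ * (u X y₁ * u X x) * (u X y₂ * u X y₁) := by group
            _ = u X x * (u X y₂ * u X x) * u X y₁ * (u X y₂ * u X y₁) := by rw [← c1]; group
            _ = _ := by rw [← c2]; group
        rw [h3, D.u_sq S.root, one_mul] at hsq
        exact hsq
    have h3 : ⁅u X y₁, u X y₂⁆ = ((u X y₂ * u X y₁) * (u X y₂ * u X y₁))⁻¹ := by
      rw [commutatorElement_def]
      nth_rewrite 1 [← i1]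
      nth_rewrite 1 [← i2]
      group
    rw [← hc, h3, h2, inv_one]
  rw [ha1, inv_one, mul_one] at e1
  rcases (D.mem_iff S.root).1 hc' with rfl | rfl
  · left; rw [e1, inv_one, one_mul]
  · right; rw [e1, ix]

/-- orthogonal roots -/
theorem Dat.comm_of_orth [Finite W] {x y : I → ℤ} (hx : IsRoot cs h x) (hy : IsRoot cs h y)
    (hp : cpr cs h y x = 0) : u X x * u X y = u X y * u X x := by
  have := Fintype.ofFinite W
  have hne : x ≠ y := by
    rintro rfl
    rw [cpr_self cs h hx] at hp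
    omega
  have hne' : x ≠ -y := ne_neg_of_cpr hx (by omega)
  by_cases hno : ∀ z, ¬ Btwn cs h x y z
  · exact commutatorElement_eq_one_iff_mul_comm.1 (comm_of_no_btwn D.rgd hx hy hne hne' hno _ (D.u_mem hx) _ (D.u_mem hy))
  push Not at hno
  obtain ⟨z, hz⟩ := hno
  obtain ⟨m, hm, hz', hl⟩ : ∃ m : ℤ, 0 < m ∧ m • z = x + y ∧ form cs h x x = form cs h y y := by
    rcases btwn_aux D.six hx hy hne hne' hz with ⟨-, g2, g3 | g3⟩ | ⟨g1, -, -⟩ | ⟨g1, -, -⟩ | ⟨g1, -, -⟩
    · exact ⟨1, one_pos, by rw [one_smul, g3], g2⟩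
    · exact ⟨2, two_pos, g3, g2⟩
    all_goals omega
  have ho : form cs h x y = 0 := by rw [form_comm]; exact (cpr_zero_iff cs h y hx).1 hp
  have S := Sq.of_add hm hx hy hz.1 ho hl hz'
  set b := z - cpr cs h z x • x with hb
  by_contra hcon
  have hc : ⁅u X x, u X y⁆ = u X z :=
    D.eq_u hz.1 (comm_in D.rgd hx hy hne hne' (fun w hw => S.btwn hw) (D.u_mem hx) (D.u_mem hy))
      fun e => hcon (commutatorElement_eq_one_iff_mul_comm.1 e)
  have iz := D.u_inv hz.1
  have hz2 := D.u_sq hz.1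
  have c1 : u X z * u X x = u X x * u X z :=
    (D.comm_of_pos S.root₁ S.root ((cpr_pos_iff cs h z S.root₁).2 S.x₁_pos)).symm
  have c2 : u X z * u X y = u X y * u X z :=
    (D.comm_of_pos S.root₂ S.root ((cpr_pos_iff cs h z S.root₂).2 S.x₂_pos)).symm
  have hc' : ⁅u X y, u X x⁆ = u X z := by
    rw [← commutatorElement_inv, hc, iz]
  have k1 := D.orth_aux S hc
  have k2 := D.orth_aux (Sq.swap' S) hc'
  -- `-b` commutes with `x`, and with `z`
  have hbx : u X (-b) * u X x = u X x * u X (-b) := by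
    refine (D.comm_of_pos hx S.rootb.neg ?_).symm
    rw [cpr_pos_iff cs h (-b) hx, form_neg_left]
    have := S.b₁_neg
    omega
  have hbz : u X (-b) * u X z * (u X (-b))⁻¹ = u X z := by
    have h1 : u X (-b) * u X z * (u X (-b))⁻¹ =
        ⁅u X (-b) * u X x * (u X (-b))⁻¹, u X (-b) * u X y * (u X (-b))⁻¹⁆ := by
      rw [← hc, commutatorElement_def, commutatorElement_def]; group
    have h2 : u X (-b) * u X x * (u X (-b))⁻¹ = u X x := by rw [hbx, mul_inv_cancel_right]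
    rw [h1, h2]
    rcases k2 with k2 | k2
    · rw [k2, hc]
    · rw [k2]
      have h3 : ⁅u X x, u X z * u X y⁆ = ⁅u X x, u X y⁆ := by
        rw [commutatorElement_def, commutatorElement_def, mul_inv_rev]
        calc u X x * (u X z * u X y) * (u X x)⁻¹ * ((u X y)⁻¹ * (u X z)⁻¹)
            = (u X x * u X z) * u X y * (u X x)⁻¹ * (u X y)⁻¹ * (u X z)⁻¹ := by group
          _ = u X z * (u X x * u X y * (u X x)⁻¹ * (u X y)⁻¹) * (u X z)⁻¹ := by rw [← c1]; group
          _ = u X z * u X z * (u X z)⁻¹ := by rw [← commutatorElement_def, hc]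
          _ = u X x * u X y * (u X x)⁻¹ * (u X y)⁻¹ := by
              rw [← commutatorElement_def, hc]; group
      rw [h3, hc]
  have hb2 : ∀ g ∈ X (-b), g * u X x * g⁻¹ = u X x ∧ g * u X z * g⁻¹ = u X z := by
    intro g hg
    rcases (D.mem_iff S.rootb.neg).1 hg with rfl | rfl
    · constructor <;> group
    · exact ⟨by rw [hbx, mul_inv_cancel_right], hbz⟩
  obtain ⟨g, hg, g', hg', w, hw, -, hr⟩ := exists_mu' D.rgd S.rootb (D.u_mem S.rootb) (D.u_ne S.rootb)
  have hrx : rep cs h w x = y := by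
    rw [hr]
    have h1 := two_form_cpr cs h x S.rootb
    have h2 : m * (m * form cs h b b) = 2 * form cs h x x := by
      rw [← form_smul_left, ← form_smul_right, S.sub, form_sub_left, form_sub_right, form_sub_right,
        form_comm cs h y x, ho, ← hl]; ring
    have h3 : m * (m * form cs h x b) = -(m * form cs h x x) := by
      rw [form_comm cs h x b, S.form_b₁]; ring
    have h4 : cpr cs h x b = -m := by
      have h5 : (cpr cs h x b) * (2 * form cs h x x) = (-m) * (2 * form cs h x x) := by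
        rw [← h2]
        calc cpr cs h x b * (m * (m * form cs h b b)) = m * (m * (cpr cs h x b * form cs h b b)) := by ring
          _ = 2 * (m * (m * form cs h x b)) := by rw [← h1]; ring
          _ = _ := by rw [h3, h2]; ring
      have h6 := S.ypos
      exact mul_right_cancel₀ (by omega) h5
    rw [h4, neg_smul, S.sub]; abel
  have hm1 : g * u X b * g' * u X x * (g * u X b * g')⁻¹ = u X y := by
    rw [D.conj_u hw hx, hrx]
  have hm2 : g * u X b * g' * u X x * (g * u X b * g')⁻¹ =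
      g * (u X b * (g' * u X x * g'⁻¹) * (u X b)⁻¹) * g⁻¹ := by group
  rw [hm2, (hb2 g' hg').1] at hm1
  apply hcon
  rcases k1 with k1 | k1
  · rw [k1, (hb2 g hg).1] at hm1
    rw [hm1]
  · have h5 : g * (u X z * u X x) * g⁻¹ = (g * u X z * g⁻¹) * (g * u X x * g⁻¹) := by group
    rw [k1, h5, (hb2 g hg).1, (hb2 g hg).2] at hm1
    rw [← hm1]
    rw [← mul_assoc, c1, mul_assoc]

/-- **Roots at an angle of at most 90 degrees have commuting root groups.** -/
theorem Dat.comm_of_nonneg [Finite W] {x y : I → ℤ} (hx : IsRoot cs h x) (hy : IsRoot cs h y)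
    (hp : 0 ≤ cpr cs h y x) : u X x * u X y = u X y * u X x := by
  rcases hp.eq_or_lt with h0 | h0
  · exact D.comm_of_orth hx hy h0.symm
  · exact D.comm_of_pos hx hy h0

/-! ### Obtuse angles -/

omit D in
/-- `x + k y` is a root, `k = -⟨x, y^∨⟩` -/
theorem isRoot_add_smul [Finite W] {x y : I → ℤ} (hx : IsRoot cs h x) (hy : IsRoot cs h y) {k : ℤ}
    (hk : cpr cs h x y = -k) : IsRoot cs h (x + k • y) := by
  have := isRoot_refl cs h hx hy
  rwa [hk, neg_smul, sub_neg_eq_add] at this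

omit D in
theorem isRoot_add [Finite W] {x y : I → ℤ} (hx : IsRoot cs h x) (hy : IsRoot cs h y)
    (hk : cpr cs h x y = -1) : IsRoot cs h (x + y) := by
  have := isRoot_add_smul hx hy (k := 1) hk
  rwa [one_smul] at this

theorem Dat.ne_comm_of_neg [Finite W] {x y : I → ℤ} (hx : IsRoot cs h x) (hy : IsRoot cs h y)
    (hne' : x ≠ -y) (hp : cpr cs h y x < 0) : u X x * u X y ≠ u X y * u X x := by
  have := Fintype.ofFinite W
  have hne : x ≠ y := by
    rintro rfl
    rw [cpr_self cs h hx] at hp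
    omega
  intro e
  have hp' : 0 < cpr cs h y (-x) := by rw [cpr_neg_right cs h y hx]; omega
  have h1 := eq_one_of_comm D.rgd hx hy hne hne'
    (not_btwn_of_pos D.six hx.neg hy (fun e => hne' (by rw [← e, neg_neg])) (fun e => hne (neg_injective e)) hp')
    hp.ne (D.u_mem hx) (D.u_ne hx) (D.u_mem hy) e
  exact D.u_ne hy h1

/-- angle 120 degrees -/
theorem Dat.comm_one_one [Finite W] {x y : I → ℤ} (hx : IsRoot cs h x) (hy : IsRoot cs h y)
    (h1 : cpr cs h y x = -1) (h2 : cpr cs h x y = -1) : ⁅u X x, u X y⁆ = u X (x + y) := by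
  have := Fintype.ofFinite W
  have hne : x ≠ y := by
    rintro rfl
    rw [cpr_self cs h hx] at h1
    omega
  have hne' : x ≠ -y := ne_neg_of_cpr hx (by omega)
  refine D.eq_u (isRoot_add hx hy h2) (comm_in D.rgd hx hy hne hne' ?_ (D.u_mem hx) (D.u_mem hy)) ?_
  · intro z hz
    rcases btwn_cases D.six hx hy hne hne' hz with ⟨g1, -⟩ | ⟨-, -, g3⟩ | ⟨-, g2, -⟩ | ⟨g1, -, -⟩
    · omega
    · exact g3
    · omega
    · omega
  · intro e
    exact D.ne_comm_of_neg hx hy hne' (by omega) (commutatorElement_eq_one_iff_mul_comm.1 e)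

/-- angle 135 degrees, `x` long -/
theorem Dat.comm_one_two [Finite W] {x y : I → ℤ} (hx : IsRoot cs h x) (hy : IsRoot cs h y)
    (h1 : cpr cs h y x = -1) (h2 : cpr cs h x y = -2) :
    ⁅u X x, u X y⁆ = u X (x + y) * u X (x + (2 : ℤ) • y) := by
  have := Fintype.ofFinite W
  have hne : x ≠ y := by
    rintro rfl
    rw [cpr_self cs h hx] at h1
    omega
  have hne' : x ≠ -y := ne_neg_of_cpr hx (by omega)
  have r1 : IsRoot cs h (x + y) := by
    have := isRoot_add hy hx h1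
    rwa [add_comm] at this
  have r2 : IsRoot cs h (x + (2 : ℤ) • y) := isRoot_add_smul hx hy h2
  have hxx := cpr_self cs h hx
  have hyy := cpr_self cs h hy
  -- Cartan numbers
  have f1 := two_form_cpr cs h y hx
  have f2 := two_form_cpr cs h x hy
  have f0 := form_pos cs h hy.ne_zero
  rw [form_comm cs h y x] at f1
  rw [h1] at f1
  rw [h2] at f2
  have p12 : 0 < cpr cs h (x + (2 : ℤ) • y) (x + y) := by
    rw [cpr_pos_iff cs h _ r1, form_add_left, form_add_right, form_add_right, form_smul_left, form_smul_left,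
      form_comm cs h y x]
    linarith
  have c12 : u X (x + (2 : ℤ) • y) * u X (x + y) = u X (x + y) * u X (x + (2 : ℤ) • y) :=
    (D.comm_of_nonneg r1 r2 p12.le).symm
  have hcc : ∀ a ∈ X (x + y), ∀ b ∈ X (x + (2 : ℤ) • y), a * b = b * a := by
    intro a ha b hb
    rcases (D.mem_iff r1).1 ha with rfl | rfl
    · rw [one_mul, mul_one]
    rcases (D.mem_iff r2).1 hb with rfl | rfl
    · rw [one_mul, mul_one]
    exact c12.symm
  obtain ⟨a, ha, b, hb, e⟩ := comm_two D.rgd hx hy hne hne' (w₁ := x + y) (w₂ := x + (2 : ℤ) • y) (fun z hz => by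
    rcases btwn_cases D.six hx hy hne hne' hz with ⟨g1, -⟩ | ⟨-, g2, -⟩ | ⟨-, -, g3⟩ | ⟨g1, -, -⟩
    · omega
    · omega
    · exact g3
    · omega) hcc (D.u_mem hx) (D.u_mem hy)
  have q1 : cpr cs h (x + y) x = 1 := by rw [cpr_add cs h _ _ hx, hxx, h1]; norm_num
  have q2 : cpr cs h (x + (2 : ℤ) • y) x = 0 := by rw [cpr_add cs h _ _ hx, cpr_smul cs h _ _ hx, hxx, h1]; norm_num
  have q3 : cpr cs h (x + y) y = 0 := by rw [cpr_add cs h _ _ hy, hyy, h2]; norm_num
  have q4 : cpr cs h (x + (2 : ℤ) • y) y = 2 := by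
    rw [cpr_add cs h _ _ hy, cpr_smul cs h _ _ hy, hyy, h2]; norm_num
  have k1 : u X x * u X (x + y) = u X (x + y) * u X x := D.comm_of_nonneg hx r1 (by omega)
  have k2 : u X x * u X (x + (2 : ℤ) • y) = u X (x + (2 : ℤ) • y) * u X x := D.comm_of_nonneg hx r2 (by omega)
  have k3 : u X y * u X (x + y) = u X (x + y) * u X y := D.comm_of_nonneg hy r1 (by omega)
  have k4 : u X y * u X (x + (2 : ℤ) • y) = u X (x + (2 : ℤ) • y) * u X y := D.comm_of_nonneg hy r2 (by omega)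
  have hnc := D.ne_comm_of_neg hx hy hne' (by omega)
  -- `a ≠ 1`
  have ha' : a ≠ 1 := by
    intro ha1
    rw [ha1, one_mul] at e
    obtain ⟨g, hg, g', hg', w, hw, -, hr⟩ := exists_mu' D.rgd hx (D.u_mem hx) (D.u_ne hx)
    have m1 : ∀ g ∈ X (-x), g * u X y = u X y * g := by
      intro g hg
      rcases (D.mem_iff hx.neg).1 hg with rfl | rfl
      · rw [one_mul, mul_one]
      · exact D.comm_of_nonneg hx.neg hy (by rw [cpr_neg_right cs h y hx]; omega)
    have m2 : ∀ g ∈ X (-x), g * b = b * g := by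
      intro g hg
      rcases (D.mem_iff hx.neg).1 hg with rfl | rfl
      · rw [one_mul, mul_one]
      rcases (D.mem_iff r2).1 hb with rfl | rfl
      · rw [one_mul, mul_one]
      · exact D.comm_of_nonneg hx.neg r2 (by rw [cpr_neg_right cs h _ hx]; omega)
    have m3 : g * u X x * g' * u X y * (g * u X x * g')⁻¹ = u X (x + y) := by
      rw [D.conj_u hw hy, hr, h1]
      congr 1
      module
    have m4 : g * u X x * g' * u X y * (g * u X x * g')⁻¹ = b * u X y := by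
      calc g * u X x * g' * u X y * (g * u X x * g')⁻¹
          = g * u X x * (g' * u X y) * g'⁻¹ * (u X x)⁻¹ * g⁻¹ := by group
        _ = g * ⁅u X x, u X y⁆ * u X y * g⁻¹ := by rw [m1 g' hg', commutatorElement_def]; group
        _ = g * b * (u X y * g⁻¹) := by rw [e]; group
        _ = (g * b) * (g⁻¹ * u X y) := by rw [m1 _ (inv_mem hg)]
        _ = b * u X y := by rw [m2 g hg]; group
    rw [m4] at m3
    rcases (D.mem_iff r2).1 hb with rfl | rfl
    · rw [one_mul] at m3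
      have := D.u_inj hy r1 m3
      exact hx.ne_zero (right_eq_add.1 this)
    · apply hnc
      have h3 : u X y = (u X (x + (2 : ℤ) • y))⁻¹ * u X (x + y) := by rw [← m3]; group
      rw [h3, D.u_inv r2, ← mul_assoc, k2, mul_assoc, k1, ← mul_assoc]
  have hb' : b ≠ 1 := by
    intro hb1
    rw [hb1, mul_one] at e
    obtain ⟨g, hg, g', hg', w, hw, -, hr⟩ := exists_mu' D.rgd hy (D.u_mem hy) (D.u_ne hy)
    have m1 : ∀ g ∈ X (-y), g * u X x = u X x * g := by
      intro g hg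
      rcases (D.mem_iff hy.neg).1 hg with rfl | rfl
      · rw [one_mul, mul_one]
      · exact D.comm_of_nonneg hy.neg hx (by rw [cpr_neg_right cs h x hy]; omega)
    have m2 : ∀ g ∈ X (-y), g * a = a * g := by
      intro g hg
      rcases (D.mem_iff hy.neg).1 hg with rfl | rfl
      · rw [one_mul, mul_one]
      rcases (D.mem_iff r1).1 ha with rfl | rfl
      · rw [one_mul, mul_one]
      · exact D.comm_of_nonneg hy.neg r1 (by rw [cpr_neg_right cs h _ hy]; omega)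
    have m3 : g * u X y * g' * u X x * (g * u X y * g')⁻¹ = u X (x + (2 : ℤ) • y) := by
      rw [D.conj_u hw hx, hr, h2]
      congr 1
      module
    have e' : ⁅u X y, u X x⁆ = a⁻¹ := by rw [← commutatorElement_inv, e]
    have m4 : g * u X y * g' * u X x * (g * u X y * g')⁻¹ = a⁻¹ * u X x := by
      calc g * u X y * g' * u X x * (g * u X y * g')⁻¹
          = g * u X y * (g' * u X x) * g'⁻¹ * (u X y)⁻¹ * g⁻¹ := by group
        _ = g * ⁅u X y, u X x⁆ * u X x * g⁻¹ := by rw [m1 g' hg', commutatorElement_def]; group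
        _ = g * a⁻¹ * (u X x * g⁻¹) := by rw [e']; group
        _ = (g * a⁻¹) * (g⁻¹ * u X x) := by rw [m1 _ (inv_mem hg)]
        _ = (a * g⁻¹)⁻¹ * g⁻¹ * u X x := by group
        _ = a⁻¹ * u X x := by rw [← m2 _ (inv_mem hg)]; group
    rw [m4] at m3
    rcases (D.mem_iff r1).1 ha with rfl | rfl
    · rw [inv_one, one_mul] at m3
      have h3 := D.u_inj hx r2 m3
      have h4 : (2 : ℤ) • y = 0 := left_eq_add.1 h3
      exact hy.ne_zero ((smul_eq_zero.1 h4).resolve_left two_ne_zero)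
    · apply hnc
      have h3 : u X x = u X (x + y) * u X (x + (2 : ℤ) • y) := by rw [← m3]; group
      rw [h3, mul_assoc, ← k4, ← mul_assoc, ← k3, mul_assoc]
  rw [e, ← D.eq_u r1 ha ha', ← D.eq_u r2 hb hb']

/-- angle 135 degrees, `x` short -/
theorem Dat.comm_two_one [Finite W] {x y : I → ℤ} (hx : IsRoot cs h x) (hy : IsRoot cs h y)
    (h1 : cpr cs h y x = -2) (h2 : cpr cs h x y = -1) :
    ⁅u X x, u X y⁆ = u X (x + y) * u X ((2 : ℤ) • x + y) := by
  have := Fintype.ofFinite W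
  have e := D.comm_one_two hy hx h2 h1
  have r1 : IsRoot cs h (x + y) := isRoot_add hx hy h2
  have r2 : IsRoot cs h ((2 : ℤ) • x + y) := by
    have := isRoot_add_smul hy hx h1
    rwa [add_comm] at this
  rw [← commutatorElement_inv, e, mul_inv_rev, add_comm y x, add_comm y, D.u_inv r1, D.u_inv r2]
  have f1 := two_form_cpr cs h y hx
  have f2 := two_form_cpr cs h x hy
  have f0 := form_pos cs h hx.ne_zero
  rw [form_comm cs h y x] at f1
  rw [h1] at f1
  rw [h2] at f2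
  have p12 : 0 < cpr cs h (x + y) ((2 : ℤ) • x + y) := by
    rw [cpr_pos_iff cs h _ r2, form_add_left, form_add_right, form_add_right, form_smul_right, form_smul_right,
      form_comm cs h y x]
    linarith
  exact D.comm_of_nonneg r2 r1 p12.le

/-- the roots which can occur in `⁅X x, X y⁆` -/
def Cm (cs : CoxeterSystem M W) {A : I → I → ℤ} (h : IsCartan M A) (x y : I → ℤ) : Set (I → ℤ) :=
  {z | IsRoot cs h z ∧ cpr cs h y x < 0 ∧ (z = x + y ∨ z = (2 : ℤ) • x + y ∨ z = x + (2 : ℤ) • y)}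

/-- the commutator of two root groups -/
theorem Dat.comm_mem [Finite W] {x y : I → ℤ} (hx : IsRoot cs h x) (hy : IsRoot cs h y) (hne' : x ≠ -y)
    {a b : Y} (ha : a ∈ X x) (hb : b ∈ X y) : ⁅a, b⁆ ∈ RGD.Sup X (Cm cs h x y) := by
  rcases (D.mem_iff hx).1 ha with rfl | rfl
  · rw [commutatorElement_one_left]; exact one_mem _
  rcases (D.mem_iff hy).1 hb with rfl | rfl
  · rw [commutatorElement_one_right]; exact one_mem _
  by_cases hp : 0 ≤ cpr cs h y x
  · rw [commutatorElement_eq_one_iff_mul_comm.2 (D.comm_of_nonneg hx hy hp)]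
    exact one_mem _
  have hp' : cpr cs h y x < 0 := not_le.1 hp
  rcases neg_cases D.six hx hy hne' hp' with ⟨h1, h2⟩ | ⟨h1, h2⟩ | ⟨h1, h2⟩
  · rw [D.comm_one_one hx hy h1 h2]
    have r := isRoot_add hx hy h2
    exact RGD.le_Sup (show x + y ∈ Cm cs h x y from ⟨r, hp', Or.inl rfl⟩) (D.u_mem r)
  · rw [D.comm_one_two hx hy h1 h2]
    have r1 : IsRoot cs h (x + y) := by
      have := isRoot_add hy hx h1
      rwa [add_comm] at this
    have r2 : IsRoot cs h (x + (2 : ℤ) • y) := isRoot_add_smul hx hy h2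
    exact mul_mem (RGD.le_Sup (show x + y ∈ Cm cs h x y from ⟨r1, hp', Or.inl rfl⟩) (D.u_mem r1))
      (RGD.le_Sup (show x + (2 : ℤ) • y ∈ Cm cs h x y from ⟨r2, hp', Or.inr (Or.inr rfl)⟩) (D.u_mem r2))
  · rw [D.comm_two_one hx hy h1 h2]
    have r1 : IsRoot cs h (x + y) := isRoot_add hx hy h2
    have r2 : IsRoot cs h ((2 : ℤ) • x + y) := by
      have := isRoot_add_smul hy hx h1
      rwa [add_comm] at this
    exact mul_mem (RGD.le_Sup (show x + y ∈ Cm cs h x y from ⟨r1, hp', Or.inl rfl⟩) (D.u_mem r1))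
      (RGD.le_Sup (show (2 : ℤ) • x + y ∈ Cm cs h x y from ⟨r2, hp', Or.inr (Or.inl rfl)⟩) (D.u_mem r2))

/-- the commutator of two root groups at an obtuse angle: the leading term is `u (x + y)` -/
theorem Dat.comm_lead [Finite W] {x y : I → ℤ} (hx : IsRoot cs h x) (hy : IsRoot cs h y) (hne' : x ≠ -y)
    (hp : cpr cs h y x < 0) : IsRoot cs h (x + y) ∧ ∃ z, (z = (2 : ℤ) • x + y ∨ z = x + (2 : ℤ) • y) ∧
      (⁅u X x, u X y⁆ = u X (x + y) ∨ (IsRoot cs h z ∧ ⁅u X x, u X y⁆ = u X (x + y) * u X z)) := by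
  rcases neg_cases D.six hx hy hne' hp with ⟨h1, h2⟩ | ⟨h1, h2⟩ | ⟨h1, h2⟩
  · exact ⟨isRoot_add hx hy h2, _, Or.inl rfl, Or.inl (D.comm_one_one hx hy h1 h2)⟩
  · refine ⟨?_, _, Or.inr rfl, Or.inr ⟨isRoot_add_smul hx hy h2, D.comm_one_two hx hy h1 h2⟩⟩
    have := isRoot_add hy hx h1
    rwa [add_comm] at this
  · refine ⟨isRoot_add hx hy h2, _, Or.inl rfl, Or.inr ⟨?_, D.comm_two_one hx hy h1 h2⟩⟩
    have := isRoot_add_smul hy hx h1
    rwa [add_comm] at this

end

end Cfsg.Agent.Omega.EH3.Kf.Two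

end

section


/-!
# The row `C₃(4,4,2)`: angle 135 degrees (helper635)

`m` long, `x` short, `⟨m, x^∨⟩ = -2`, `⟨x, m^∨⟩ = -1`; `T` centralises `X m`, `X (m + 2x)` and is transitive on the
nontrivial elements of `X x`, `|X x| > 2`:  `⁅v, u⁆ ∉ X (m + 2x)` for `1 ≠ v ∈ X m`, `1 ≠ u ∈ X x`.
-/

set_option autoImplicit false
set_option linter.unusedSectionVars false

namespace Cfsg.Agent.Omega.EH3Close.CThree

open CoxeterSystem Cfsg.Agent.ChevalleyStructure.CoxeterGeom Cfsg.Agent.Tits.Roots Cfsg.Agent.Tits.Core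
  Cfsg.Agent.Tits.RootComb Cfsg.Agent.Nodes.Comb Cfsg.Agent.Nodes.Reps Cfsg.Agent.Nodes.BNOf
  Cfsg.Agent.Nodes.RGDLib Cfsg.Agent.Nodes.SubComb Cfsg.Agent.Nodes.Sub Cfsg.Agent.Nodes.PosPair
  Cfsg.Agent.Nodes.ZFam Cfsg.Agent.Nodes.Coroot Cfsg.Agent.Nodes.PairOf Cfsg.Agent.Nodes.MuSq
  Cfsg.Agent.Nodes.OppDec Cfsg.Agent.Nodes.ShortSum Cfsg.Agent.Omega.EH3.Kf.Two
open scoped commutatorElement

variable {I W Y : Type*} [Fintype I] [DecidableEq I] [Group W] [Group Y] {M : CoxeterMatrix I}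
  {cs : CoxeterSystem M W} {A : I → I → ℤ} {h : IsCartan M A} {p : ℕ} {T : Subgroup Y} {n : I → Y}
  {X : (I → ℤ) → Subgroup Y}

/-- acute angle: the root groups commute -/
theorem comm_pos [Finite W] (R : RGD cs h p T n X) (h6 : ∀ i j, M i j ≠ 6) {x y : I → ℤ} (hx : IsRoot cs h x)
    (hy : IsRoot cs h y) (hne : x ≠ y) (hp : 0 < cpr cs h y x) : ∀ u ∈ X x, ∀ v ∈ X y, u * v = v * u := by
  intro u hu v hv
  exact commutatorElement_eq_one_iff_mul_comm.1
    (comm_of_no_btwn R hx hy hne (ne_neg_of_cpr hx (by omega)) (not_btwn_of_pos h6 hx hy hne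
      (ne_neg_of_cpr hx (by omega)) hp) u hu v hv)

theorem exists_two {K : Subgroup Y} (h4 : 2 < Nat.card K) (u : Y) :
    ∃ u' ∈ K, u' ≠ 1 ∧ u * u' ≠ 1 := by
  classical
  by_contra hcon
  push Not at hcon
  have : Nat.card K ≤ 2 := by
    have hsub : (K : Set Y) ⊆ ({1, u⁻¹} : Set Y) := by
      intro g hg
      by_cases h1 : g = 1
      · left; exact h1
      · right
        exact eq_inv_of_mul_eq_one_right (hcon g hg h1)
    have h1 := Set.ncard_le_ncard hsub (Set.toFinite _)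
    have h2 : Set.ncard ({1, u⁻¹} : Set Y) ≤ 2 := Set.ncard_insert_le _ _ |>.trans (by rw [Set.ncard_singleton])
    have h3 : Set.ncard (K : Set Y) = Nat.card K := rfl
    omega
  omega

/-- **(F3)** -/
theorem not_mem_long [Finite W] (R : RGD cs h p T n X) (h6 : ∀ i j, M i j ≠ 6) {m x : I → ℤ} (hm : IsRoot cs h m)
    (hx : IsRoot cs h x) (c1 : cpr cs h m x = -2) (c2 : cpr cs h x m = -1)
    (hTm : ∀ t ∈ T, ∀ v ∈ X m, t * v = v * t) (hTz : ∀ t ∈ T, ∀ v ∈ X (m + (2 : ℤ) • x), t * v = v * t)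
    (hTx : ∀ u ∈ X x, u ≠ 1 → ∀ u' ∈ X x, u' ≠ 1 → ∃ t ∈ T, t * u * t⁻¹ = u')
    (h4 : 2 < Nat.card (X x)) {v u : Y} (hv : v ∈ X m) (hv1 : v ≠ 1) (hu : u ∈ X x) (hu1 : u ≠ 1) :
    v * u * v⁻¹ * u⁻¹ ∉ X (m + (2 : ℤ) • x) := by
  intro hc
  have := Fintype.ofFinite W
  have hz : IsRoot cs h (m + (2 : ℤ) • x) := isRoot_add_smul hm hx c1
  have hxm : x ≠ m := by
    rintro rfl
    rw [cpr_self cs h hx] at c1; omega
  have hmx' : m ≠ -x := ne_neg_of_cpr hm (by omega)
  have hxm' : x ≠ -m := fun e => hmx' (by rw [e, neg_neg])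
  have hxz : x ≠ m + (2 : ℤ) • x := by
    intro e
    apply hmx'
    have : m = (m + (2 : ℤ) • x) - (2 : ℤ) • x := by abel
    rw [this, ← e]; module
  have hcz : ∀ w ∈ X x, ∀ c ∈ X (m + (2 : ℤ) • x), w * c = c * w := comm_pos R h6 hx hz hxz (by
    rw [cpr_add cs h _ _ hx, cpr_smul cs h _ _ hx, cpr_self cs h hx, c1]; norm_num)
  -- all the commutators are the same
  have key : ∀ w ∈ X x, w ≠ 1 → v * w * v⁻¹ * w⁻¹ = v * u * v⁻¹ * u⁻¹ := by
    intro w hw hw1
    obtain ⟨t, ht, e⟩ := hTx u hu hu1 w hw hw1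
    have e1 : t * v * t⁻¹ = v := by rw [hTm t ht v hv, mul_inv_cancel_right]
    have e2 : t * (v * u * v⁻¹ * u⁻¹) * t⁻¹ = v * u * v⁻¹ * u⁻¹ := by
      rw [hTz t ht _ hc, mul_inv_cancel_right]
    rw [← e2, ← e]
    calc v * (t * u * t⁻¹) * v⁻¹ * (t * u * t⁻¹)⁻¹
        = (t * v * t⁻¹) * (t * u * t⁻¹) * (t * v * t⁻¹)⁻¹ * (t * u * t⁻¹)⁻¹ := by rw [e1]
      _ = _ := by group
  obtain ⟨u', hu', hu1', huu⟩ := exists_two h4 u
  set c : Y := v * u * v⁻¹ * u⁻¹ with hcdef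
  have h1 := key _ (mul_mem hu hu') huu
  have h2 := key _ hu' hu1'
  have h3 : v * (u * u') * v⁻¹ * (u * u')⁻¹ = c * (u * (v * u' * v⁻¹ * u'⁻¹) * u⁻¹) := by
    rw [hcdef]; group
  rw [h3, h2, hcz u hu c hc, mul_inv_cancel_right] at h1
  have hc1 : c = 1 := mul_eq_left.1 h1
  have hcomm : u * v = v * u := by
    have h5 : v * u = c * (u * v) := by rw [hcdef]; group
    rw [h5, hc1, one_mul]
  apply hv1
  refine Cfsg.Agent.Nodes.MuSq.eq_one_of_comm R hx hm hxm hxm' ?_ (by rw [c1]; norm_num) hu hu1 hv hcomm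
  refine not_btwn_of_pos h6 hx.neg hm (fun e => hxm' (by rw [← e, neg_neg])) (fun e => hxm (neg_injective e)) ?_
  rw [cpr_neg_right cs h m hx, c1]; norm_num

end Cfsg.Agent.Omega.EH3Close.CThree

end

section


/-!
# The row `C₃(4,4,2)`: group theory (helper635)

* `exists_cent` : a nontrivial 2-group normalised by a 2-group contains a nontrivial element centralised by it;
* `heis` : centres of `⟨A, B, Z⟩`, `[A, B] ≤ Z`;
* `card_sq_le` : an abelian subgroup `A` of `E`, `[E, E] ≤ ⟨z⟩ = Z(E)`, has `|A|² ≤ 2 |E|`;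
* `main_abs` : a normal subgroup of `U = (γ F) E` not contained in `E` contains elements of `β E` and `θ`.
-/

set_option autoImplicit false

namespace Cfsg.Agent.Omega.EH3Close.CThree

open Subgroup

variable {Y : Type*} [Group Y]

/-- conjugation action on a subgroup -/
@[reducible] def conjAct {H K : Subgroup Y} (hK : ∀ h ∈ H, ∀ k ∈ K, h * k * h⁻¹ ∈ K) : MulAction H K where
  smul h k := ⟨h * k * (h : Y)⁻¹, hK h h.2 k k.2⟩
  one_smul k := Subtype.ext (by show (1 : Y) * k * (1 : Y)⁻¹ = k; group)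
  mul_smul g h k := Subtype.ext (by show (g * h : Y) * k * (g * h : Y)⁻¹ = g * (h * k * (h : Y)⁻¹) * (g : Y)⁻¹; group)

theorem exists_cent [Finite Y] {H K : Subgroup Y} (hH : IsPGroup 2 H) (hK2 : IsPGroup 2 K)
    (hK : ∀ h ∈ H, ∀ k ∈ K, h * k * h⁻¹ ∈ K) (hne : K ≠ ⊥) : ∃ k ∈ K, k ≠ 1 ∧ ∀ h ∈ H, h * k = k * h := by
  have : Fact (Nat.Prime 2) := ⟨Nat.prime_two⟩
  let _ := conjAct hK
  have h1 : (1 : K) ∈ MulAction.fixedPoints H K := by
    intro h
    exact Subtype.ext (by show (h : Y) * 1 * (h : Y)⁻¹ = 1; group)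
  have h2 : 2 ∣ Nat.card K := by
    obtain ⟨n, hn⟩ := IsPGroup.iff_card.1 hK2
    rcases Nat.eq_zero_or_pos n with h0 | h0
    · exfalso
      rw [h0, pow_zero] at hn
      exact hne (Subgroup.card_eq_one.1 hn)
    · rw [hn]; exact dvd_pow_self 2 (by omega)
  obtain ⟨k, hk, hk1⟩ := hH.exists_fixed_point_of_prime_dvd_card_of_fixed_point K h2 h1
  refine ⟨k, k.2, fun h => hk1 (Subtype.ext h).symm, fun h hh => ?_⟩
  have h3 : (h * k * h⁻¹ : Y) = k := congrArg Subtype.val (hk ⟨h, hh⟩)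
  calc h * k = h * k * h⁻¹ * h := by group
    _ = k * h := by rw [h3]

theorem mem_sup_of {A N : Subgroup Y} (h : ∀ a ∈ A, ∀ b ∈ N, a * b * a⁻¹ ∈ N) {u : Y} (hu : u ∈ A ⊔ N) :
    ∃ a ∈ A, ∃ w ∈ N, u = a * w := by
  let S : Subgroup Y :=
    { carrier := {u | ∃ a ∈ A, ∃ w ∈ N, u = a * w}
      one_mem' := ⟨1, one_mem _, 1, one_mem _, by simp⟩
      mul_mem' := by
        rintro _ _ ⟨a, ha, w, hw, rfl⟩ ⟨b, hb, v, hv, rfl⟩
        have h1 := h b⁻¹ (inv_mem hb) w hw
        rw [inv_inv] at h1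
        exact ⟨a * b, mul_mem ha hb, b⁻¹ * w * b * v, mul_mem h1 hv, by group⟩
      inv_mem' := by
        rintro _ ⟨a, ha, w, hw, rfl⟩
        exact ⟨a⁻¹, inv_mem ha, a * w⁻¹ * a⁻¹, h a ha _ (inv_mem hw), by group⟩ }
  have : A ⊔ N ≤ S :=
    sup_le (fun a ha => ⟨a, ha, 1, one_mem _, by simp⟩) (fun b hb => ⟨1, one_mem _, b, hb, by simp⟩)
  exact this hu

/-- `P = ⟨A, B, Z⟩`, `A`, `B` abelian, `Z` central, `[A, B] ≤ Z`: an element of `P` is `a b z` -/
theorem exists_abz {A B Z : Subgroup Y} (hZA : ∀ z ∈ Z, ∀ a ∈ A, z * a = a * z) (hZB : ∀ z ∈ Z, ∀ b ∈ B, z * b = b * z)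
    (hAB : ∀ a ∈ A, ∀ b ∈ B, a * b * a⁻¹ * b⁻¹ ∈ Z) {p : Y} (hp : p ∈ A ⊔ (B ⊔ Z)) :
    ∃ a ∈ A, ∃ b ∈ B, ∃ z ∈ Z, p = a * b * z := by
  have h1 : ∀ b ∈ B, ∀ z ∈ Z, b * z * b⁻¹ ∈ Z := by
    intro b hb z hz
    rw [← hZB z hz b hb, mul_inv_cancel_right]; exact hz
  obtain ⟨a, ha, w, hw, rfl⟩ := mem_sup_of (A := A) (N := B ⊔ Z) (by
    intro a ha w hw
    obtain ⟨b, hb, z, hz, rfl⟩ := mem_sup_of h1 hw
    have e : a * (b * z) * a⁻¹ = (a * b * a⁻¹ * b⁻¹) * b * (a * z * a⁻¹) := by group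
    have e2 : a * z * a⁻¹ = z := by rw [← hZA z hz a ha, mul_inv_cancel_right]
    rw [e, e2]
    exact mul_mem (mul_mem (mem_sup_right (hAB a ha b hb)) (mem_sup_left hb)) (mem_sup_right hz)) hp
  obtain ⟨b, hb, z, hz, rfl⟩ := mem_sup_of h1 hw
  exact ⟨a, ha, b, hb, z, hz, by group⟩

/-- the centre of `⟨A, B, Z⟩` -/
theorem heis {A B Z : Subgroup Y} (hZA : ∀ z ∈ Z, ∀ a ∈ A, z * a = a * z) (hZB : ∀ z ∈ Z, ∀ b ∈ B, z * b = b * z)
    (hB : ∀ b ∈ B, ∀ b' ∈ B, b * b' = b' * b)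
    (hAB : ∀ a ∈ A, ∀ b ∈ B, a * b * a⁻¹ * b⁻¹ ∈ Z) (hA1 : ∀ a ∈ A, a ≠ 1 → ∃ b ∈ B, a * b ≠ b * a)
    (hB1 : ∀ b ∈ B, b ≠ 1 → ∃ a ∈ A, b * a ≠ a * b) {p : Y} (hp : p ∈ A ⊔ (B ⊔ Z))
    (h1 : ∀ a ∈ A, p * a = a * p) (h2 : ∀ b ∈ B, p * b = b * p) : p ∈ Z := by
  obtain ⟨a, ha, b, hb, z, hz, rfl⟩ := exists_abz hZA hZB hAB hp
  have ea : a = 1 := by
    by_contra hne
    obtain ⟨b', hb', hc⟩ := hA1 a ha hne
    apply hc
    have h3 := h2 b' hb'
    have e1 : a * b * z * b' = a * b' * (b * z) := by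
      calc a * b * z * b' = a * b * (z * b') := by group
        _ = a * b * (b' * z) := by rw [hZB z hz b' hb']
        _ = a * (b * b') * z := by group
        _ = a * (b' * b) * z := by rw [hB b hb b' hb']
        _ = _ := by group
    rw [e1, show b' * (a * b * z) = b' * a * (b * z) by group] at h3
    exact mul_right_cancel h3
  subst ea
  have eb : b = 1 := by
    by_contra hne
    obtain ⟨a', ha', hc⟩ := hB1 b hb hne
    apply hc
    have h3 := h1 a' ha'
    have e1 : 1 * b * z * a' = b * a' * z := by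
      calc 1 * b * z * a' = b * (z * a') := by group
        _ = b * (a' * z) := by rw [hZA z hz a' ha']
        _ = _ := by group
    rw [e1, show a' * (1 * b * z) = a' * b * z by group] at h3
    exact mul_right_cancel h3
  subst eb
  rw [one_mul, one_mul]; exact hz

/-- the product of two commuting groups -/
theorem heis_mul {P P' Z : Subgroup Y} (hPP : ∀ p ∈ P, ∀ p' ∈ P', p * p' = p' * p)
    (h1 : ∀ p ∈ P, (∀ a ∈ P, p * a = a * p) → p ∈ Z) (h2 : ∀ p ∈ P', (∀ a ∈ P', p * a = a * p) → p ∈ Z)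
    {e : Y} (he : e ∈ P ⊔ P') (hc : ∀ e' ∈ P ⊔ P', e * e' = e' * e) : e ∈ Z := by
  obtain ⟨p, hp, p', hp', rfl⟩ := mem_sup_of (A := P) (N := P') (by
    intro p hp p' hp'
    rw [hPP p hp p' hp', mul_inv_cancel_right]; exact hp') he
  refine mul_mem (h1 p hp fun a ha => ?_) (h2 p' hp' fun a ha => ?_)
  · have h3 := hc a (mem_sup_left ha)
    have e1 : p * p' * a = p * a * p' := by rw [mul_assoc, ← hPP a ha p' hp', ← mul_assoc]
    rw [e1, show a * (p * p') = a * p * p' by group] at h3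
    exact mul_right_cancel h3
  · have h3 := hc a (mem_sup_right ha)
    have e1 : a * (p * p') = p * (a * p') := by rw [← mul_assoc, ← hPP p hp a ha, mul_assoc]
    rw [e1, mul_assoc] at h3
    exact mul_left_cancel h3

/-- **The bound for abelian subgroups.** -/
theorem card_sq_le [Finite Y] {E A : Subgroup Y} {z : Y} (hz : z ≠ 1) (hz2 : z * z = 1) (hzE : ∀ e ∈ E, z * e = e * z)
    (hc : ∀ e ∈ E, ∀ e' ∈ E, e * e' = e' * e ∨ e * e' = e' * e * z) (hA : A ≤ E)
    (hab : ∀ a ∈ A, ∀ b ∈ A, a * b = b * a) (hcen : ∀ e ∈ E, (∀ e' ∈ E, e * e' = e' * e) → e = 1 ∨ e = z) :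
    Nat.card A * Nat.card A ≤ 2 * Nat.card E := by
  classical
  have : Fintype Y := Fintype.ofFinite Y
  have : Fintype E := Fintype.ofFinite E
  have : Fintype A := Fintype.ofFinite A
  -- the characters
  have hne : ∀ e ∈ E, ∀ e' ∈ E, e * e' = e' * e → e * e' ≠ e' * e * z := by
    intro e _ e' _ h1 h2
    rw [h1] at h2
    exact hz (left_eq_mul.1 h2)
  let χ : A → (E →* ℤ) := fun a =>
    { toFun := fun e => if (e : Y) * a = a * e then 1 else -1
      map_one' := by simp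
      map_mul' := by
        intro e e'
        rcases hc e e.2 a (hA a.2) with h1 | h1 <;> rcases hc e' e'.2 a (hA a.2) with h2 | h2
        · rw [if_pos h1, if_pos h2, if_pos, one_mul]
          show (e * e' : Y) * a = a * (e * e' : Y)
          rw [mul_assoc, h2, ← mul_assoc, h1, mul_assoc]
        · rw [if_pos h1, if_neg (fun h => hne e' e'.2 a (hA a.2) h h2), if_neg, one_mul]
          intro h3
          change (e * e' : Y) * a = a * (e * e' : Y) at h3
          have h4 : (e * e' : Y) * a = a * (e * e' : Y) * z := by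
            calc (e * e' : Y) * a = e * (e' * a) := by group
              _ = e * (a * e' * z) := by rw [h2]
              _ = (e * a) * e' * z := by group
              _ = _ := by rw [h1]; group
          exact hne _ (mul_mem e.2 e'.2) a (hA a.2) h3 h4
        · rw [if_neg (fun h => hne e e.2 a (hA a.2) h h1), if_pos h2, if_neg, mul_one]
          intro h3
          change (e * e' : Y) * a = a * (e * e' : Y) at h3
          have h4 : (e * e' : Y) * a = a * (e * e' : Y) * z := by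
            calc (e * e' : Y) * a = e * (e' * a) := by group
              _ = (e * a) * e' := by rw [h2]; group
              _ = a * e * (z * e') := by rw [h1]; group
              _ = _ := by rw [hzE e' e'.2]; group
          exact hne _ (mul_mem e.2 e'.2) a (hA a.2) h3 h4
        · rw [if_neg (fun h => hne e e.2 a (hA a.2) h h1), if_neg (fun h => hne e' e'.2 a (hA a.2) h h2), if_pos,
            neg_mul_neg, one_mul]
          show (e * e' : Y) * a = a * (e * e' : Y)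
          calc (e * e' : Y) * a = e * (e' * a) := by group
              _ = (e * a) * e' * z := by rw [h2]; group
              _ = a * e * (z * e') * z := by rw [h1]; group
              _ = a * e * e' * (z * z) := by rw [hzE e' e'.2]; group
              _ = _ := by rw [hz2]; group }
  have hχ : ∀ (a : A) (e : E), χ a e = if (e : Y) * a = a * e then 1 else -1 := fun _ _ => rfl
  have hsum : ∀ a : A, ((a : Y) ≠ 1 ∧ (a : Y) ≠ z) → ∑ e : E, χ a e = 0 := by
    intro a ha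
    refine sum_hom_units_eq_zero (χ a) fun h => ?_
    rcases hcen a (hA a.2) (fun e' he' => by
      have h1 : χ a ⟨e', he'⟩ = 1 := by rw [h]; rfl
      rw [hχ] at h1
      by_contra hcon
      rw [if_neg (fun h2 => hcon h2.symm)] at h1
      exact absurd h1 (by decide)) with h1 | h1
    · exact ha.1 h1
    · exact ha.2 h1
  have hbig : ∀ a : A, ∑ e : E, χ a e ≤ Nat.card E := by
    intro a
    calc ∑ e : E, χ a e ≤ ∑ _e : E, (1 : ℤ) := by
          refine Finset.sum_le_sum fun e _ => ?_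
          rw [hχ]; split_ifs <;> norm_num
      _ = Nat.card E := by simp
  -- upper bound
  have hup : ∑ a : A, ∑ e : E, χ a e ≤ 2 * Nat.card E := by
    have h1 : ∀ a : A, ∑ e : E, χ a e ≤ if ((a : Y) = 1 ∨ (a : Y) = z) then (Nat.card E : ℤ) else 0 := by
      intro a
      split_ifs with h
      · exact hbig a
      · push Not at h
        exact le_of_eq (hsum a h)
    refine (Finset.sum_le_sum fun a _ => h1 a).trans ?_
    rw [← Finset.sum_filter, Finset.sum_const, nsmul_eq_mul]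
    refine mul_le_mul_of_nonneg_right ?_ (by positivity)
    have h2 : (Finset.univ.filter fun a : A => (a : Y) = 1 ∨ (a : Y) = z).card ≤ ({1, z} : Finset Y).card := by
      refine Finset.card_le_card_of_injOn (fun a => (a : Y)) ?_ (fun _ _ _ _ h => Subtype.ext h)
      intro a ha
      simpa using ha
    have h3 : ({1, z} : Finset Y).card ≤ 2 := Finset.card_le_two
    exact_mod_cast h2.trans h3
  -- lower bound
  have hlow : (Nat.card A : ℤ) * Nat.card A ≤ ∑ a : A, ∑ e : E, χ a e := by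
    rw [Finset.sum_comm]
    -- for fixed `e` the sum over `a` is nonnegative, and `|A|` for `e ∈ A`
    have h1 : ∀ e : E, 0 ≤ ∑ a : A, χ a e := by
      intro e
      let ψ : A →* ℤ :=
        { toFun := fun a => χ a e
          map_one' := by rw [hχ]; simp
          map_mul' := by
            intro a a'
            rw [hχ, hχ, hχ]
            rcases hc e e.2 a (hA a.2) with h1 | h1 <;> rcases hc e e.2 a' (hA a'.2) with h2 | h2
            · rw [if_pos h1, if_pos h2, if_pos, one_mul]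
              show (e : Y) * (a * a' : Y) = (a * a' : Y) * e
              rw [← mul_assoc, h1, mul_assoc, h2, mul_assoc]
            · rw [if_pos h1, if_neg (fun h => hne e e.2 a' (hA a'.2) h h2), if_neg, one_mul]
              intro h3
              change (e : Y) * (a * a' : Y) = (a * a' : Y) * e at h3
              refine hne _ e.2 _ (mul_mem (hA a.2) (hA a'.2)) h3 ?_
              calc (e : Y) * (a * a') = (e * a) * a' := by group
                _ = a * (e * a') := by rw [h1]; group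
                _ = _ := by rw [h2]; group
            · rw [if_neg (fun h => hne e e.2 a (hA a.2) h h1), if_pos h2, if_neg, mul_one]
              intro h3
              change (e : Y) * (a * a' : Y) = (a * a' : Y) * e at h3
              refine hne _ e.2 _ (mul_mem (hA a.2) (hA a'.2)) h3 ?_
              calc (e : Y) * (a * a') = (e * a) * a' := by group
                _ = a * e * (z * a') := by rw [h1]; group
                _ = a * (e * a') * z := by rw [hzE a' (hA a'.2)]; group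
                _ = _ := by rw [h2]; group
            · rw [if_neg (fun h => hne e e.2 a (hA a.2) h h1), if_neg (fun h => hne e e.2 a' (hA a'.2) h h2),
                if_pos, neg_mul_neg, one_mul]
              show (e : Y) * (a * a' : Y) = (a * a' : Y) * e
              calc (e : Y) * (a * a') = (e * a) * a' := by group
                _ = a * e * (z * a') := by rw [h1]; group
                _ = a * (e * a') * z := by rw [hzE a' (hA a'.2)]; group
                _ = a * a' * e * (z * z) := by rw [h2]; group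
                _ = _ := by rw [hz2]; group }
      have h2 : ∑ a : A, χ a e = ∑ a : A, ψ a := rfl
      by_cases h3 : ψ = 1
      · rw [h2, h3]
        exact Finset.sum_nonneg fun a _ => by rw [MonoidHom.one_apply]; norm_num
      · rw [h2, sum_hom_units_eq_zero ψ h3]
    have h2 : ∑ e : E, (if (e : Y) ∈ A then (Nat.card A : ℤ) else 0) ≤ ∑ e : E, ∑ a : A, χ a e := by
      refine Finset.sum_le_sum fun e _ => ?_
      split_ifs with h
      · refine le_of_eq ?_
        have h3 : ∀ a : A, χ a e = 1 := fun a => by rw [hχ, if_pos (hab e h a a.2)]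
        rw [Finset.sum_congr rfl fun a _ => h3 a]
        simp
      · exact h1 e
    refine le_trans (le_of_eq ?_) h2
    rw [← Finset.sum_filter, Finset.sum_const, nsmul_eq_mul]
    congr 1
    have h3 : (Finset.univ.filter fun e : E => (e : Y) ∈ A).card = Nat.card A := by
      rw [Nat.card_eq_fintype_card, ← Finset.card_univ]
      refine Finset.card_bij' (fun e he => ⟨(e : Y), by simpa using he⟩) (fun a _ => ⟨(a : Y), hA a.2⟩)
        (by simp) (by intro a _; simp) (by intro e _; rfl) (by intro a _; rfl)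
    exact_mod_cast h3.symm
  have := hlow.trans hup
  exact_mod_cast this

/-- **The main argument.** -/
theorem main_abs [Finite Y] {U E F UJ Γ β θ N : Subgroup Y} (hU2 : IsPGroup 2 U) (hEU : E ≤ U) (hUJU : UJ ≤ U)
    (hFUJ : F ≤ UJ) (hE : ∀ u ∈ U, ∀ e ∈ E, u * e * u⁻¹ ∈ E) (hU : ∀ g ∈ U, ∃ u ∈ UJ, ∃ e ∈ E, g = u * e)
    (hF : ∀ u ∈ UJ, ∀ f ∈ F, u * f * u⁻¹ ∈ F) (hUJ : ∀ u ∈ UJ, ∃ v ∈ Γ, ∃ f ∈ F, u = v * f)
    (ZE : ∀ e ∈ E, (∀ e' ∈ E, e * e' = e' * e) → e ∈ θ) (ZF : ∀ f ∈ F, (∀ f' ∈ F, f * f' = f' * f) → f ∈ β)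
    (cE : ∀ x ∈ E, ∀ y ∈ E, x * y * x⁻¹ * y⁻¹ ∈ θ) (cF : ∀ x ∈ F, ∀ y ∈ F, x * y * x⁻¹ * y⁻¹ ∈ β)
    (hγ : ∀ v ∈ Γ, v ≠ 1 → ∃ u ∈ F, v * u * v⁻¹ * u⁻¹ ∉ β) (hβ : ∀ x ∈ β, x ≠ 1 → ∃ u ∈ E, x * u * x⁻¹ * u⁻¹ ∉ θ)
    (hNU : N ≤ U) (hN : ∀ u ∈ U, ∀ x ∈ N, u * x * u⁻¹ ∈ N) (hNE : ¬ N ≤ E) :
    ∃ x ∈ β, x ≠ 1 ∧ ∃ y ∈ E, x * y ∈ N ∧ ∃ z ∈ θ, z ≠ 1 ∧ z ∈ N := by
  have hE' : ∀ u ∈ UJ, ∀ e ∈ E, u⁻¹ * e * u ∈ E := by
    intro u hu e he
    have := hE u⁻¹ (inv_mem (hUJU hu)) e he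
    rwa [inv_inv] at this
  let N' : Subgroup Y :=
    { carrier := {u | u ∈ UJ ∧ ∃ e ∈ E, u * e ∈ N}
      one_mem' := ⟨one_mem _, 1, one_mem _, by rw [mul_one]; exact one_mem _⟩
      mul_mem' := by
        rintro u u' ⟨hu, e, he, h1⟩ ⟨hu', e', he', h2⟩
        refine ⟨mul_mem hu hu', u'⁻¹ * e * u' * e', mul_mem (hE' u' hu' e he) he', ?_⟩
        have : u * u' * (u'⁻¹ * e * u' * e') = (u * e) * (u' * e') := by group
        rw [this]; exact mul_mem h1 h2
      inv_mem' := by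
        rintro u ⟨hu, e, he, h1⟩
        refine ⟨inv_mem hu, u * e⁻¹ * u⁻¹, hE u (hUJU hu) _ (inv_mem he), ?_⟩
        have : u⁻¹ * (u * e⁻¹ * u⁻¹) = (u * e)⁻¹ := by group
        rw [this]; exact inv_mem h1 }
  have hN' : ∀ w ∈ UJ, ∀ u ∈ N', w * u * w⁻¹ ∈ N' := by
    rintro w hw u ⟨hu, e, he, h1⟩
    refine ⟨mul_mem (mul_mem hw hu) (inv_mem hw), w * e * w⁻¹, hE w (hUJU hw) e he, ?_⟩
    have : w * u * w⁻¹ * (w * e * w⁻¹) = w * (u * e) * w⁻¹ := by group
    rw [this]; exact hN w (hUJU hw) _ h1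
  have hF2 : IsPGroup 2 F := hU2.to_le (hFUJ.trans hUJU)
  have hE2 : IsPGroup 2 E := hU2.to_le hEU
  -- a nontrivial element of `β` in `N'`
  obtain ⟨x, hxβ, hx1, hxN⟩ : ∃ x ∈ β, x ≠ 1 ∧ x ∈ N' := by
    by_cases hK : N' ⊓ F = ⊥
    · exfalso
      obtain ⟨g, hg, hgE⟩ := SetLike.not_le_iff_exists.1 hNE
      obtain ⟨u, hu, e, he, rfl⟩ := hU g (hNU hg)
      have huN : u ∈ N' := ⟨hu, e, he, hg⟩
      have hu1 : u ≠ 1 := by
        rintro rfl
        rw [one_mul] at hgE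
        exact hgE he
      have hcom : ∀ f ∈ F, u * f = f * u := by
        intro f hf
        have h1 : u * f * u⁻¹ * f⁻¹ ∈ N' ⊓ F := by
          refine Subgroup.mem_inf.2 ⟨?_, mul_mem (hF u hu f hf) (inv_mem hf)⟩
          have : u * f * u⁻¹ * f⁻¹ = u * (f * u⁻¹ * f⁻¹) := by group
          rw [this]
          exact mul_mem huN (hN' f (hFUJ hf) _ (inv_mem huN))
        rw [hK, mem_bot] at h1
        calc u * f = (u * f * u⁻¹ * f⁻¹) * (f * u) := by group
          _ = f * u := by rw [h1, one_mul]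
      obtain ⟨v, hv, f, hf, rfl⟩ := hUJ u hu
      have hv1 : v ≠ 1 := by
        rintro rfl
        rw [one_mul] at huN hu1
        have : f ∈ N' ⊓ F := ⟨huN, hf⟩
        rw [hK, mem_bot] at this
        exact hu1 this
      obtain ⟨w, hw, hwn⟩ := hγ v hv hv1
      apply hwn
      have h2 := hcom (f⁻¹ * w * f) (mul_mem (mul_mem (inv_mem hf) hw) hf)
      have h3 : v * w * v⁻¹ = f⁻¹ * w * f := by
        calc v * w * v⁻¹ = (v * f) * (f⁻¹ * w * f) * (v * f)⁻¹ := by group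
          _ = (f⁻¹ * w * f) * (v * f) * (v * f)⁻¹ := by rw [h2]
          _ = _ := by group
      rw [h3]
      have h4 := cF f⁻¹ (inv_mem hf) w hw
      rwa [inv_inv] at h4
    · obtain ⟨k, hk, hk1, hk2⟩ := exists_cent hF2 (hF2.to_le inf_le_right) (K := N' ⊓ F) (by
        rintro f hf k ⟨hk, hkF⟩
        exact Subgroup.mem_inf.2 ⟨hN' f (hFUJ hf) k hk, mul_mem (mul_mem hf hkF) (inv_mem hf)⟩) hK
      exact ⟨k, ZF k hk.2 fun f hf => (hk2 f hf).symm, hk1, hk.1⟩
  obtain ⟨-, y, hy, hxy⟩ := hxN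
  refine ⟨x, hxβ, hx1, y, hy, hxy, ?_⟩
  by_cases hK : N ⊓ E = ⊥
  · exfalso
    obtain ⟨u, hu, hun⟩ := hβ x hxβ hx1
    apply hun
    have hcom : ∀ e ∈ E, x * y * e = e * (x * y) := by
      intro e he
      have h1 : (x * y) * e * (x * y)⁻¹ * e⁻¹ ∈ N ⊓ E := by
        refine Subgroup.mem_inf.2 ⟨?_, mul_mem (hE _ (hNU hxy) e he) (inv_mem he)⟩
        have : (x * y) * e * (x * y)⁻¹ * e⁻¹ = (x * y) * (e * (x * y)⁻¹ * e⁻¹) := by group
        rw [this]
        exact mul_mem hxy (hN e (hEU he) _ (inv_mem hxy))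
      rw [hK, mem_bot] at h1
      calc x * y * e = ((x * y) * e * (x * y)⁻¹ * e⁻¹) * (e * (x * y)) := by group
        _ = _ := by rw [h1, one_mul]
    have h2 := hcom (y⁻¹ * u * y) (mul_mem (mul_mem (inv_mem hy) hu) hy)
    have h3 : x * u * x⁻¹ = y⁻¹ * u * y := by
      calc x * u * x⁻¹ = (x * y * (y⁻¹ * u * y)) * (x * y)⁻¹ := by group
        _ = ((y⁻¹ * u * y) * (x * y)) * (x * y)⁻¹ := by rw [h2]
        _ = _ := by group
    rw [h3]
    have h4 := cE y⁻¹ (inv_mem hy) u hu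
    rwa [inv_inv] at h4
  · obtain ⟨k, hk, hk1, hk2⟩ := exists_cent hE2 (hE2.to_le inf_le_right) (K := N ⊓ E) (by
      rintro e he k ⟨hk, hkE⟩
      exact Subgroup.mem_inf.2 ⟨hN e (hEU he) k hk, mul_mem (mul_mem he hkE) (inv_mem he)⟩) hK
    exact ⟨k, ZE k hk.2 fun e he => (hk2 e he).symm, hk1, hk.1⟩

end Cfsg.Agent.Omega.EH3Close.CThree

end
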