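import Mathlib
import Cfsg.Agent.Mrg.Omega.EH3.Kf.InL
import Cfsg.Agent.Mrg.Omega.EH3.Irr.Main
import Cfsg.Agent.Omega.EH3.ETwo.Main
import Cfsg.Agent.Omega.EH3.Row
import Cfsg.Prelude.Def_LieTypeChar

section


/-!
# EH3, Lie rows: from the configuration to the output `Four` (helper227)

`L` normal quasisimple in `H`, `X ∩ C_H(L) = 1`:

* `Fam K` : `RowEH3 K ∨ KfRowU K` (the simple group `K` is dead for EH3 or has a row in the sense of KF);
* `four_of_kfRow` : if `V|L` is irreducible with `End_L(V) = F₂`, then `KfRowU L` gives `Four ρ a X`;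
* `End6 P` : for `w = 6` and `P (L/Z(L))` the shape `End_L(V) = F₄` does not occur;
* `four` : THEOREM IRR (`Irr.irr`) + `Irr.Shape.shape` + THEOREM E2 (`ETwo.Main.end_two`) + `RowOf.rowOf'` + the row.
-/

set_option autoImplicit false

namespace Cfsg.Agent.Omega.EH3.Kf.Main

open Subgroup Cfsg.Agent.ChevalleyStructure.CoxeterGeom Cfsg.Agent.Tits.Roots Cfsg.Agent.Tits.Core
  Cfsg.Agent.Nodes.RGDLib Cfsg.Agent.Nodes.BNOf
  Cfsg.Agent.Omega.EH3.Kf.Base Cfsg.Agent.Omega.EH3.Kf.Goal Cfsg.Agent.Omega.EH3.Kf.FamRow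
  Cfsg.Agent.Omega.EH3.Kf.FamRowU

universe u v

/-- the simple group `K` is dead for EH3 or has a row in the sense of KF -/
def Fam (K : Type v) [Group K] : Prop := RowEH3.{u} K ∨ KfRowU.{u} K

theorem Fam.of_row {K : Type v} [Group K] (h : RowEH3.{u} K) : Fam.{u} K := Or.inl h

theorem Fam.of_kfRow {K : Type v} [Group K] (h : KfRow.{u} K) : Fam.{u} K := Or.inr h.toU

theorem Fam.of_equiv {K : Type v} {K' : Type u} [Group K] [Group K'] (h : Fam.{u} K) (e : K ≃* K') : Fam.{u} K' :=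
  h.imp (fun h => h.equiv e.symm) (fun h => h.of_equiv e)

section cfg

variable {H V : Type u} [Group H] [AddCommGroup V] [Module (ZMod 2) V]
  {ρ : H →* (V ≃ₗ[ZMod 2] V)} {b : LinearMap.BilinForm (ZMod 2) V} {q : V → ZMod 2}
  {a : V} {D : Submodule (ZMod 2) V} {P : Subgroup H} {w : ℕ} {L : Subgroup H}

theorem center_eq_bot (hC : centralizer (L : Set H) = ⊥) : center L = ⊥ := by
  rw [eq_bot_iff]
  intro z hz
  rw [mem_bot]
  apply Subtype.ext
  have h1 : (z : H) ∈ centralizer (L : Set H) := by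
    rw [mem_centralizer_iff]
    intro l hl
    exact congrArg Subtype.val (mem_center_iff.1 hz ⟨l, hl⟩)
  rw [hC, mem_bot] at h1
  exact h1

/-- **The irreducible shape with `End = F₂`.** -/
theorem four_of_kfRow (C : Cfg ρ b q a D P w) (hL : L.Normal)
    (hirr : ∀ W : Submodule (ZMod 2) V, (∀ l ∈ L, ∀ v ∈ W, ρ l v ∈ W) → W = ⊥ ∨ W = ⊤)
    (hEnd : ∀ f : V →ₗ[ZMod 2] V, (∀ g ∈ L, ∀ v, f (ρ g v) = ρ g (f v)) → f = 0 ∨ f = LinearMap.id)
    (hK : KfRowU.{u} L) : Four ρ a P := by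
  obtain ⟨l, M, A, h, T, n, X, B, hR⟩ := hK
  have := B.fin
  have hfH := C.finite_H
  obtain ⟨g, hP, -, R⟩ := RowOf.rowOf' C B.rgd B.gen B.ab B.nd B.one hirr hEnd
  obtain ⟨q', i, G, E⟩ := hR.map (MulAut.conj g) V _ b a D _ w R
  refine four_of_end hL R ?_ (B.map (MulAut.conj g)).gen (RowOf.cent_eq_bot C hEnd) G E
  rw [subgroupOf_map_subtype]
  refine (inf_eq_left.2 fun x hx => ?_).symm
  obtain ⟨z, -, rfl⟩ := hP x hx
  exact z.2

end cfg

/-- **The shape `End_L(V) = F₄` does not occur for `w = 6`, `P (L/Z(L))`** (helper415). -/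
def End6 (Pr : ∀ (K : Type u) [Group K], Prop) : Prop :=
  ∀ (H V : Type u) [Group H] [AddCommGroup V] [Module (ZMod 2) V] (ρ : H →* (V ≃ₗ[ZMod 2] V))
    (b : LinearMap.BilinForm (ZMod 2) V) (q : V → ZMod 2) (a : V) (D : Submodule (ZMod 2) V) (P : Subgroup H)
    (L : Subgroup H), Cfg ρ b q a D P 6 → L.Normal → IsQuasisimple L → Odd (Nat.card (center L)) →
    P ⊓ centralizer (L : Set H) = ⊥ → Pr (L ⧸ center L) →
    (∀ W : Submodule (ZMod 2) V, (∀ l ∈ L, ∀ v ∈ W, ρ l v ∈ W) → W = ⊥ ∨ W = ⊤) →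
    ∀ f : V →ₗ[ZMod 2] V, (∀ l ∈ L, ∀ v, f (ρ l v) = ρ l (f v)) → f = 0 ∨ f = LinearMap.id

section main

variable {H V : Type u} [Group H] [AddCommGroup V] [Module (ZMod 2) V]
  {ρ : H →* (V ≃ₗ[ZMod 2] V)} {b : LinearMap.BilinForm (ZMod 2) V} {q : V → ZMod 2}
  {a : V} {D : Submodule (ZMod 2) V} {P : Subgroup H} {w : ℕ} {L : Subgroup H}

theorem commutator_eq {L : Subgroup H} (h : commutator L = ⊤) : ⁅L, L⁆ = L := by
  have h1 := congrArg (Subgroup.map L.subtype) h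
  rw [_root_.commutator_def, map_commutator, ← MonoidHom.range_eq_map, range_subtype] at h1
  exact h1

/-- **KF.** -/
theorem four {Pr : ∀ (K : Type u) [Group K], Prop} (e6 : End6 Pr) (hfam : ∀ (K : Type u) [Group K], Pr K → Fam.{u} K)
    (C : Cfg ρ b q a D P w) (hL : L.Normal) (hq : IsQuasisimple L) (ho : Odd (Nat.card (center L)))
    (hX : P ⊓ centralizer (L : Set H) = ⊥) (hK : Pr (L ⧸ center L)) : Four ρ a P := by
  have hperf : commutator L = ⊤ := hq.1.commutator_eq_top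
  rcases hfam _ hK with hF | hF
  · exfalso
    refine hF _ _ ρ b q a D P w L (QuotientGroup.mk' (center L)) hL ⟨hperf, QuotientGroup.mk'_surjective _, ?_, ?_⟩
      hX C
    · rw [QuotientGroup.ker_mk']
    · rw [QuotientGroup.ker_mk']
      exact ho
  · have hne : L ≠ ⊥ := by
      rintro rfl
      have := hq.2
      obtain ⟨x, y, hxy⟩ := this.exists_pair_ne
      exact hxy (Subsingleton.elim x y)
    have hirr := Irr.irr C hL (commutator_eq hperf) hne hX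
    have hEnd : ∀ f : V →ₗ[ZMod 2] V, (∀ l ∈ L, ∀ v, f (ρ l v) = ρ l (f v)) → f = 0 ∨ f = LinearMap.id := by
      rcases Nat.lt_or_ge w 7 with h7 | h7
      · obtain rfl : w = 6 := by have := C.six; omega
        exact e6 H V ρ b q a D P L C hL hq ho hX hK hirr
      · exact ETwo.Main.end_two C h7 hL hq hX hirr
    have hZ := center_eq_bot (RowOf.cent_eq_bot C hEnd)
    refine four_of_kfRow C hL hirr hEnd (hF.of_equiv ?_)
    refine (MulEquiv.ofBijective (QuotientGroup.mk' (center L)) ⟨?_, QuotientGroup.mk'_surjective _⟩).symm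
    rw [← MonoidHom.ker_eq_bot_iff, QuotientGroup.ker_mk', hZ]

end main

end Cfsg.Agent.Omega.EH3.Kf.Main

end

section


/-!
# EH3, Lie rows: the table of the families of characteristic 2 (helper227)

`Rows` : one field per family; `Rows.fam : IsLieTypeChar 2 K → Fam K`; `four_lie`.
-/

set_option autoImplicit false

namespace Cfsg.Agent.Omega.EH3.Kf.Table

open Cfsg Subgroup Cfsg.Agent.Omega.EH3.Kf.FamRow Cfsg.Agent.Omega.EH3.Kf.FamRowU Cfsg.Agent.Omega.EH3.Kf.Main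
  Cfsg.Agent.Omega.EH3.Kf.Goal

universe u

/-- The rows of the families of characteristic 2. -/
structure Rows : Prop where
  /-- `PSL_n(q)`, `n ≥ 3` -/
  psl : ∀ (F : Type) [Field F] [Fintype F] [CharP F 2] (n : ℕ), 3 ≤ n →
    Fam.{u} (Matrix.ProjectiveSpecialLinearGroup (Fin n) F)
  /-- `PSL_2(q)` -/
  psl2 : ∀ (F : Type) [Field F] [Fintype F] [CharP F 2], 4 ≤ Fintype.card F →
    Fam.{u} (Matrix.ProjectiveSpecialLinearGroup (Fin 2) F)
  psp : ∀ (F : Type) [Field F] [Fintype F] [CharP F 2] (m : ℕ), 2 ≤ m → (m = 2 → 3 ≤ Fintype.card F) →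
    Fam.{u} (PSp m F)
  /-- `PSU_{2m}(q)` -/
  psuEven : ∀ (F : Type) [Field F] [Fintype F] [CharP F 2] (m q : ℕ), Fintype.card F = q ^ 2 → 2 ≤ m →
    Fam.{u} (PSU (2 * m) F q)
  /-- `PSU_{2m+1}(q)`, `m ≥ 2` -/
  psuOdd : ∀ (F : Type) [Field F] [Fintype F] [CharP F 2] (m q : ℕ), Fintype.card F = q ^ 2 → 2 ≤ m →
    Fam.{u} (PSU (2 * m + 1) F q)
  /-- `PSU_3(q)` -/
  psu3 : ∀ (F : Type) [Field F] [Fintype F] [CharP F 2] (q : ℕ), Fintype.card F = q ^ 2 → q ≠ 2 →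
    Fam.{u} (PSU 3 F q)
  omp : ∀ (F : Type) [Field F] [Fintype F] [CharP F 2] (m : ℕ), 4 ≤ m → Fam.{u} (POmega F (quadFormPlus m F))
  omm : ∀ (F : Type) [Field F] [Fintype F] [CharP F 2] (m : ℕ) (a b : F), 4 ≤ m →
    (∀ z₁ z₂ : F, z₁ ^ 2 + a * z₁ * z₂ + b * z₂ ^ 2 = 0 → z₁ = 0 ∧ z₂ = 0) →
    Fam.{u} (POmega F (quadFormMinus (m - 1) F a b))
  g2 : ∀ (F : Type) [Field F] [Fintype F] [CharP F 2], 3 ≤ Fintype.card F → Fam.{u} (Lie.chevG2.group F)
  f4 : ∀ (F : Type) [Field F] [Fintype F] [CharP F 2], Fam.{u} (Lie.chevF4.group F)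
  e6 : ∀ (F : Type) [Field F] [Fintype F] [CharP F 2], Fam.{u} (Lie.chevE6.group F)
  e7 : ∀ (F : Type) [Field F] [Fintype F] [CharP F 2], Fam.{u} (Lie.chevE7.group F)
  e8 : ∀ (F : Type) [Field F] [Fintype F] [CharP F 2], Fam.{u} (Lie.chevE8.group F)
  /-- `²E₆(q)` -/
  twE6 : ∀ (F : Type) [Field F] [Fintype F] [CharP F 2] (q : ℕ), IsPrimePow q → Fintype.card F = q ^ 2 →
    Fam.{u} (Lie.twistedE6 F q)
  /-- `³D₄(q)` -/
  twD4 : ∀ (F : Type) [Field F] [Fintype F] [CharP F 2] (q : ℕ), IsPrimePow q → Fintype.card F = q ^ 3 →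
    Fam.{u} (Lie.twistedD4 F q)
  sz : ∀ (K : Type u) [Group K], Lie.IsoSuzuki K → Fam.{u} K
  ree : ∀ (K : Type u) [Group K], Lie.Iso2F4 K → Fam.{u} K

/-- **The table.** -/
theorem Rows.fam (R : Rows.{u}) (K : Type u) [Group K] (hK : IsLieTypeChar 2 K) : Fam.{u} K := by
  rcases hK with h | h | h | h | h | h | h | h | h | h | h
  · obtain ⟨F, _, _, _, n, hn, h2, ⟨e⟩⟩ := h
    rcases Nat.lt_or_ge n 3 with h3 | h3
    · obtain rfl : n = 2 := by omega
      exact (R.psl2 F (h2 rfl)).of_equiv e.symm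
    · exact (R.psl F n h3).of_equiv e.symm
  · obtain ⟨F, _, _, _, m, hm, h2, ⟨e⟩⟩ := h
    exact (R.psp F m hm h2).of_equiv e.symm
  · obtain ⟨F, _, _, _, n, q, hq, hn, h2, ⟨e⟩⟩ := h
    rcases Nat.lt_or_ge n 4 with h3 | h3
    · obtain rfl : n = 3 := by omega
      exact (R.psu3 F q hq fun h => h2 ⟨rfl, h⟩).of_equiv e.symm
    · rcases Nat.even_or_odd' n with ⟨m, rfl | rfl⟩
      · exact (R.psuEven F m q hq (by omega)).of_equiv e.symm
      · exact (R.psuOdd F m q hq (by omega)).of_equiv e.symm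
  · obtain ⟨F, _, _, _, m, -, ho, -⟩ := h
    exfalso
    have h1 : 2 ∣ Fintype.card F := by
      obtain ⟨n, -, hn⟩ := FiniteField.card F 2
      rw [hn]
      exact dvd_pow_self 2 n.2.ne'
    exact (Nat.not_even_iff_odd.2 ho) (even_iff_two_dvd.2 h1)
  · obtain ⟨F, _, _, _, m, hm, ⟨e⟩⟩ := h
    exact (R.omp F m hm).of_equiv e.symm
  · obtain ⟨F, _, _, _, m, a, b, hm, hab, ⟨e⟩⟩ := h
    exact (R.omm F m a b hm hab).of_equiv e.symm
  · obtain ⟨F, _, _, _, h⟩ := h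
    rcases h with ⟨h3, ⟨e⟩⟩ | ⟨⟨e⟩⟩ | ⟨⟨e⟩⟩ | ⟨⟨e⟩⟩ | ⟨⟨e⟩⟩
    · exact (R.g2 F h3).of_equiv e.symm
    · exact (R.f4 F).of_equiv e.symm
    · exact (R.e6 F).of_equiv e.symm
    · exact (R.e7 F).of_equiv e.symm
    · exact (R.e8 F).of_equiv e.symm
  · obtain ⟨F, _, _, _, q, hq, h⟩ := h
    rcases h with ⟨h3, ⟨e⟩⟩ | ⟨h3, ⟨e⟩⟩
    · exact (R.twE6 F q hq h3).of_equiv e.symm
    · exact (R.twD4 F q hq h3).of_equiv e.symm
  · exact R.sz K h.2
  · exact R.ree K h.2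
  · exact absurd h.1 (by norm_num)

/-- **KF for the groups of Lie type of characteristic 2.** -/
theorem four_lie (R : Rows.{u}) (e6 : End6.{u} (fun K _ => IsLieTypeChar 2 K)) {H V : Type u} [Group H]
    [AddCommGroup V] [Module (ZMod 2) V] {ρ : H →* (V ≃ₗ[ZMod 2] V)} {b : LinearMap.BilinForm (ZMod 2) V}
    {q : V → ZMod 2} {a : V} {D : Submodule (ZMod 2) V} {P : Subgroup H} {w : ℕ} {L : Subgroup H}
    (C : Cfg ρ b q a D P w) (hL : L.Normal) (hq : IsQuasisimple L) (ho : Odd (Nat.card (center L)))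
    (hX : P ⊓ centralizer (L : Set H) = ⊥) (hK : IsLieTypeChar 2 (L ⧸ center L)) : Four ρ a P :=
  four e6 (fun K _ h => R.fam K h) C hL hq ho hX hK

end Cfsg.Agent.Omega.EH3.Kf.Table

end
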