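import Cfsg.Agent.Mrg.Omega.EH3.Kf.TableSL
import Cfsg.Agent.Mrg.Omega.EH3.Kf.FamD4
import Cfsg.Agent.Mrg.Omega.EH3.Kf.Obt
import Cfsg.Agent.Mrg.Omega.EH3.Kf.TwUni
import Cfsg.Agent.Mrg.Nodes.RGDAllP
import Cfsg.Agent.Mrg.Omega.EH3.Rank1.RkUThree
import Cfsg.Agent.Mrg.Omega.EH3.Rank1.Suz
import Cfsg.Agent.Mrg.Omega.EH3.RowTwF4
import Mathlib
import Cfsg.Agent.Mrg.KFacts.RgdPerf
import Cfsg.Agent.Mrg.Omega.EH3.Kf.Base
import Cfsg.Agent.KFacts.SysSp
import Cfsg.Agent.Mrg.Omega.EH3.Kf.Two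
import Cfsg.Agent.Nodes.KindBC

section


/-!
# EH3, Lie rows: the table, plugged (helper227)

`Open` : the fields of `Table.Rows` which are missing; `rows : Open → Table.Rows`.
-/

set_option autoImplicit false

namespace Cfsg.Agent.Omega.EH3.Kf.TablePlug

open Cfsg Cfsg.Agent.Omega.EH3.Kf.Main

universe u

/-- the missing rows -/
structure Open : Prop where
  psp : ∀ (F : Type) [Field F] [Fintype F] [CharP F 2] (m : ℕ), 2 ≤ m → (m = 2 → 3 ≤ Fintype.card F) →
    Fam.{u} (PSp m F)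
  omm : ∀ (F : Type) [Field F] [Fintype F] [CharP F 2] (m : ℕ) (a b : F), 4 ≤ m →
    (∀ z₁ z₂ : F, z₁ ^ 2 + a * z₁ * z₂ + b * z₂ ^ 2 = 0 → z₁ = 0 ∧ z₂ = 0) →
    Fam.{u} (POmega F (quadFormMinus (m - 1) F a b))
  twE6 : ∀ (F : Type) [Field F] [Fintype F] [CharP F 2] (q : ℕ), IsPrimePow q → Fintype.card F = q ^ 2 →
    Fam.{u} (Lie.twistedE6 F q)

theorem rows (O : Open.{u}) : Table.Rows.{u} where
  psl := TableSL.psl
  psl2 F _ _ _ _ := Fam.of_kfRow (SLFam.kfRow_PSL (n := 1) F)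
  psp := O.psp
  psuEven := TwUni.psuEven
  psuOdd _ _ _ _ _ _ hF hm := Or.inr (UOdd.kfRowU hF hm)
  psu3 _ _ _ _ _ hF hq := Fam.of_row (Rank1.UThree.row_u3' hF hq (MulEquiv.refl _))
  omp := TableSL.omp
  omm := O.omm
  g2 _ _ _ _ h := Fam.of_kfRow (FamG2.kfRow_of_equiv h (MulEquiv.refl _))
  f4 F _ _ _ := Fam.of_kfRow (FFour.kfRow F)
  e6 := TableSL.e6
  e7 := TableSL.e7
  e8 := TableSL.e8
  twE6 := O.twE6
  twD4 _ _ _ _ _ hq hF := Fam.of_kfRow (FamD4.kfRow hq hF)
  sz _ _ h := Fam.of_row (Rank1.row_sz h)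
  ree _ _ h := Fam.of_row (TwF4Row.row_twF4 h)

end Cfsg.Agent.Omega.EH3.Kf.TablePlug

end

section


/-!
# EH3, Lie rows in characteristic 2: `KfRow (PSp_{2n}(q))` (helper924)

* `bd_PSp` : the family data of `PSp n F`, `F` finite of characteristic 2, `n ≥ 1`;
* `card_X` : the root groups have order `q`;
* `kfRow_big` : `KfRow (PSp n F)` for `n ≥ 2`, `q ≥ 4`;
* `kfRow_of` : all `q`, given the row for `q = 2`.
-/

set_option autoImplicit false
set_option linter.unusedSectionVars false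

namespace Cfsg.Agent.Omega.EH3.Kf.SpRow

open Cfsg
open CoxeterSystem Cfsg.Agent.ChevalleyStructure.CoxeterGeom Cfsg.Agent.Tits.Roots Cfsg.Agent.Tits.Core
  Cfsg.Agent.Tits.RootComb Cfsg.Agent.Nodes.Comb Cfsg.Agent.Nodes.Reps Cfsg.Agent.Nodes.BNOf
  Cfsg.Agent.Nodes.TypeC Cfsg.Agent.Nodes.KindBC Cfsg.Agent.Nodes.Coroot Cfsg.Agent.KFacts.ChevTwo
  Cfsg.Agent.KFacts Cfsg.Agent.KFacts.SysSp
  Cfsg.Agent.Omega.EH3.Kf.Base Cfsg.Agent.Omega.EH3.Kf.Goal Cfsg.Agent.Omega.EH3.Kf.FamRow
  Cfsg.Agent.Nodes Cfsg.Agent.Nodes.WittAll Cfsg.Agent.TitsThree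
open scoped commutatorElement

universe u v

/-- `Bd` from `Sys` and trivial centre. -/
theorem bd_of {Y K : Type*} [Group Y] [Field K] {l : ℕ} {M : CoxeterMatrix (Fin l)} [Finite M.Group]
    {A : Fin l → Fin l → ℤ} {h : IsCartan M A} {T : Subgroup Y} {n : Fin l → Y} {X : (Fin l → ℤ) → Subgroup Y}
    {e : (Fin l → ℤ) → K → Y} (R : RGD M.toCoxeterSystem h 2 T n X) (S : Sys R e)
    (hG : RGD.Sup X {x | IsRoot M.toCoxeterSystem h x} = ⊤)
    (hN : RgdCent.NoCent M.toCoxeterSystem h T X) : Bd M h T n X where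
  fin := inferInstance
  rgd := R
  gen := hG
  ab := by
    intro s hs t ht
    have h1 : s * t * s⁻¹ * t⁻¹ = 1 := by
      refine hN _ (mul_mem (mul_mem (mul_mem hs ht) (inv_mem hs)) (inv_mem ht)) fun b hb v hv => ?_
      obtain ⟨x, rfl⟩ := (S.mem_X b hb v).1 hv
      obtain ⟨c, hc⟩ : ∃ c : Kˣ, ∀ u, s * e b u * s⁻¹ = e b (c * u) := by
        obtain ⟨χ, hχ⟩ := S.chi s hs
        exact ⟨_, hχ b hb⟩
      obtain ⟨d, hd⟩ : ∃ d : Kˣ, ∀ u, t * e b u * t⁻¹ = e b (d * u) := by
        obtain ⟨χ, hχ⟩ := S.chi t ht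
        exact ⟨_, hχ b hb⟩
      have hs' : ∀ x, s⁻¹ * e b x * s = e b ((c⁻¹ : Kˣ) * x) := fun x => by
        have h2 := hc ((c⁻¹ : Kˣ) * x)
        rw [← mul_assoc, Units.mul_inv, one_mul] at h2
        rw [← h2]; group
      have ht' : ∀ x, t⁻¹ * e b x * t = e b ((d⁻¹ : Kˣ) * x) := fun x => by
        have h2 := hd ((d⁻¹ : Kˣ) * x)
        rw [← mul_assoc, Units.mul_inv, one_mul] at h2
        rw [← h2]; group
      have h3 : s * t * s⁻¹ * t⁻¹ * e b x * (s * t * s⁻¹ * t⁻¹)⁻¹ = e b x := by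
        have h4 : s * t * s⁻¹ * t⁻¹ * e b x * (s * t * s⁻¹ * t⁻¹)⁻¹ =
            s * (t * (s⁻¹ * (t⁻¹ * e b x * t) * s) * t⁻¹) * s⁻¹ := by group
        rw [h4, ht', hs', hd, hc]
        congr 1
        have h5 : (c : K) * (d * ((c⁻¹ : Kˣ) * ((d⁻¹ : Kˣ) * x))) =
            ((c : K) * (c⁻¹ : Kˣ)) * (((d : K) * (d⁻¹ : Kˣ)) * x) := by ring
        rw [h5, Units.mul_inv, Units.mul_inv, one_mul, one_mul]
      exact mul_inv_eq_iff_eq_mul.1 h3
    have h5 : s * t * s⁻¹ * t⁻¹ * t * s = t * s := by rw [h1, one_mul]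
    simpa [mul_assoc] using h5
  el i u hu := by
    obtain ⟨t, rfl⟩ := (S.mem_X _ (isRoot_sr _ h i) u).1 hu
    exact S.data.sq (isRoot_sr _ h i) t

theorem card_X {Y K : Type*} [Group Y] [Field K] {l : ℕ} {M : CoxeterMatrix (Fin l)} {W : Type*} [Group W] [Finite W]
    {cs : CoxeterSystem M W} {A : Fin l → Fin l → ℤ} {h : IsCartan M A} {T : Subgroup Y} {n : Fin l → Y}
    {X : (Fin l → ℤ) → Subgroup Y} {e : (Fin l → ℤ) → K → Y} {R : RGD cs h 2 T n X} (S : Sys R e)
    {x : Fin l → ℤ} (hx : IsRoot cs h x) : Nat.card (X x) = Nat.card K := by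
  refine (Nat.card_congr (Equiv.ofBijective (fun t : K => (⟨e x t, S.mem hx t⟩ : X x)) ⟨?_, ?_⟩)).symm
  · intro t u htu
    exact S.data.injective hx (congrArg Subtype.val htu)
  · rintro ⟨g, hg⟩
    obtain ⟨t, rfl⟩ := (S.mem_X x hx g).1 hg
    exact ⟨t, rfl⟩

/-- the order of a finite field of characteristic two -/
theorem exists_card (F : Type*) [Field F] [Finite F] [CharP F 2] : ∃ m, 1 ≤ m ∧ Nat.card F = 2 ^ m := by
  have := Fintype.ofFinite F
  obtain ⟨m, -, hm⟩ := FiniteField.card F 2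
  exact ⟨m, m.2, by rw [Nat.card_eq_fintype_card]; exact hm⟩

section

variable (n : ℕ) (F : Type v) [Field F] [Finite F] [CharP F 2]

theorem finite_Y : Finite (PSp n F) := Quotient.finite _

/-- The data of `PSp n F`. -/
theorem bd_PSp (hn : 0 < n) : Bd (CoxeterMatrix.B n) (isCartan n) (WittModel.T (KInstSp.model n F))
    (fun i => (KInstSp.model n F).φ ⟨WittRGD.nn (SpIdent.frame n F) (SpIdent.adm 1) i,
      WittAll.nn_mem (AmbT.of_amb WittU.amb_Sp 2) (SpIdent.adm 1) i⟩) (WittModel.X (KInstSp.model n F)) := by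
  have : Fact (Nat.Prime 2) := ⟨Nat.prime_two⟩
  have : Finite (CoxeterMatrix.B n).Group := finite_W (CoxeterMatrix.B n).toCoxeterSystem
  exact bd_of _ (sys_PSp n F (CoxeterMatrix.B n).toCoxeterSystem) (sup_eq_top_PSp hn F _) (noCent_PSp n F _)

/-- The row for `q ≥ 4`. -/
theorem rowEnd_big (hn : 2 ≤ n) (hF : 2 < Nat.card F) : RowEnd.{u} (CoxeterMatrix.B n) (isCartan n)
    (WittModel.T (KInstSp.model n F))
    (fun i => (KInstSp.model n F).φ ⟨WittRGD.nn (SpIdent.frame n F) (SpIdent.adm 1) i,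
      WittAll.nn_mem (AmbT.of_amb WittU.amb_Sp 2) (SpIdent.adm 1) i⟩) (WittModel.X (KInstSp.model n F)) := by
  intro V _ _ ρ b a D X0 w R
  exfalso
  have : Fact (Nat.Prime 2) := ⟨Nat.prime_two⟩
  have : Finite (PSp n F) := finite_Y n F
  have : Finite (CoxeterMatrix.B n).Group := finite_W (CoxeterMatrix.B n).toCoxeterSystem
  obtain ⟨m, hm, hc⟩ := exists_card F
  have hm2 : 2 ≤ m := by
    by_contra hlt
    have : m = 1 := by omega
    subst this
    omega
  exact SpBig.false_of_sys hn R (sys_PSp n F (CoxeterMatrix.B n).toCoxeterSystem) hm2 hc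

/-- **`KfRow (PSp_{2n}(q))`, `n ≥ 2`, `q ≥ 4` even.** -/
theorem kfRow_big (hn : 2 ≤ n) (hF : 2 < Nat.card F) : KfRow.{u} (PSp n F) :=
  ⟨n, _, _, _, _, _, _, bd_PSp n F (by omega), rowEnd_big n F hn hF⟩

/-- All `q`, given the row for `q = 2`. -/
theorem kfRow_of (hn : 2 ≤ n) (h2 : ∀ (V : Type u) [AddCommGroup V] [Module (ZMod 2) V]
    (T : Subgroup (PSp n F)) (nn : Fin n → PSp n F) (X : (Fin n → ℤ) → Subgroup (PSp n F))
    (ρ : PSp n F →* (V ≃ₗ[ZMod 2] V)) (b : LinearMap.BilinForm (ZMod 2) V) (a : V) (D : Submodule (ZMod 2) V)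
    (X0 : Subgroup (PSp n F)) (w : ℕ),
    Row (CoxeterMatrix.B n).toCoxeterSystem (isCartan n) T nn X ρ b a D X0 w →
    (∀ i, Nat.card (X (sr i)) = 2) → False) : KfRow.{u} (PSp n F) := by
  by_cases hF : 2 < Nat.card F
  · exact kfRow_big n F hn hF
  · have : Fact (Nat.Prime 2) := ⟨Nat.prime_two⟩
    obtain ⟨m, hm, hc⟩ := exists_card F
    have hc2 : Nat.card F = 2 := by
      have h3 : 2 ^ 1 ≤ 2 ^ m := Nat.pow_le_pow_right (by norm_num) hm
      omega
    refine ⟨n, _, _, _, _, _, _, bd_PSp n F (by omega), ?_⟩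
    intro V _ _ ρ b a D X0 w R
    exfalso
    have : Finite (CoxeterMatrix.B n).Group := finite_W (CoxeterMatrix.B n).toCoxeterSystem
    refine h2 V _ _ _ ρ b a D X0 w R fun i => ?_
    rw [card_X (sys_PSp n F (CoxeterMatrix.B n).toCoxeterSystem) (isRoot_sr _ _ i), hc2]

end

end Cfsg.Agent.Omega.EH3.Kf.SpRow

end

section


/-!
# Root groups of order 2: the action on `V` (helper532)

* `mu X x = u x * u (-x) * u x` : the canonical representative of the reflection in `x`; `rp_mu`, `mu_conj`, `conj_mu`;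
* `Mr X ρ a r` : `(u r - 1) (mu r a) = a`; true for the moved nodes (`Mr.base`) and conjugates (`Mr.refl`);
* `comm_Sup` : commutators with a fixed element;
* `exists_x` : the element of `X0` over `u (sr k)`.
-/

set_option autoImplicit false
set_option linter.unusedSectionVars false

namespace Cfsg.Agent.Omega.EH3.Kf.TwoV

open CoxeterSystem Cfsg.Agent.ChevalleyStructure.CoxeterGeom Cfsg.Agent.Tits.Roots Cfsg.Agent.Tits.Core
  Cfsg.Agent.Tits.RootComb Cfsg.Agent.Nodes.Comb Cfsg.Agent.Nodes.Reps Cfsg.Agent.Nodes.BNOf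
  Cfsg.Agent.Nodes.StabComb Cfsg.Agent.Nodes.Bruhat Cfsg.Agent.Nodes.OppDec Cfsg.Agent.Nodes.LeviDec
  Cfsg.Agent.Nodes.Coroot Cfsg.Agent.Nodes.PairOf Cfsg.Agent.Nodes.MuSq
  Cfsg.Agent.Omega.EH3.Kf.Base Cfsg.Agent.Omega.EH3.Kf.Nm Cfsg.Agent.Omega.EH3.Kf.Two
open scoped commutatorElement

variable {I W Y : Type*} [Fintype I] [DecidableEq I] [Group W] [Group Y] {M : CoxeterMatrix I}
  {cs : CoxeterSystem M W} {A : I → I → ℤ} {h : IsCartan M A} {T : Subgroup Y} {n : I → Y}
  {X : (I → ℤ) → Subgroup Y}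

/-- the reflection element -/
noncomputable def mu (X : (I → ℤ) → Subgroup Y) (x : I → ℤ) : Y := u X x * u X (-x) * u X x

section

variable (D : Dat cs h T n X)

include D

theorem mu_sq {x : I → ℤ} (hx : IsRoot cs h x) : mu X x * mu X x = 1 := by
  unfold mu
  calc u X x * u X (-x) * u X x * (u X x * u X (-x) * u X x)
      = u X x * u X (-x) * (u X x * u X x) * u X (-x) * u X x := by group
    _ = u X x * (u X (-x) * u X (-x)) * u X x := by rw [D.u_sq hx]; group
    _ = 1 := by rw [D.u_sq hx.neg, mul_one, D.u_sq hx]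

theorem mu_inv {x : I → ℤ} (hx : IsRoot cs h x) : (mu X x)⁻¹ = mu X x := inv_eq_of_mul_eq_one_right (mu_sq D hx)

theorem rp_mu [Finite W] {x : I → ℤ} (hx : IsRoot cs h x) :
    ∃ w, Rp cs D.rgd.nsys w (mu X x) ∧ w⁻¹ = w ∧ ∀ z, rep cs h w z = z - cpr cs h z x • x := by
  have := Fintype.ofFinite W
  obtain ⟨g, hg, g', hg', w, hw, hwi, hr⟩ := exists_mu' D.rgd hx.neg (D.u_mem hx.neg) (D.u_ne hx.neg)
  rw [neg_neg] at hg hg'
  have hr' : ∀ z, rep cs h w z = z - cpr cs h z x • x := by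
    intro z
    rw [hr, cpr_neg_right cs h z hx, neg_smul, smul_neg, neg_neg]
  have hxx : x ≠ -x := by
    intro e
    have h1 : (2 : ℤ) • x = 0 := by
      rw [two_smul]
      nth_rewrite 2 [e]
      exact add_neg_cancel x
    exact hx.ne_zero ((smul_eq_zero.1 h1).resolve_left two_ne_zero)
  have hne : u X x ≠ u X (-x) := fun e => hxx (D.u_inj hx hx.neg e)
  have e1 : rep cs h w x = -x := by
    rw [hr', cpr_self cs h hx]; module
  have e2 : rep cs h w (-x) = x := by rw [map_neg, e1, neg_neg]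
  have c1 := D.conj_u hw hx
  have c2 := D.conj_u hw hx.neg
  rw [e1] at c1
  rw [e2] at c2
  have key : g = u X x ∧ g' = u X x := by
    rcases (D.mem_iff hx).1 hg with rfl | rfl <;> rcases (D.mem_iff hx).1 hg' with rfl | rfl
    · exfalso
      apply hne
      have h1 : 1 * u X (-x) * 1 * u X (-x) * (1 * u X (-x) * 1)⁻¹ = u X (-x) := by group
      rw [← c2, h1]
    · exfalso
      apply hne
      have h1 : 1 * u X (-x) * u X x * u X x * (1 * u X (-x) * u X x)⁻¹ = u X (-x) * u X x * (u X (-x))⁻¹ := by group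
      rw [h1] at c1
      have h2 : u X x = (u X (-x))⁻¹ * (u X (-x) * u X x * (u X (-x))⁻¹) * u X (-x) := by group
      rw [h2, c1]; group
    · exfalso
      apply hne
      have h1 : u X x * u X (-x) * 1 * u X (-x) * (u X x * u X (-x) * 1)⁻¹ = u X x * u X (-x) * (u X x)⁻¹ := by group
      rw [h1] at c2
      have h2 : u X (-x) = (u X x)⁻¹ * (u X x * u X (-x) * (u X x)⁻¹) * u X x := by group
      rw [h2, c2]; group
    · exact ⟨rfl, rfl⟩
  rw [key.1, key.2] at hw
  exact ⟨w, hw, hwi, hr'⟩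

/-- conjugation by the reflection element -/
theorem mu_conj [Finite W] {x y : I → ℤ} (hx : IsRoot cs h x) (hy : IsRoot cs h y) :
    mu X x * u X y * (mu X x)⁻¹ = u X (y - cpr cs h y x • x) := by
  obtain ⟨w, hw, -, hr⟩ := rp_mu D hx
  rw [D.conj_u hw hy, hr]

theorem conj_mu {w : W} {k : Y} (hk : Rp cs D.rgd.nsys w k) {x : I → ℤ} (hx : IsRoot cs h x) :
    k * mu X x * k⁻¹ = mu X (rep cs h w x) := by
  unfold mu
  rw [← map_neg, ← D.conj_u hk hx, ← D.conj_u hk hx.neg]
  group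

/-- reflection elements of reflections -/
theorem mu_conj_mu [Finite W] {x y : I → ℤ} (hx : IsRoot cs h x) (hy : IsRoot cs h y) :
    mu X x * mu X y * (mu X x)⁻¹ = mu X (y - cpr cs h y x • x) := by
  obtain ⟨w, hw, -, hr⟩ := rp_mu D hx
  rw [conj_mu D hw hy, hr]

/-- orthogonal roots -/
theorem mu_comm_u [Finite W] {x y : I → ℤ} (hx : IsRoot cs h x) (hy : IsRoot cs h y) (h0 : cpr cs h y x = 0) :
    mu X x * u X y = u X y * mu X x := by
  have h1 := mu_conj D hx hy
  rw [h0, zero_smul, sub_zero] at h1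
  exact mul_inv_eq_iff_eq_mul.1 h1

end

/-! ### Commutators -/

/-- commutators with a fixed element -/
theorem comm_Sup {Q : Subgroup Y} {S : Set (I → ℤ)} {g : Y} (hQ : ∀ r ∈ S, ∀ a ∈ X r, ∀ q ∈ Q, a * q = q * a)
    (hg : ∀ r ∈ S, ∀ a ∈ X r, ⁅a, g⁆ ∈ Q) : ∀ s ∈ RGD.Sup X S, ⁅s, g⁆ ∈ Q := by
  let K : Subgroup Y :=
    { carrier := {s | ⁅s, g⁆ ∈ Q ∧ ∀ q ∈ Q, s * q = q * s}
      one_mem' := ⟨by rw [commutatorElement_one_left]; exact one_mem _, fun q _ => by rw [one_mul, mul_one]⟩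
      mul_mem' := by
        rintro s t ⟨hs, hs'⟩ ⟨ht, ht'⟩
        refine ⟨?_, fun q hq => by rw [mul_assoc, ht' q hq, ← mul_assoc, hs' q hq, mul_assoc]⟩
        have h1 : ⁅s * t, g⁆ = s * ⁅t, g⁆ * s⁻¹ * ⁅s, g⁆ := by
          rw [commutatorElement_def, commutatorElement_def, commutatorElement_def]; group
        rw [h1, hs' _ ht, mul_inv_cancel_right]
        exact mul_mem ht hs
      inv_mem' := by
        rintro s ⟨hs, hs'⟩
        have hc : ∀ q ∈ Q, s⁻¹ * q = q * s⁻¹ := fun q hq => by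
          have := hs' q hq
          calc s⁻¹ * q = s⁻¹ * (q * s) * s⁻¹ := by group
            _ = q * s⁻¹ := by rw [← this]; group
        refine ⟨?_, hc⟩
        have h1 : ⁅s⁻¹, g⁆ = s⁻¹ * ⁅s, g⁆⁻¹ * s := by
          rw [commutatorElement_def, commutatorElement_def]; group
        rw [h1, hc _ (inv_mem hs), inv_mul_cancel_right]
        exact inv_mem hs }
  have h1 : RGD.Sup X S ≤ K := RGD.Sup_le fun r hr a ha => ⟨hg r hr a ha, hQ r hr a ha⟩
  exact fun s hs => (h1 hs).1

/-- elements commuting with the generators -/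
theorem comm_of_gen {S : Set (I → ℤ)} {g : Y} (hg : ∀ r ∈ S, ∀ a ∈ X r, a * g = g * a) :
    ∀ s ∈ RGD.Sup X S, s * g = g * s := by
  have h1 : RGD.Sup X S ≤ Subgroup.centralizer {g} := RGD.Sup_le fun r hr a ha => by
    rw [Subgroup.mem_centralizer_singleton_iff]
    exact hg r hr a ha
  intro s hs
  exact Subgroup.mem_centralizer_singleton_iff.1 (h1 hs)

theorem comm_mul_left {s t g : Y} (ht : t * g = g * t) : ⁅s * t, g⁆ = ⁅s, g⁆ := by
  rw [commutatorElement_def, commutatorElement_def]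
  calc s * t * g * (s * t)⁻¹ * g⁻¹ = s * (t * g) * t⁻¹ * s⁻¹ * g⁻¹ := by group
    _ = s * g * s⁻¹ * g⁻¹ := by rw [ht]; group

/-! ### The action on `V` -/

section V

variable {V : Type*} [AddCommGroup V] [Module (ZMod 2) V] {ρ : Y →* (V ≃ₗ[ZMod 2] V)} {a : V}
  {b : LinearMap.BilinForm (ZMod 2) V} {DD : Submodule (ZMod 2) V} {X0 : Subgroup Y} {w0 : ℕ}

theorem vv (v : V) : v + v = 0 := by
  have : v + v = (2 : ZMod 2) • v := by rw [two_smul]
  rw [this, show (2 : ZMod 2) = 0 from rfl, zero_smul]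

theorem eq_add_of {v x y : V} (e : v + x = y) : v = y + x := by
  rw [← e, add_assoc, vv, add_zero]

theorem fix_mul {g k : Y} (hg : ρ g a = a) (hk : ρ k a = a) : ρ (g * k) a = a := by
  rw [rho_mul, hk, hg]

theorem fix_comm {g k : Y} (hg : ρ g a = a) (hk : ρ k a = a) : ρ ⁅g, k⁆ a = a := by
  rw [commutatorElement_def]
  exact fix_mul (fix_mul (fix_mul hg hk) (fix_inv hg)) (fix_inv hk)

theorem mu_fix {x : I → ℤ} (h1 : ρ (u X x) a = a) (h2 : ρ (u X (-x)) a = a) : ρ (mu X x) a = a :=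
  fix_mul (fix_mul h1 h2) h1

/-- `(u r - 1) (mu r a) = a` -/
def Mr (X : (I → ℤ) → Subgroup Y) (ρ : Y →* (V ≃ₗ[ZMod 2] V)) (a : V) (r : I → ℤ) : Prop :=
  ρ (u X r) (ρ (mu X r) a) = ρ (mu X r) a + a

section

variable (D : Dat cs h T n X)

include D

theorem Mr.base [Finite W] [Finite Y] (R : ThmA.Core cs h T n X ρ a X0) {i : I} (hi : ρ (n i) a ≠ a) :
    Mr X ρ a (sr i) := by
  classical
  have hr := isRoot_sr cs h i
  obtain ⟨w, hw, -, hrw⟩ := rp_mu D hr
  have hwi : w = cs.simple i := by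
    apply rep_injective cs h
    refine LinearMap.ext fun z => ?_
    rw [hrw, rep_simple, refl_apply, cpr_sr]
    congr 1
    funext k
    simp [sr, Pi.single_apply]
  subst hwi
  have h1 := (rp_simple cs D.rgd.nsys i).unique hw
  have h2 : ρ (mu X (sr i)) a = ρ (n i) a := by
    have e : mu X (sr i) = n i * ((n i)⁻¹ * mu X (sr i)) := by group
    rw [e, rho_mul, R.fixB _ (RGD.T_le_B h1)]
  unfold Mr
  rw [h2]
  have h3 := ThmA.nm_simple R hi
  unfold Nm at h3
  have h4 : fs (X (sr i)) = {1, u X (sr i)} := by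
    ext g
    rw [mem_fs, D.mem_iff hr, Finset.mem_insert, Finset.mem_singleton]
  rw [h4, Finset.sum_pair (Ne.symm (D.u_ne hr)), rho_one] at h3
  rw [add_comm] at h3
  rw [eq_add_of h3, add_comm]

theorem Mr.act {w : W} {k : Y} (hk : Rp cs D.rgd.nsys w k) (hka : ρ k a = a) {r : I → ℤ} (hr : IsRoot cs h r)
    (H : Mr X ρ a r) : Mr X ρ a (rep cs h w r) := by
  unfold Mr at H ⊢
  rw [← conj_mu D hk hr, ← D.conj_u hk hr]
  have e1 : ρ (k * mu X r * k⁻¹) a = ρ k (ρ (mu X r) a) := by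
    rw [rho_mul, rho_mul, fix_inv hka]
  rw [e1]
  have e2 : ρ (k * u X r * k⁻¹) (ρ k (ρ (mu X r) a)) = ρ k (ρ (u X r) (ρ (mu X r) a)) := by
    rw [rho_mul, rho_mul, rho_inv]
  rw [e2, H, map_add, hka]

theorem Mr.refl [Finite W] {r s : I → ℤ} (hr : IsRoot cs h r) (hs : IsRoot cs h s) (h1 : ρ (u X s) a = a)
    (h2 : ρ (u X (-s)) a = a) (H : Mr X ρ a r) : Mr X ρ a (r - cpr cs h r s • s) := by
  obtain ⟨w, hw, -, hrw⟩ := rp_mu D hs
  rw [← hrw]
  exact H.act D hw (mu_fix h1 h2) hr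

theorem Mr.neg [Finite W] {r : I → ℤ} (hr : IsRoot cs h r) (H : Mr X ρ a r) : ρ (u X (-r)) a = ρ (mu X r) a + a := by
  have h1 : u X (-r) = mu X r * u X r * (mu X r)⁻¹ := by
    rw [mu_conj D hr hr, cpr_self cs h hr]
    congr 1
    module
  rw [h1, mu_inv D hr, rho_mul, rho_mul, H, map_add, ← rho_mul, mu_sq D hr, rho_one, add_comm]

/-! ### Elements of `X0` -/

theorem fix_pos (R : Row cs h T n X ρ b a DD X0 w0) {x : I → ℤ} (hx : IsRoot cs h x) (h0 : 0 ≤ x) :
    ρ (u X x) a = a := R.fixB _ (RGD.X_le_B hx h0 (D.u_mem hx))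

theorem fix_J [Finite W] (R : Row cs h T n X ρ b a DD X0 w0) {x : I → ℤ} (hx : x ∈ RootsJ cs h (Mv ρ n a)ᶜ) :
    ρ (u X x) a = a := Opp.PJ_fix R (LJ_le_PJ (X_le_LJ hx (D.u_mem hx.1)))

theorem refl_mem [Finite W] (R : Row cs h T n X ρ b a DD X0 w0) {r s : I → ℤ} (hr : IsRoot cs h r)
    (hs : IsRoot cs h s) (h1 : ρ (u X s) a = a) (h2 : ρ (u X (-s)) a = a) (H : u X r ∈ X0) :
    u X (r - cpr cs h r s • s) ∈ X0 := by
  rw [← mu_conj D hs hr]
  exact R.norm _ (mu_fix h1 h2) _ H

omit D in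
theorem comm_mem_X0 (R : Row cs h T n X ρ b a DD X0 w0) {x g : Y} (hx : x ∈ X0) (hg : ρ g a = a) : ⁅x, g⁆ ∈ X0 := by
  have h1 : ⁅x, g⁆ = x * (g * x⁻¹ * g⁻¹) := by rw [commutatorElement_def]; group
  rw [h1]
  exact mul_mem hx (R.norm g hg _ (inv_mem hx))

/-- the element of `X0` over `u (sr k)` -/
theorem exists_x [Finite W] [Finite Y] (R : Row cs h T n X ρ b a DD X0 w0) {k : I} (hk : k ∈ Mv ρ n a) :
    ∃ s ∈ RGD.Sup X (NotJ cs h {k} ∩ NotJ cs h (Mv ρ n a)ᶜ), u X (sr k) * s ∈ X0 := by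
  have hr := isRoot_sr cs h k
  have hpos : u X (sr k) ∈ RGD.Sup X (RGD.Pos cs h) :=
    RGD.le_Sup (show sr k ∈ RGD.Pos cs h from ⟨hr, sr_nonneg k⟩) (D.u_mem hr)
  obtain ⟨x, hx, hxk⟩ := ThmA.thmA R.core (K := {k}) (Set.singleton_subset_iff.2 hk) _ hpos
  refine ⟨(u X (sr k))⁻¹ * x, ?_, by rwa [mul_inv_cancel_left]⟩
  have hcl : ∀ J : Set I, Nodes.Unique.Closed cs h (NotJ cs h J) := fun J x hx y hy z hz => by
    refine ⟨hz.1, btwn_nonneg hz hx.2.1 hy.2.1, ?_⟩
    obtain ⟨k, hk, hk0⟩ := hx.2.2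
    exact ⟨k, hk, btwn_apply_pos hz hk0 (hy.2.1 k)⟩
  have hsub : ∀ J : Set I, NotJ cs h J ⊆ RGD.Pos cs h := fun J x hx => ⟨hx.1, hx.2.1⟩
  rw [← Nodes.Unique.inf_eq R.rgd (hsub _) (hsub _) (hcl _) (hcl _)]
  have h1 : u X (sr k) ∈ VJ cs h X (Mv ρ n a)ᶜ :=
    RGD.le_Sup (sr_mem_NotJ (J := (Mv ρ n a)ᶜ) (not_not.2 hk)) (D.u_mem hr)
  exact ⟨hxk, (VJ cs h X (Mv ρ n a)ᶜ).mul_mem ((VJ cs h X (Mv ρ n a)ᶜ).inv_mem h1) (Cov.le_VJ R hx)⟩

end

end V

end Cfsg.Agent.Omega.EH3.Kf.TwoV

end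

section


/-!
# `Sp_2n(2)`: the commutator relations in coordinates (helper532)

`E X a b = u X (rt a b)`, `a`, `b` signed indices.
* `comm_E`, `comm_flip`, `comm_A2`, `comm_B2`;
* `fix_E`, `refl_E`, .. : the action on `X0` and `a`.
-/

set_option autoImplicit false
set_option linter.unusedSectionVars false

namespace Cfsg.Agent.Omega.EH3.Kf.SpTwo

open CoxeterSystem Cfsg.Agent.ChevalleyStructure.CoxeterGeom Cfsg.Agent.Tits.Roots Cfsg.Agent.Tits.Core
  Cfsg.Agent.Tits.RootComb Cfsg.Agent.Nodes.Comb Cfsg.Agent.Nodes.Reps Cfsg.Agent.Nodes.BNOf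
  Cfsg.Agent.Nodes.StabComb Cfsg.Agent.Nodes.Bruhat Cfsg.Agent.Nodes.OppDec Cfsg.Agent.Nodes.LeviDec
  Cfsg.Agent.Nodes.Coroot Cfsg.Agent.Nodes.TypeC Cfsg.Agent.Nodes.TypeCForm Cfsg.Agent.Nodes.KindBC
  Cfsg.Agent.Omega.EH3.Kf.Base Cfsg.Agent.Omega.EH3.Kf.Nm Cfsg.Agent.Omega.EH3.Kf.Two
  Cfsg.Agent.Omega.EH3.Kf.TwoV
open scoped commutatorElement

variable {n : ℕ} {W Y : Type*} [Group W] [Group Y] {cs : CoxeterSystem (CoxeterMatrix.B n) W}
  {T : Subgroup Y} {nn : Fin n → Y} {X : (Fin n → ℤ) → Subgroup Y}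

theorem six_B (i j : Fin n) : CoxeterMatrix.B n i j ≠ 6 := by
  show (if i = j then 1 else if (i : ℕ) = n - 1 ∧ (j : ℕ) = n - 2 ∨ (j : ℕ) = n - 1 ∧ (i : ℕ) = n - 2
        then 4 else (if (j : ℕ) + 1 = i ∨ (i : ℕ) + 1 = j then 3 else 2)) ≠ 6
  split_ifs <;> decide

/-! ### Cartan numbers -/

/-- the scalar product of two signed indices -/
def dt (a c : Fin n × Bool) : ℤ := wt a c.1 * sn c

theorem dt_self (a : Fin n × Bool) : dt a a = 1 := by
  unfold dt; rw [wt_apply_self]; exact sn_mul_self a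

theorem dt_ng_right (a c : Fin n × Bool) : dt a (ng c) = -dt a c := by
  unfold dt; rw [ng_fst, sn_ng, mul_neg]

theorem dt_ng_left (a c : Fin n × Bool) : dt (ng a) c = -dt a c := by
  unfold dt; rw [wt_ng, Pi.neg_apply, neg_mul]

theorem dt_ne {a c : Fin n × Bool} (h : a.1 ≠ c.1) : dt a c = 0 := by
  unfold dt; rw [wt_apply_ne (Ne.symm h), zero_mul]

theorem dt_nonneg {a c : Fin n × Bool} (h : a ≠ ng c) : 0 ≤ dt a c := by
  by_cases h1 : a.1 = c.1
  · have h2 : a = c := by
      obtain ⟨i, s⟩ := a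
      obtain ⟨j, t⟩ := c
      simp only at h1
      subst h1
      cases s <;> cases t <;> simp_all [ng]
    rw [h2, dt_self]; norm_num
  · rw [dt_ne h1]

section

variable [Finite W]

theorem cpr_E (a b : Fin n × Bool) {c d : Fin n × Bool} (hcd : c.1 ≠ d.1) :
    cpr cs (isCartan n) (rt a b) (rt c d) = dt a c + dt b c + (dt a d + dt b d) := by
  rw [cpr_rt cs _ hcd, ee_rt]
  unfold dt
  simp only [Pi.add_apply]
  ring

theorem cpr_EE (a b c : Fin n × Bool) : cpr cs (isCartan n) (rt a b) (rt c c) = dt a c + dt b c := by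
  rw [cpr_rt_self cs, ee_rt]
  unfold dt
  simp only [Pi.add_apply]
  ring

theorem cpr_nonneg {a b c d : Fin n × Bool} (hcd : Ok c d) (h1 : a ≠ ng c) (h2 : a ≠ ng d) (h3 : b ≠ ng c)
    (h4 : b ≠ ng d) : 0 ≤ cpr cs (isCartan n) (rt a b) (rt c d) := by
  have e1 := dt_nonneg h1
  have e2 := dt_nonneg h2
  have e3 := dt_nonneg h3
  have e4 := dt_nonneg h4
  rcases hcd with hcd | rfl
  · rw [cpr_E a b hcd]; omega
  · rw [cpr_EE]; omega

end

/-! ### Root elements -/

/-- the root element of `wt a + wt b` -/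
noncomputable def E (X : (Fin n → ℤ) → Subgroup Y) (a b : Fin n × Bool) : Y := u X (rt a b)

theorem E_comm (a b : Fin n × Bool) : E X a b = E X b a := by unfold E; rw [rt_comm]

theorem ne_ng (a : Fin n × Bool) : a ≠ ng a := by
  obtain ⟨i, s⟩ := a
  cases s <;> simp [ng]

section

variable [Finite W] (D : Dat cs (isCartan n) T nn X)

include D

theorem comm_E {a b c d : Fin n × Bool} (hab : Ok a b) (hcd : Ok c d) (h1 : a ≠ ng c) (h2 : a ≠ ng d)
    (h3 : b ≠ ng c) (h4 : b ≠ ng d) : E X a b * E X c d = E X c d * E X a b :=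
  (D.comm_of_nonneg (isRoot_rt cs hcd) (isRoot_rt cs hab) (cpr_nonneg hcd h1 h2 h3 h4)).symm

theorem comm_flip {a b : Fin n × Bool} (hab : a.1 ≠ b.1) : E X a b * E X a (ng b) = E X a (ng b) * E X a b := by
  refine (D.comm_of_nonneg (isRoot_rt cs (Or.inl hab)) (isRoot_rt cs (Or.inl hab)) ?_)
  rw [cpr_E a (ng b) hab, dt_self, dt_ng_left, dt_ng_left, dt_self, dt_ne hab, dt_ne (Ne.symm hab)]
  norm_num

theorem comm_A2 {a b c : Fin n × Bool} (hab : a.1 ≠ b.1) (hbc : b.1 ≠ c.1) (hac : a.1 ≠ c.1) :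
    ⁅E X a b, E X (ng b) c⁆ = E X a c := by
  have h1 : cpr cs (isCartan n) (rt (ng b) c) (rt a b) = -1 := by
    rw [cpr_E _ _ hab, dt_ng_left, dt_ng_left, dt_self, dt_ne hab.symm, dt_ne hac.symm, dt_ne hbc.symm]
    norm_num
  have h2 : cpr cs (isCartan n) (rt a b) (rt (ng b) c) = -1 := by
    rw [cpr_E _ _ (show (ng b).1 ≠ c.1 from hbc), dt_ng_right, dt_ng_right, dt_self, dt_ne hab, dt_ne hac,
      dt_ne hbc]
    norm_num
  unfold E
  rw [D.comm_one_one (isRoot_rt cs (Or.inl hab)) (isRoot_rt cs (Or.inl (show (ng b).1 ≠ c.1 from hbc))) h1 h2]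
  congr 1
  apply ee_injective
  rw [ee_add, ee_rt, ee_rt, ee_rt, wt_ng]
  abel

theorem comm_B2 {a b : Fin n × Bool} (hab : a.1 ≠ b.1) : ⁅E X a a, E X (ng a) b⁆ = E X a b * E X b b := by
  have h1 : cpr cs (isCartan n) (rt (ng a) b) (rt a a) = -1 := by
    rw [cpr_EE, dt_ng_left, dt_self, dt_ne hab.symm]
    norm_num
  have h2 : cpr cs (isCartan n) (rt a a) (rt (ng a) b) = -2 := by
    rw [cpr_E _ _ (show (ng a).1 ≠ b.1 from hab), dt_ng_right, dt_self, dt_ne hab]
    norm_num
  unfold E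
  rw [D.comm_one_two (isRoot_rt cs (Or.inr rfl)) (isRoot_rt cs (Or.inl (show (ng a).1 ≠ b.1 from hab))) h1 h2]
  congr 2
  · apply ee_injective
    rw [ee_add, ee_rt, ee_rt, ee_rt, wt_ng]
    abel
  · apply ee_injective
    rw [ee_add, ee_smul, ee_rt, ee_rt, ee_rt, wt_ng]
    module

theorem E_ne {a b : Fin n × Bool} (hab : Ok a b) : E X a b ≠ 1 := D.u_ne (isRoot_rt cs hab)

theorem E_sq {a b : Fin n × Bool} (hab : Ok a b) : E X a b * E X a b = 1 := D.u_sq (isRoot_rt cs hab)

theorem E_inv {a b : Fin n × Bool} (hab : Ok a b) : (E X a b)⁻¹ = E X a b := D.u_inv (isRoot_rt cs hab)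

end

/-! ### Reflections in coordinates -/

section

variable [Finite W]

theorem refl_short {a b c : Fin n × Bool} (hab : a.1 ≠ b.1) (hbc : b.1 ≠ c.1) (hac : a.1 ≠ c.1) :
    rt a b - cpr cs (isCartan n) (rt a b) (rt (ng b) c) • rt (ng b) c = rt a c := by
  rw [cpr_E _ _ (show (ng b).1 ≠ c.1 from hbc), dt_ng_right, dt_ng_right, dt_self, dt_ne hab, dt_ne hac,
      dt_ne hbc]
  apply ee_injective
  rw [sub_eq_add_neg, ee_add, ee_neg, ee_smul, ee_rt, ee_rt, ee_rt, wt_ng]
  module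

theorem refl_long {a b : Fin n × Bool} (hab : a.1 ≠ b.1) :
    rt a a - cpr cs (isCartan n) (rt a a) (rt (ng a) b) • rt (ng a) b = rt b b := by
  rw [cpr_E _ _ (show (ng a).1 ≠ b.1 from hab), dt_ng_right, dt_self, dt_ne hab]
  apply ee_injective
  rw [sub_eq_add_neg, ee_add, ee_neg, ee_smul, ee_rt, ee_rt, ee_rt, wt_ng]
  module

theorem refl_flip {a b : Fin n × Bool} (hab : a.1 ≠ b.1) :
    rt a b - cpr cs (isCartan n) (rt a b) (rt b b) • rt b b = rt a (ng b) := by
  rw [cpr_EE, dt_self, dt_ne hab]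
  apply ee_injective
  rw [sub_eq_add_neg, ee_add, ee_neg, ee_smul, ee_rt, ee_rt, ee_rt, wt_ng]
  module

theorem neg_rt (a b : Fin n × Bool) : -rt a b = rt (ng a) (ng b) := (rt_ng a b).symm

end

/-! ### The Weyl group on signed indices -/

theorem exists_perm (w : W) : ∃ f : Fin n × Bool → Fin n × Bool,
    (∀ a b, rep cs (isCartan n) w (rt a b) = rt (f a) (f b)) ∧ (∀ a, f (ng a) = ng (f a)) ∧
      ∀ a b, (f a).1 = (f b).1 ↔ a.1 = b.1 := by
  induction w using cs.simple_induction_left with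
  | one =>
    refine ⟨id, fun a b => ?_, fun a => rfl, fun a b => Iff.rfl⟩
    rw [map_one, Module.End.one_apply]; rfl
  | mul_simple_left w i ih =>
    obtain ⟨f, h1, h2, h3⟩ := ih
    refine ⟨fun a => sg i (f a), fun a b => ?_, fun a => ?_, fun a b => ?_⟩
    · apply ee_injective
      rw [rep_mul_apply, rep_simple, ee_refl_of (show ee (rep cs (isCartan n) w (rt a b)) = _ by rw [h1, ee_rt]),
        ee_rt]
    · show sg i (f (ng a)) = ng (sg i (f a))
      rw [h2, sg_ng]
    · show (sg i (f a)).1 = (sg i (f b)).1 ↔ a.1 = b.1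
      rw [sg_fst_eq, h3]

/-! ### Coefficients -/

/-- the roots with positive first coefficient -/
theorem first_form {o : Fin n} (ho : (o : ℕ) = 0) {x : Fin n → ℤ} (hx : IsRoot cs (isCartan n) x) (h0 : 0 ≤ x)
    (hxo : 0 < x o) : ∃ b, Ok (o, true) b ∧ x = rt (o, true) b := by
  obtain ⟨a, b, ha, hab, hok, e⟩ := TwC.exists_pos hx h0
  have h1 := TwC.coef e o
  have hao : a.1 = o := by
    by_contra hne
    have h2 : ¬ a.1 ≤ o := fun h => hne (Fin.ext (by have := Fin.le_def.1 h; omega))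
    have h3 : ¬ b.1 ≤ o := fun h => h2 (hab.trans h)
    rw [if_neg h2, if_neg h3, add_zero] at h1
    split_ifs at h1 <;> omega
  have ha' : a = (o, true) := Prod.ext hao ha
  subst ha'
  exact ⟨b, hok, eq_rt e⟩

/-- the roots with positive last coefficient -/
theorem last_form {l : Fin n} (hl : (l : ℕ) + 1 = n) {x : Fin n → ℤ} (hx : IsRoot cs (isCartan n) x) (h0 : 0 ≤ x)
    (hxl : 0 < x l) : ∃ i j, x = rt (i, true) (j, true) := by
  obtain ⟨a, b, ha, hab, hok, e⟩ := TwC.exists_pos hx h0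
  have h1 := TwC.coef e l
  have h2 : a.1 ≤ l := by rw [Fin.le_def]; have := a.1.2; omega
  have h3 : b.1 ≤ l := by rw [Fin.le_def]; have := b.1.2; omega
  rw [if_neg (by omega), if_pos h2, if_pos h3, ha] at h1
  have hb : b.2 = true := by
    by_contra hb
    rw [Bool.not_eq_true] at hb
    rw [hb] at h1
    simp only [TwC.sn] at h1
    simp at h1
    omega
  refine ⟨a.1, b.1, ?_⟩
  rw [← ha, show ((b.1, a.2) : Fin n × Bool) = b from Prod.ext rfl (by rw [ha, hb])]
  exact eq_rt e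

theorem coef_zero {o : Fin n} (ho : (o : ℕ) = 0) {a b : Fin n × Bool} (ha : a.1 ≠ o) (hb : b.1 ≠ o) :
    rt a b o = 0 := by
  have h1 := TwC.coef (ee_rt a b) o
  have h2 : ¬ a.1 ≤ o := fun h => ha (Fin.ext (by have := Fin.le_def.1 h; omega))
  have h3 : ¬ b.1 ≤ o := fun h => hb (Fin.ext (by have := Fin.le_def.1 h; omega))
  rw [if_neg h2, if_neg h3, add_zero] at h1
  split_ifs at h1 <;> omega

theorem coef_last {l : Fin n} (hl : (l : ℕ) + 1 = n) {i j : Fin n} {s : Bool} : rt (i, s) (j, !s) l = 0 := by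
  have h1 := TwC.coef (ee_rt (i, s) (j, !s)) l
  have h2 : i ≤ l := by rw [Fin.le_def]; have := i.2; omega
  have h3 : j ≤ l := by rw [Fin.le_def]; have := j.2; omega
  rw [if_neg (by omega)] at h1
  simp only at h1
  rw [if_pos h2, if_pos h3] at h1
  cases s <;> simp only [TwC.sn, Bool.not_false, Bool.not_true, if_true] at h1 ⊢ <;> simp at h1 <;> omega

end Cfsg.Agent.Omega.EH3.Kf.SpTwo

end

section


/-!
# `Sp_2n(2)`, `n ≥ 3`: the case `Mv = {α_1}` (helper532)

`X0 = R = ⟨X (e_1 ± e_j), X (2 e_1)⟩`; `(u (2e_1) - 1) (mu (2e_1) a) = a`, and this contradicts (X4).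
-/

set_option autoImplicit false
set_option linter.unusedSectionVars false

namespace Cfsg.Agent.Omega.EH3.Kf.SpTwo

open CoxeterSystem Cfsg.Agent.ChevalleyStructure.CoxeterGeom Cfsg.Agent.Tits.Roots Cfsg.Agent.Tits.Core
  Cfsg.Agent.Tits.RootComb Cfsg.Agent.Nodes.Comb Cfsg.Agent.Nodes.Reps Cfsg.Agent.Nodes.BNOf
  Cfsg.Agent.Nodes.StabComb Cfsg.Agent.Nodes.Bruhat Cfsg.Agent.Nodes.OppDec Cfsg.Agent.Nodes.LeviDec
  Cfsg.Agent.Nodes.Coroot Cfsg.Agent.Nodes.TypeC Cfsg.Agent.Nodes.TypeCForm Cfsg.Agent.Nodes.KindBC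
  Cfsg.Agent.Omega.EH3.Kf.Base Cfsg.Agent.Omega.EH3.Kf.Nm Cfsg.Agent.Omega.EH3.Kf.Two
  Cfsg.Agent.Omega.EH3.Kf.TwoV
open scoped commutatorElement

variable {n : ℕ} {W Y : Type*} [Group W] [Group Y] {cs : CoxeterSystem (CoxeterMatrix.B n) W}
  {T : Subgroup Y} {nn : Fin n → Y} {X : (Fin n → ℤ) → Subgroup Y}
  {V : Type*} [AddCommGroup V] [Module (ZMod 2) V] {ρ : Y →* (V ≃ₗ[ZMod 2] V)} {a : V}
  {b : LinearMap.BilinForm (ZMod 2) V} {DD : Submodule (ZMod 2) V} {X0 : Subgroup Y} {w0 : ℕ}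

section

variable [Finite W] [Finite Y] (D : Dat cs (isCartan n) T nn X)
  (R : Row cs (isCartan n) T nn X ρ b a DD X0 w0) {o : Fin n} (ho : (o : ℕ) = 0) (hK : Mv ρ nn a = {o})

include D R ho hK

theorem F_fixJ {c d : Fin n × Bool} (hok : Ok c d) (hc : c.1 ≠ o) (hd : d.1 ≠ o) : ρ (E X c d) a = a := by
  refine fix_J D R ⟨isRoot_rt cs hok, fun k hk => ?_⟩
  rw [hK] at hk
  have hk' : k = o := not_not.1 hk
  subst hk'
  exact coef_zero ho hc hd

omit hK in
theorem F_fixP {d : Fin n × Bool} (hok : Ok (o, true) d) : ρ (E X (o, true) d) a = a :=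
  fix_pos D R (isRoot_rt cs hok) (TwC.nonneg_of (ee_rt _ _) rfl (Fin.le_def.2 (by simp only; omega)))

omit D R in
theorem F_form {r : Fin n → ℤ} (hr : r ∈ NotJ cs (isCartan n) (Mv ρ nn a)ᶜ) :
    ∃ c, Ok (o, true) c ∧ r = rt (o, true) c := by
  obtain ⟨k, hk, hk0⟩ := hr.2.2
  rw [hK] at hk
  have hk' : k = o := not_not.1 hk
  subst hk'
  exact first_form ho hr.1 hr.2.1 hk0

/-- the elements `u (e_1 + e_2) u (2 e_1)`, `u (e_1 + e_3)` of `X0` -/
theorem F_mem (p q : Fin n) (hp : (p : ℕ) = 1) (hq : (q : ℕ) = 2) :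
    E X (o, true) (p, true) * E X (o, true) (o, true) ∈ X0 ∧ E X (o, true) (q, true) ∈ X0 := by
  have hop : o ≠ p := fun e => by rw [e] at ho; omega
  have hoq : o ≠ q := fun e => by rw [e] at ho; omega
  have hpq : p ≠ q := fun e => by rw [e] at hp; omega
  have hko : o ∈ Mv ρ nn a := by rw [hK]; rfl
  obtain ⟨s, hs, hx⟩ := exists_x D R hko
  have hso : (sr o : Fin n → ℤ) = rt (o, true) (p, false) := by
    rw [sr_eq_rt, nx, dif_pos (by have := q.2; omega)]
    congr 2
    exact Fin.ext (by simp only; omega)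
  rw [hso] at hx
  change E X (o, true) (p, false) * s ∈ X0 at hx
  set g := E X (p, true) (p, true) with hg
  have hgfix : ρ g a = a := F_fixJ D R ho hK (Or.inr rfl) hop.symm hop.symm
  have hsg : s * g = g * s := by
    refine comm_of_gen ?_ s hs
    rintro r ⟨hr1, hr2⟩ a' ha'
    obtain ⟨c, hok, rfl⟩ := F_form ho hK hr2
    have hc : c ≠ (p, false) := by
      rintro rfl
      obtain ⟨k, hk, hk0⟩ := hr1.2.2
      rw [← hso, sr_ne (fun e => hk (by rw [e]; rfl))] at hk0
      exact absurd hk0 (lt_irrefl _)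
    rcases (D.mem_iff (isRoot_rt cs hok)).1 ha' with rfl | rfl
    · rw [one_mul, mul_one]
    · refine comm_E D hok (Or.inr rfl) ?_ ?_ hc hc <;> exact fun e => hop (congrArg Prod.fst e)
  have h1 : ⁅E X (o, true) (p, false) * s, g⁆ ∈ X0 := comm_mem_X0 R hx hgfix
  rw [comm_mul_left hsg] at h1
  have h2 : ⁅E X (o, true) (p, false), g⁆ = (E X (o, true) (p, true) * E X (o, true) (o, true))⁻¹ := by
    have h3 := comm_B2 D (a := (p, true)) (b := (o, true)) hop.symm
    rw [E_comm (o, true) (p, false), E_comm (o, true) (p, true), ← h3, commutatorElement_inv]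
    rfl
  rw [h2] at h1
  have h3 := inv_mem h1
  rw [inv_inv] at h3
  refine ⟨h3, ?_⟩
  have h4 : ρ (E X (p, false) (q, true)) a = a := F_fixJ D R ho hK (Or.inl hpq) hop.symm hoq.symm
  have h5 := comm_mem_X0 R h3 h4
  have h6 : E X (o, true) (o, true) * E X (p, false) (q, true) = E X (p, false) (q, true) * E X (o, true) (o, true) := by
    refine comm_E D (Or.inr rfl) (Or.inl hpq) ?_ ?_ ?_ ?_
    · exact fun e => hop (congrArg Prod.fst e)
    · exact fun e => hoq (congrArg Prod.fst e)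
    · exact fun e => hop (congrArg Prod.fst e)
    · exact fun e => hoq (congrArg Prod.fst e)
  rw [comm_mul_left h6] at h5
  have h7 := comm_A2 D (a := (o, true)) (b := (p, true)) (c := (q, true)) hop hpq hoq
  rw [← h7]
  exact h5

/-- `X0` contains all `u (e_1 ± e_j)`, `u (2 e_1)` -/
theorem F_all (hn : 3 ≤ n) {c : Fin n × Bool} (hok : Ok (o, true) c) : E X (o, true) c ∈ X0 := by
  set p : Fin n := ⟨1, by omega⟩ with hp
  set q : Fin n := ⟨2, by omega⟩ with hq
  have hop : o ≠ p := fun e => by rw [e] at ho; simp [hp] at ho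
  have hoq : o ≠ q := fun e => by rw [e] at ho; simp [hq] at ho
  have hpq : p ≠ q := fun e => by rw [hp, hq, Fin.mk.injEq] at e; omega
  obtain ⟨h1, h2⟩ := F_mem D R ho hK p q rfl rfl
  -- passing from one index to another
  have step : ∀ {c d : Fin n × Bool}, c.1 ≠ o → d.1 ≠ o → c.1 ≠ d.1 → E X (o, true) c ∈ X0 → E X (o, true) d ∈ X0 := by
    intro c d hc hd hcd hm
    have h3 := refl_mem D R (isRoot_rt cs (Or.inl (Ne.symm hc) : Ok (o, true) c))
      (isRoot_rt cs (Or.inl hcd : Ok (ng c) d))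
      (F_fixJ D R ho hK (Or.inl hcd : Ok (ng c) d) hc hd)
      (by rw [neg_rt]; exact F_fixJ D R ho hK (Or.inl hcd : Ok (ng (ng c)) (ng d)) hc hd) hm
    rw [refl_short (Ne.symm hc) hcd (Ne.symm hd)] at h3
    exact h3
  have hq' : ∀ {d : Fin n × Bool}, d.1 ≠ o → E X (o, true) d ∈ X0 := by
    intro d hd
    by_cases hdq : d.1 = q
    · have h3 : E X (o, true) (p, true) ∈ X0 := step hoq.symm hop.symm (Ne.symm hpq) h2
      exact step hop.symm hd (by rw [hdq]; exact hpq) h3
    · exact step hoq.symm hd (Ne.symm hdq) h2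
  by_cases hc : c.1 = o
  · rcases hok with hok | rfl
    · exact absurd hc.symm hok
    · exact (mul_mem_cancel_left (hq' (d := (p, true)) hop.symm)).1 h1
  · exact hq' hc

/-- `(u r - 1) (mu r a) = a` for the roots `r = e_1 ± e_j` -/
theorem F_Mr (hn : 3 ≤ n) {c : Fin n × Bool} (hc : c.1 ≠ o) : Mr X ρ a (rt (o, true) c) := by
  set p : Fin n := ⟨1, by omega⟩ with hp
  set q : Fin n := ⟨2, by omega⟩ with hq
  have hop : o ≠ p := fun e => by rw [e] at ho; simp [hp] at ho
  have hoq : o ≠ q := fun e => by rw [e] at ho; simp [hq] at ho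
  have hpq : p ≠ q := fun e => by rw [hp, hq, Fin.mk.injEq] at e; omega
  have hko : o ∈ Mv ρ nn a := by rw [hK]; rfl
  have hso : (sr o : Fin n → ℤ) = rt (o, true) (p, false) := by
    rw [sr_eq_rt, nx, dif_pos (by omega)]
    congr 2
    exact Fin.ext (by simp only [hp]; omega)
  have h0 : Mr X ρ a (rt (o, true) (p, false)) := by
    rw [← hso]
    exact Mr.base D R.core hko
  have step : ∀ {c d : Fin n × Bool}, c.1 ≠ o → d.1 ≠ o → c.1 ≠ d.1 → Mr X ρ a (rt (o, true) c) →
      Mr X ρ a (rt (o, true) d) := by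
    intro c d hc hd hcd hm
    have h3 := Mr.refl D (isRoot_rt cs (Or.inl (Ne.symm hc) : Ok (o, true) c))
      (isRoot_rt cs (Or.inl hcd : Ok (ng c) d))
      (F_fixJ D R ho hK (Or.inl hcd : Ok (ng c) d) hc hd)
      (by rw [neg_rt]; exact F_fixJ D R ho hK (Or.inl hcd : Ok (ng (ng c)) (ng d)) hc hd) hm
    rwa [refl_short (Ne.symm hc) hcd (Ne.symm hd)] at h3
  by_cases hdp : c.1 = p
  · have h3 : Mr X ρ a (rt (o, true) (q, true)) := step hop.symm hoq.symm hpq h0
    exact step hoq.symm hc (by rw [hdp]; exact Ne.symm hpq) h3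
  · exact step hop.symm hc (Ne.symm hdp) h0

/-- **the relation** : `(u (2 e_1) - 1) (mu (2 e_1) a) = a` -/
theorem F_rel (hn : 3 ≤ n) : Mr X ρ a (rt (o, true) (o, true)) := by
  set p : Fin n := ⟨1, by omega⟩ with hp
  have hop : o ≠ p := fun e => by rw [e] at ho; simp [hp] at ho
  set r : Fin n → ℤ := rt (o, true) (o, true) with hr
  have hrr : IsRoot cs (isCartan n) r := isRoot_rt cs (Or.inr rfl)
  have hta : ρ (u X r) a = a := F_fixP D R ho (Or.inr rfl)
  set z : V := ρ (mu X r) a with hz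
  set σ : V := a + z + ρ (u X r) z with hσ
  -- `σ` is fixed by `X0`
  have hfix : ∀ c, Ok (o, true) c → ρ (E X (o, true) c) σ = σ := by
    intro c hok
    by_cases hc : c.1 = o
    · have hc' : (o, true) = c := by
        rcases hok with h1 | h1
        · exact absurd hc.symm h1
        · exact h1
      rw [← hc']
      show ρ (u X r) σ = σ
      rw [hσ, map_add, map_add, hta, ← rho_mul (u X r) (u X r), D.u_sq hrr, rho_one]
      abel
    · -- the root `β = e_1 - c`
      have hβ : IsRoot cs (isCartan n) (rt (o, true) (ng c)) := isRoot_rt cs (Or.inl (Ne.symm hc))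
      have hcc : IsRoot cs (isCartan n) (rt c c) := isRoot_rt cs (Or.inr rfl)
      have hM : Mr X ρ a (rt (o, true) (ng c)) := F_Mr D R ho hK hn (c := ng c) hc
      have hβn := hM.neg D hβ
      set v : V := ρ (mu X (rt (o, true) (ng c))) a with hv
      have hcf : ρ (u X (rt c c)) a = a := F_fixJ D R ho hK (Or.inr rfl) hc hc
      have hcf' : ρ (u X (-rt c c)) a = a := by
        rw [neg_rt]; exact F_fixJ D R ho hK (Or.inr rfl) hc hc
      -- `mu β` maps `2 c` to `2 e_1`
      have hrefl : rt c c - cpr cs (isCartan n) (rt c c) (rt (o, true) (ng c)) • rt (o, true) (ng c) = r := by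
        have h1 := refl_long (cs := cs) (a := c) (b := (o, true)) hc
        rwa [rt_comm (ng c) (o, true)] at h1
      have m1 : ρ (mu X r) v = v := by
        rw [hv, ← hrefl, ← mu_conj_mu D hβ hcc, rho_mul, rho_mul, ← rho_mul (mu X (rt (o, true) (ng c)))⁻¹,
          inv_mul_cancel, rho_one, mu_fix hcf hcf']
      have m2 : ρ (u X r) v = v := by
        rw [hv, ← hrefl, ← mu_conj D hβ hcc, rho_mul, rho_mul, ← rho_mul (mu X (rt (o, true) (ng c)))⁻¹,
          inv_mul_cancel, rho_one, hcf]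
      -- `y = u (e_1 + c)`
      set y := E X (o, true) c with hy
      have hroot : IsRoot cs (isCartan n) (rt (o, true) c) := isRoot_rt cs (Or.inl (Ne.symm hc))
      have hrefl2 : rt (o, true) c - cpr cs (isCartan n) (rt (o, true) c) r • r = -rt (o, true) (ng c) := by
        rw [neg_rt, ng_ng, hr, cpr_EE, dt_self, dt_ne hc]
        apply ee_injective
        rw [sub_eq_add_neg, ee_add, ee_neg, ee_smul, ee_rt, ee_rt, ee_rt, wt_ng]
        module
      have hyz : ρ y z = z + v := by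
        have h1 : y * mu X r = mu X r * u X (-rt (o, true) (ng c)) := by
          rw [← hrefl2, ← mu_conj D hrr hroot, mu_inv D hrr]
          calc y * mu X r = (mu X r * mu X r) * y * mu X r := by rw [mu_sq D hrr, one_mul]
            _ = mu X r * (mu X r * y * mu X r) := by group
        rw [hz, ← rho_mul, h1, rho_mul, hβn, map_add, m1, add_comm]
      have hya : ρ y a = a := F_fixP D R ho hok
      have hty : y * u X r = u X r * y := by
        refine comm_E D hok (Or.inr rfl) ?_ ?_ ?_ ?_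
        · exact ne_ng _
        · exact ne_ng _
        · exact fun e => hc (congrArg Prod.fst e)
        · exact fun e => hc (congrArg Prod.fst e)
      have hytz : ρ y (ρ (u X r) z) = ρ (u X r) z + v := by
        rw [← rho_mul, hty, rho_mul, hyz, map_add, m2]
      rw [hσ, map_add, map_add, hya, hyz, hytz]
      have : a + (z + v) + (ρ (u X r) z + v) = a + z + ρ (u X r) z + (v + v) := by abel
      rw [this, vv, add_zero]
  have hfix' : ∀ x ∈ X0, ρ x σ = σ := by
    have h1 : VJ cs (isCartan n) X (Mv ρ nn a)ᶜ ≤ ThmA.St ρ σ := by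
      refine RGD.Sup_le fun r' hr' g hg => ?_
      obtain ⟨c, hok, rfl⟩ := F_form ho hK hr'
      rcases (D.mem_iff (isRoot_rt cs hok)).1 hg with rfl | rfl
      · exact one_mem _
      · exact hfix c hok
    intro x hx
    exact h1 (Cov.le_VJ R hx)
  rcases R.fix σ hfix' with h0 | h0
  · -- `σ = 0`
    show ρ (u X r) z = z + a
    rw [hσ] at h0
    have h1 : ρ (u X r) z = a + z + (a + z + ρ (u X r) z) := by
      have : a + z + (a + z + ρ (u X r) z) = (a + a) + (z + z) + ρ (u X r) z := by abel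
      rw [this, vv, vv]; abel
    rw [h1, h0, add_zero, add_comm]
  · -- `σ = a`
    exfalso
    have h1 : ρ (u X r) z = z := by
      have h2 : ρ (u X r) z = a + z + (a + z + ρ (u X r) z) := by
        have : a + z + (a + z + ρ (u X r) z) = (a + a) + (z + z) + ρ (u X r) z := by abel
        rw [this, vv, vv]; abel
      rw [h2, ← hσ, h0]
      have : a + z + a = (a + a) + z := by abel
      rw [this, vv, zero_add]
    have h2 : ρ (E X (o, false) (o, false)) a = a := by
      have h3 : E X (o, false) (o, false) = mu X r * u X r * mu X r := by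
        have h4 := mu_conj D hrr hrr
        rw [mu_inv D hrr] at h4
        rw [h4, cpr_self cs _ hrr]
        show u X (rt (ng (o, true)) (ng (o, true))) = _
        rw [← neg_rt]
        congr 1
        module
      rw [h3, rho_mul, rho_mul]
      show ρ (mu X r) (ρ (u X r) z) = a
      rw [h1, hz, ← rho_mul, mu_sq D hrr, rho_one]
    have h3 : ρ (E X (o, true) (p, true)) a = a := F_fixP D R ho (Or.inl hop)
    have h4 := fix_comm h2 h3
    have h5 := comm_B2 D (a := (o, false)) (b := (p, true)) hop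
    change ⁅E X (o, false) (o, false), E X (o, true) (p, true)⁆ = _ at h5
    rw [h5] at h4
    have h6 : ρ (E X (p, true) (p, true)) a = a := F_fixJ D R ho hK (Or.inr rfl) hop.symm hop.symm
    rw [rho_mul, h6] at h4
    -- `-(e_1 - e_2)`
    have hM : Mr X ρ a (rt (o, true) (p, false)) := F_Mr D R ho hK hn (c := (p, false)) hop.symm
    have h7 := hM.neg D (isRoot_rt cs (Or.inl hop))
    rw [neg_rt] at h7
    change ρ (E X (o, false) (p, true)) a = _ at h7
    rw [h4] at h7
    have h8 : ρ (mu X (rt (o, true) (p, false))) a = 0 := by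
      have := eq_add_of h7.symm
      rw [this, vv]
    have h9 := congrArg (ρ (mu X (rt (o, true) (p, false)))⁻¹) h8
    rw [rho_inv, map_zero] at h9
    exact R.a_ne h9

/-- **the case `Mv = {α_1}`** -/
theorem first_false (hn : 3 ≤ n) : False := by
  set p : Fin n := ⟨1, by omega⟩ with hp
  have hop : o ≠ p := fun e => by rw [e] at ho; simp [hp] at ho
  set r : Fin n → ℤ := rt (o, true) (o, true) with hr
  have hrr : IsRoot cs (isCartan n) r := isRoot_rt cs (Or.inr rfl)
  have hrel : Mr X ρ a r := F_rel D R ho hK hn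
  have htX : u X r ∈ X0 := F_all D R ho hK hn (c := (o, true)) (Or.inr rfl)
  obtain ⟨w, k, hk, h1, h2⟩ := Opp.opp R (S := {r}) (by
    rintro r' rfl
    exact ⟨hrr, u X r, D.u_mem hrr, htX, D.u_ne hrr⟩)
  have h3 := h2 r rfl
  obtain ⟨f, hf, hfn, hf1⟩ := exists_perm (cs := cs) w⁻¹
  -- `w⁻¹ e_1 = -e_1`
  have hfo : f (o, true) = (o, false) := by
    obtain ⟨c, hok, e⟩ := F_form ho hK h3
    rw [hr, hf, neg_rt] at e
    have e2 := congrArg ee e
    rw [ee_rt, ee_rt] at e2
    have h4 : ng (f (o, true)) = (o, true) := by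
      rcases wt_add_eq (Or.inr rfl) hok e2 with ⟨h5, -⟩ | ⟨-, h5⟩
      · exact h5
      · exact h5
    rw [← ng_ng (f (o, true)), h4]
    rfl
  set d : V := dl ρ (u X r) (ρ k a) with hd
  have hd2 : d = ρ k (ρ (mu X r) a) := by
    have h4 : u X r * k = k * u X (-r) := by
      have h5 := D.conj_u hk.inv hrr
      rw [hr, hf, hfo, inv_inv, ← hr] at h5
      have h6 : -r = rt (o, false) (o, false) := by rw [hr, neg_rt]; rfl
      rw [h6, ← h5]; group
    rw [hd, dl, ← rho_mul, h4, rho_mul, hrel.neg D hrr, map_add, add_assoc, vv, add_zero]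
  have hfix : ∀ y ∈ X0, ρ y d = d := by
    have h4 : VJ cs (isCartan n) X (Mv ρ nn a)ᶜ ≤ ThmA.St ρ d := by
      refine RGD.Sup_le fun r' hr' g hg => ?_
      obtain ⟨c, hok, rfl⟩ := F_form ho hK hr'
      rcases (D.mem_iff (isRoot_rt cs hok)).1 hg with rfl | rfl
      · exact one_mem _
      · rw [ThmA.mem_St, hd2]
        have hroot := isRoot_rt cs hok
        have h5 := D.conj_u hk.inv hroot
        rw [hf, hfo, inv_inv] at h5
        have hokc : Ok (o, false) (f c) := by
          rcases hok with h6 | h6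
          · left
            have h7 : (f (o, true)).1 ≠ (f c).1 := fun e => h6 ((hf1 _ _).1 e)
            rwa [hfo] at h7
          · right
            rw [← h6, hfo]
        have hroot' : IsRoot cs (isCartan n) (rt (o, false) (f c)) := isRoot_rt cs hokc
        -- the reflection
        have h6 : ∃ c', Ok (o, true) c' ∧ rt (o, false) (f c) - cpr cs (isCartan n) (rt (o, false) (f c)) r • r =
            rt (o, true) c' := by
          rcases hokc with h7 | h7
          · refine ⟨f c, Or.inl h7, ?_⟩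
            rw [hr, cpr_EE, show ((o, false) : Fin n × Bool) = ng (o, true) from rfl, dt_ng_left, dt_self,
              dt_ne (c := (o, true)) (Ne.symm h7)]
            apply ee_injective
            rw [sub_eq_add_neg, ee_add, ee_neg, ee_smul, ee_rt, ee_rt, ee_rt, wt_ng]
            module
          · refine ⟨(o, true), Or.inr rfl, ?_⟩
            rw [← h7, hr, cpr_EE, show ((o, false) : Fin n × Bool) = ng (o, true) from rfl, dt_ng_left, dt_self]
            apply ee_injective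
            rw [sub_eq_add_neg, ee_add, ee_neg, ee_smul, ee_rt, ee_rt, wt_ng]
            module
        obtain ⟨c', hokc', ec'⟩ := h6
        have h7 := mu_conj D hrr hroot'
        rw [ec', mu_inv D hrr] at h7
        have h8 : u X (rt (o, true) c) * (k * mu X r) = k * mu X r * u X (rt (o, true) c') := by
          rw [← h7, ← h5]
          calc u X (rt (o, true) c) * (k * mu X r) = k * 1 * (k⁻¹ * u X (rt (o, true) c) * k) * mu X r := by group
            _ = k * (mu X r * mu X r) * (k⁻¹ * u X (rt (o, true) c) * k) * mu X r := by rw [mu_sq D hrr]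
            _ = _ := by group
        rw [← rho_mul k, ← rho_mul, h8, rho_mul,
          show ρ (u X (rt (o, true) c')) a = a from F_fixP D R ho hokc']
    intro y hy
    exact h4 (Cov.le_VJ R hy)
  obtain ⟨y, hy, t, ht, h4⟩ := R.tri (u X r) htX (D.u_ne hrr) _ h1
  apply h4
  rw [← hd]
  have h5 : dl ρ y d = 0 := by rw [dl, hfix y hy, vv]
  rw [h5, map_zero, LinearMap.zero_apply]

end

end Cfsg.Agent.Omega.EH3.Kf.SpTwo

end

section


/-!
# `Sp_2n(2)`, `n ≥ 3`: the case `Mv = {α_n}` (helper532)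

`X0 = ⟨X (e_i + e_j), X (2 e_i)⟩`; `n ≥ 4` is impossible by the filtration, `n = 3` by (X4).
-/

set_option autoImplicit false
set_option linter.unusedSectionVars false

namespace Cfsg.Agent.Omega.EH3.Kf.SpTwo

open CoxeterSystem Cfsg.Agent.ChevalleyStructure.CoxeterGeom Cfsg.Agent.Tits.Roots Cfsg.Agent.Tits.Core
  Cfsg.Agent.Tits.RootComb Cfsg.Agent.Nodes.Comb Cfsg.Agent.Nodes.Reps Cfsg.Agent.Nodes.BNOf
  Cfsg.Agent.Nodes.StabComb Cfsg.Agent.Nodes.Bruhat Cfsg.Agent.Nodes.OppDec Cfsg.Agent.Nodes.LeviDec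
  Cfsg.Agent.Nodes.Coroot Cfsg.Agent.Nodes.TypeC Cfsg.Agent.Nodes.TypeCForm Cfsg.Agent.Nodes.KindBC
  Cfsg.Agent.Omega.EH3.Kf.Base Cfsg.Agent.Omega.EH3.Kf.Nm Cfsg.Agent.Omega.EH3.Kf.Two
  Cfsg.Agent.Omega.EH3.Kf.TwoV
open scoped commutatorElement

variable {n : ℕ} {W Y : Type*} [Group W] [Group Y] {cs : CoxeterSystem (CoxeterMatrix.B n) W}
  {T : Subgroup Y} {nn : Fin n → Y} {X : (Fin n → ℤ) → Subgroup Y}
  {V : Type*} [AddCommGroup V] [Module (ZMod 2) V] {ρ : Y →* (V ≃ₗ[ZMod 2] V)} {a : V}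
  {b : LinearMap.BilinForm (ZMod 2) V} {DD : Submodule (ZMod 2) V} {X0 : Subgroup Y} {w0 : ℕ}

theorem ok_pp (i j : Fin n) (s : Bool) : Ok (i, s) (j, s) := by
  by_cases h : i = j
  · right; rw [h]
  · left; exact h

/-- the reflection element of `2 e_i` -/
noncomputable def NN (X : (Fin n → ℤ) → Subgroup Y) (i : Fin n) : Y := mu X (rt (i, true) (i, true))

section

variable [Finite W] (D : Dat cs (isCartan n) T nn X)

include D

theorem NN_sq (i : Fin n) : NN X i * NN X i = 1 := mu_sq D (isRoot_rt cs (Or.inr rfl))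

theorem NN_inv (i : Fin n) : (NN X i)⁻¹ = NN X i := mu_inv D (isRoot_rt cs (Or.inr rfl))

/-- `NN i` and root elements not involving `i` -/
theorem NN_comm {i : Fin n} {c d : Fin n × Bool} (hok : Ok c d) (hc : c.1 ≠ i) (hd : d.1 ≠ i) :
    E X c d * NN X i = NN X i * E X c d := by
  refine (mu_comm_u D (isRoot_rt cs (Or.inr rfl)) (isRoot_rt cs hok) ?_).symm
  rw [cpr_EE, dt_ne (c := (i, true)) hc, dt_ne (c := (i, true)) hd, add_zero]

/-- `NN i` and root elements involving `i` -/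
theorem NN_E {i : Fin n} {s : Bool} {c : Fin n × Bool} (hc : c.1 ≠ i) :
    E X (i, s) c * NN X i = NN X i * E X (i, !s) c := by
  have h1 := mu_conj D (isRoot_rt cs (Or.inr rfl : Ok ((i, true) : Fin n × Bool) (i, true)))
    (isRoot_rt cs (Or.inl (Ne.symm hc) : Ok (i, s) c))
  have h2 : rt (i, s) c - cpr cs (isCartan n) (rt (i, s) c) (rt (i, true) (i, true)) • rt (i, true) (i, true) =
      rt (i, !s) c := by
    rw [cpr_EE, dt_ne (c := (i, true)) hc]
    apply ee_injective
    cases s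
    · rw [show ((i, false) : Fin n × Bool) = ng (i, true) from rfl, dt_ng_left, dt_self, sub_eq_add_neg, ee_add,
        ee_neg, ee_smul, ee_rt, ee_rt, ee_rt, wt_ng, Bool.not_false]
      module
    · rw [dt_self, sub_eq_add_neg, ee_add, ee_neg, ee_smul, ee_rt, ee_rt, ee_rt, Bool.not_true,
        show ((i, false) : Fin n × Bool) = ng (i, true) from rfl, wt_ng]
      module
  rw [h2] at h1
  show u X (rt (i, s) c) * mu X (rt (i, true) (i, true)) = mu X (rt (i, true) (i, true)) * u X (rt (i, !s) c)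
  rw [← h1]
  have h3 := NN_sq D i
  have h4 := NN_inv D i
  unfold NN at h3 h4
  rw [h4]
  calc u X (rt (i, s) c) * mu X (rt (i, true) (i, true)) = (mu X (rt (i, true) (i, true)) *
        mu X (rt (i, true) (i, true))) * (u X (rt (i, s) c) * mu X (rt (i, true) (i, true))) := by rw [h3, one_mul]
    _ = _ := by group

theorem NN_comm_NN {i j : Fin n} (hij : i ≠ j) : NN X i * NN X j = NN X j * NN X i := by
  have h1 := mu_conj_mu D (isRoot_rt cs (Or.inr rfl : Ok ((i, true) : Fin n × Bool) (i, true)))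
    (isRoot_rt cs (Or.inr rfl : Ok ((j, true) : Fin n × Bool) (j, true)))
  rw [cpr_EE, dt_ne (c := (i, true)) (Ne.symm hij), add_zero, zero_smul, sub_zero] at h1
  exact mul_inv_eq_iff_eq_mul.1 h1

end

section

variable [Finite W] [Finite Y] (D : Dat cs (isCartan n) T nn X)
  (R : Row cs (isCartan n) T nn X ρ b a DD X0 w0) {l : Fin n} (hl : (l : ℕ) + 1 = n) (hK : Mv ρ nn a = {l})

include D R hl hK

theorem L_fix {i j : Fin n} {s : Bool} (hij : i ≠ j) : ρ (E X (i, s) (j, !s)) a = a := by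
  refine fix_J D R ⟨isRoot_rt cs (Or.inl hij), fun k hk => ?_⟩
  rw [hK] at hk
  have hk' : k = l := not_not.1 hk
  subst hk'
  exact coef_last hl

omit hl hK in
theorem L_fixP (i j : Fin n) : ρ (E X (i, true) (j, true)) a = a := by
  rcases le_total i j with h | h
  · exact fix_pos D R (isRoot_rt cs (ok_pp i j true)) (TwC.nonneg_of (ee_rt _ _) rfl h)
  · rw [E_comm]
    exact fix_pos D R (isRoot_rt cs (ok_pp j i true)) (TwC.nonneg_of (ee_rt _ _) rfl h)

omit D R in
theorem L_form {r : Fin n → ℤ} (hr : r ∈ NotJ cs (isCartan n) (Mv ρ nn a)ᶜ) :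
    ∃ i j, r = rt (i, true) (j, true) := by
  obtain ⟨k, hk, hk0⟩ := hr.2.2
  rw [hK] at hk
  have hk' : k = l := not_not.1 hk
  subst hk'
  exact last_form hl hr.1 hr.2.1 hk0

omit R hl hK in
theorem L_comm (i j i' j' : Fin n) : E X (i, true) (j, true) * E X (i', true) (j', true) =
    E X (i', true) (j', true) * E X (i, true) (j, true) := by
  refine comm_E D (ok_pp _ _ _) (ok_pp _ _ _) ?_ ?_ ?_ ?_ <;> exact fun e => by simp [ng] at e

/-- the roots `e_i + e_k`, `i ≠ k`, `i, k ≠ l` -/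
def QQ (l : Fin n) : Set (Fin n → ℤ) := {r | ∃ i k, i ≠ k ∧ i ≠ l ∧ k ≠ l ∧ r = rt (i, true) (k, true)}

theorem L_y {j : Fin n} (hj : j ≠ l) : ∃ q ∈ RGD.Sup X (QQ l),
    q * (E X (l, true) (j, true) * E X (j, true) (j, true)) ∈ X0 := by
  have hkl : l ∈ Mv ρ nn a := by rw [hK]; rfl
  obtain ⟨s, hs, hx⟩ := exists_x D R hkl
  have hso : (sr l : Fin n → ℤ) = rt (l, true) (l, true) := by
    rw [sr_eq_rt, nx, dif_neg (by omega)]
  rw [hso] at hx
  change E X (l, true) (l, true) * s ∈ X0 at hx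
  set g := E X (j, true) (l, false) with hg
  have hgfix : ρ g a = a := L_fix D R hl hK hj
  have hcomm : ∀ i k, ∀ a' ∈ X (rt (i, true) (k, true)), ∀ q ∈ RGD.Sup X (QQ l), a' * q = q * a' := by
    intro i k a' ha' q hq
    rcases (D.mem_iff (isRoot_rt cs (ok_pp i k true))).1 ha' with rfl | rfl
    · rw [one_mul, mul_one]
    · refine (comm_of_gen ?_ q hq).symm
      rintro r ⟨i', k', -, -, -, rfl⟩ a'' ha''
      rcases (D.mem_iff (isRoot_rt cs (ok_pp i' k' true))).1 ha'' with rfl | rfl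
      · rw [one_mul, mul_one]
      · exact L_comm D i' k' i k
  have hmemQ : ∀ i k, i ≠ k → i ≠ l → k ≠ l → E X (i, true) (k, true) ∈ RGD.Sup X (QQ l) := by
    intro i k h1 h2 h3
    exact RGD.le_Sup (show rt (i, true) (k, true) ∈ QQ l from ⟨i, k, h1, h2, h3, rfl⟩)
      (D.u_mem (isRoot_rt cs (ok_pp i k true)))
  have hgen : ∀ k, k ≠ l → ⁅E X (k, true) (l, true), g⁆ ∈ RGD.Sup X (QQ l) := by
    intro k hk
    by_cases hkj : k = j
    · subst hkj
      have h1 : E X (k, true) (l, true) * g = g * E X (k, true) (l, true) :=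
        comm_flip D (a := (k, true)) (b := (l, true)) hk
      rw [commutatorElement_eq_one_iff_mul_comm.2 h1]
      exact one_mem _
    · have h1 := comm_A2 D (a := (k, true)) (b := (l, true)) (c := (j, true)) hk (Ne.symm hj) hkj
      rw [hg, E_comm (j, true) (l, false)]
      change ⁅E X (k, true) (l, true), E X (l, false) (j, true)⁆ = _ at h1
      rw [h1]
      exact hmemQ k j hkj hk hj
  have hsg : ⁅s, g⁆ ∈ RGD.Sup X (QQ l) := by
    refine comm_Sup ?_ ?_ s hs
    · rintro r ⟨-, hr2⟩ a' ha' q hq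
      obtain ⟨i, k, rfl⟩ := L_form hl hK hr2
      exact hcomm i k a' ha' q hq
    · rintro r ⟨hr1, hr2⟩ a' ha'
      obtain ⟨i, k, rfl⟩ := L_form hl hK hr2
      rcases (D.mem_iff (isRoot_rt cs (ok_pp i k true))).1 ha' with rfl | rfl
      · rw [commutatorElement_one_left]; exact one_mem _
      change ⁅E X (i, true) (k, true), g⁆ ∈ _
      by_cases hil : i = l
      · by_cases hkl' : k = l
        · exfalso
          rw [hil, hkl', ← hso] at hr1
          obtain ⟨k', hk', hk0⟩ := hr1.2.2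
          rw [sr_ne (fun e => hk' (by rw [e]; rfl))] at hk0
          exact absurd hk0 (lt_irrefl _)
        · rw [hil, E_comm]
          exact hgen k hkl'
      · by_cases hkl' : k = l
        · rw [hkl']
          exact hgen i hil
        · have h1 : E X (i, true) (k, true) * g = g * E X (i, true) (k, true) := by
            refine comm_E D (ok_pp _ _ _) (Or.inl hj) ?_ ?_ ?_ ?_
            · exact fun e => by simp [ng] at e
            · exact fun e => hil (congrArg Prod.fst e)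
            · exact fun e => by simp [ng] at e
            · exact fun e => hkl' (congrArg Prod.fst e)
          rw [commutatorElement_eq_one_iff_mul_comm.2 h1]
          exact one_mem _
  refine ⟨⁅s, g⁆, hsg, ?_⟩
  have h1 := comm_mem_X0 R hx hgfix
  have h2 : ⁅E X (l, true) (l, true) * s, g⁆ = E X (l, true) (l, true) * ⁅s, g⁆ * (E X (l, true) (l, true))⁻¹ *
      ⁅E X (l, true) (l, true), g⁆ := by
    rw [commutatorElement_def, commutatorElement_def, commutatorElement_def]; group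
  have h3 := comm_B2 D (a := (l, true)) (b := (j, true)) (Ne.symm hj)
  change ⁅E X (l, true) (l, true), E X (l, false) (j, true)⁆ = _ at h3
  have h5 : E X (l, true) (l, true) * ⁅s, g⁆ = ⁅s, g⁆ * E X (l, true) (l, true) :=
    hcomm l l _ (D.u_mem (isRoot_rt cs (ok_pp l l true))) _ hsg
  have h6 : ⁅E X (l, true) (l, true), g⁆ = E X (l, true) (j, true) * E X (j, true) (j, true) := by
    rw [hg, E_comm (j, true) (l, false), h3]
  rw [h2, h5, h6] at h1
  have h4 : ⁅s, g⁆ * E X (l, true) (l, true) * (E X (l, true) (l, true))⁻¹ *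
      (E X (l, true) (j, true) * E X (j, true) (j, true)) =
      ⁅s, g⁆ * (E X (l, true) (j, true) * E X (j, true) (j, true)) := by group
  rw [← h4]
  exact h1

theorem L_short {i j : Fin n} (hij : i ≠ j) (hi : i ≠ l) (hj : j ≠ l) : E X (j, true) (i, true) ∈ X0 := by
  obtain ⟨q, hq, hy⟩ := L_y D R hl hK hj
  set g := E X (i, true) (l, false) with hg
  have hgfix : ρ g a = a := L_fix D R hl hK hi
  have h1 := comm_mem_X0 R hy hgfix
  have c1 : E X (j, true) (j, true) * g = g * E X (j, true) (j, true) := by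
    refine comm_E D (ok_pp _ _ _) (Or.inl hi) ?_ ?_ ?_ ?_
    · exact fun e => by simp [ng] at e
    · exact fun e => hj (congrArg Prod.fst e)
    · exact fun e => by simp [ng] at e
    · exact fun e => hj (congrArg Prod.fst e)
  have c2 : q * g = g * q := by
    refine comm_of_gen ?_ q hq
    rintro r ⟨i', k', h1, h2, h3, rfl⟩ a' ha'
    rcases (D.mem_iff (isRoot_rt cs (ok_pp i' k' true))).1 ha' with rfl | rfl
    · rw [one_mul, mul_one]
    · refine comm_E D (ok_pp _ _ _) (Or.inl hi) ?_ ?_ ?_ ?_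
      · exact fun e => by simp [ng] at e
      · exact fun e => h2 (congrArg Prod.fst e)
      · exact fun e => by simp [ng] at e
      · exact fun e => h3 (congrArg Prod.fst e)
  have c3 : q * E X (j, true) (i, true) = E X (j, true) (i, true) * q := by
    refine comm_of_gen ?_ q hq
    rintro r ⟨i', k', h1, h2, h3, rfl⟩ a' ha'
    rcases (D.mem_iff (isRoot_rt cs (ok_pp i' k' true))).1 ha' with rfl | rfl
    · rw [one_mul, mul_one]
    · exact L_comm D _ _ _ _
  rw [← mul_assoc, comm_mul_left c1] at h1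
  have h2 : ⁅q * E X (l, true) (j, true), g⁆ = q * ⁅E X (l, true) (j, true), g⁆ * q⁻¹ * ⁅q, g⁆ := by
    rw [commutatorElement_def, commutatorElement_def, commutatorElement_def]; group
  have h3 := comm_A2 D (a := (j, true)) (b := (l, true)) (c := (i, true)) hj (Ne.symm hi) (Ne.symm hij)
  change ⁅E X (j, true) (l, true), E X (l, false) (i, true)⁆ = _ at h3
  rw [h2, commutatorElement_eq_one_iff_mul_comm.2 c2, mul_one, hg, E_comm (l, true) (j, true),
    E_comm (i, true) (l, false), h3, c3, mul_inv_cancel_right] at h1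
  exact h1

/-- `X0` contains all `u (e_i + e_k)` -/
theorem L_short' (hn : 3 ≤ n) {i k : Fin n} (hik : i ≠ k) : E X (i, true) (k, true) ∈ X0 := by
  have key : ∀ i, i ≠ l → E X (i, true) (l, true) ∈ X0 := by
    intro i hi
    obtain ⟨m, hmi, hml⟩ : ∃ m : Fin n, m ≠ i ∧ m ≠ l := by
      by_cases hi0 : (i : ℕ) = 0
      · exact ⟨⟨1, by omega⟩, fun e => by rw [← e] at hi0; simp at hi0, fun e => by
          rw [← e] at hl; simp only at hl; omega⟩
      · exact ⟨⟨0, by omega⟩, fun e => hi0 (by rw [← e]), fun e => by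
          rw [← e] at hl; simp only at hl; omega⟩
    have h1 := L_short D R hl hK hmi hml hi
    have h3 := refl_mem D R (isRoot_rt cs (Or.inl (Ne.symm hmi) : Ok (i, true) (m, true)))
      (isRoot_rt cs (Or.inl hml : Ok (ng (m, true)) (l, true)))
      (L_fix D R hl hK (s := false) hml)
      (by rw [neg_rt]; exact L_fix D R hl hK (s := true) hml) h1
    rw [refl_short (Ne.symm hmi) hml hi] at h3
    exact h3
  by_cases hkl : k = l
  · subst hkl
    exact key i hik
  · by_cases hil : i = l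
    · subst hil
      rw [E_comm]
      exact key k hkl
    · exact L_short D R hl hK (Ne.symm hik) hkl hil

/-- `X0` contains all `u (2 e_i)` -/
theorem L_long (hn : 3 ≤ n) (i : Fin n) : E X (i, true) (i, true) ∈ X0 := by
  have key : ∀ i, i ≠ l → E X (i, true) (i, true) ∈ X0 := by
    intro i hi
    obtain ⟨q, hq, hy⟩ := L_y D R hl hK hi
    have hq0 : q ∈ X0 := by
      refine (RGD.Sup_le ?_ : RGD.Sup X (QQ l) ≤ X0) hq
      rintro r ⟨i', k', h1, h2, h3, rfl⟩ a' ha'
      rcases (D.mem_iff (isRoot_rt cs (ok_pp i' k' true))).1 ha' with rfl | rfl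
      · exact one_mem _
      · exact L_short' D R hl hK hn h1
    have h1 := (mul_mem_cancel_left hq0).1 hy
    exact (mul_mem_cancel_left (L_short' D R hl hK hn (Ne.symm hi))).1 h1
  by_cases hil : i = l
  · subst hil
    have h0 : (⟨0, by omega⟩ : Fin n) ≠ i := fun e => by rw [← e] at hl; simp only at hl; omega
    have h1 := key _ h0
    have h3 := refl_mem D R (isRoot_rt cs (Or.inr rfl : Ok ((⟨0, by omega⟩, true) : Fin n × Bool) (⟨0, by omega⟩, true)))
      (isRoot_rt cs (Or.inl h0 : Ok (ng (⟨0, by omega⟩, true)) (i, true)))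
      (L_fix D R hl hK (s := false) h0)
      (by rw [neg_rt]; exact L_fix D R hl hK (s := true) h0) h1
    rw [refl_long h0] at h3
    exact h3
  · exact key i hil

/-- `(u r - 1) (mu r a) = a` for the roots `r = 2 e_i` -/
theorem L_Mr (i : Fin n) : Mr X ρ a (rt (i, true) (i, true)) := by
  have hkl : l ∈ Mv ρ nn a := by rw [hK]; rfl
  have hso : (sr l : Fin n → ℤ) = rt (l, true) (l, true) := by
    rw [sr_eq_rt, nx, dif_neg (by omega)]
  have h0 : Mr X ρ a (rt (l, true) (l, true)) := by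
    rw [← hso]
    exact Mr.base D R.core hkl
  by_cases hil : i = l
  · rw [hil]; exact h0
  · have h3 := Mr.refl D (isRoot_rt cs (Or.inr rfl : Ok ((l, true) : Fin n × Bool) (l, true)))
      (isRoot_rt cs (Or.inl (Ne.symm hil) : Ok (ng (l, true)) (i, true)))
      (L_fix D R hl hK (s := false) (Ne.symm hil))
      (by rw [neg_rt]; exact L_fix D R hl hK (s := true) (Ne.symm hil)) h0
    rwa [refl_long (Ne.symm hil)] at h3

end

end Cfsg.Agent.Omega.EH3.Kf.SpTwo

end

section


/-!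
# `Sp_2n(2)`, `n ≥ 3`: the case `Mv = {α_n}`, second part (helper532)

* `L_rel` : `(u (e_p + e_q) - 1) (NN p (NN q a)) = a`;
* `last_false` : contradiction.
-/

set_option autoImplicit false
set_option linter.unusedSectionVars false

namespace Cfsg.Agent.Omega.EH3.Kf.SpTwo

open CoxeterSystem Cfsg.Agent.ChevalleyStructure.CoxeterGeom Cfsg.Agent.Tits.Roots Cfsg.Agent.Tits.Core
  Cfsg.Agent.Tits.RootComb Cfsg.Agent.Nodes.Comb Cfsg.Agent.Nodes.Reps Cfsg.Agent.Nodes.BNOf
  Cfsg.Agent.Nodes.StabComb Cfsg.Agent.Nodes.Bruhat Cfsg.Agent.Nodes.OppDec Cfsg.Agent.Nodes.LeviDec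
  Cfsg.Agent.Nodes.Coroot Cfsg.Agent.Nodes.TypeC Cfsg.Agent.Nodes.TypeCForm Cfsg.Agent.Nodes.KindBC
  Cfsg.Agent.Omega.EH3.Kf.Base Cfsg.Agent.Omega.EH3.Kf.Nm Cfsg.Agent.Omega.EH3.Kf.Two
  Cfsg.Agent.Omega.EH3.Kf.TwoV
open scoped commutatorElement

variable {n : ℕ} {W Y : Type*} [Group W] [Group Y] {cs : CoxeterSystem (CoxeterMatrix.B n) W}
  {T : Subgroup Y} {nn : Fin n → Y} {X : (Fin n → ℤ) → Subgroup Y}
  {V : Type*} [AddCommGroup V] [Module (ZMod 2) V] {ρ : Y →* (V ≃ₗ[ZMod 2] V)} {a : V}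
  {b : LinearMap.BilinForm (ZMod 2) V} {DD : Submodule (ZMod 2) V} {X0 : Subgroup Y} {w0 : ℕ}

section

variable [Finite W] [Finite Y] (D : Dat cs (isCartan n) T nn X)
  (R : Row cs (isCartan n) T nn X ρ b a DD X0 w0) {l : Fin n} (hl : (l : ℕ) + 1 = n) (hK : Mv ρ nn a = {l})

include D R hl hK

theorem NN_cancel (i : Fin n) (v : V) : ρ (NN X i) (ρ (NN X i) v) = v := by
  rw [← rho_mul, NN_sq D, rho_one]

theorem NN_swap {i j : Fin n} (hij : i ≠ j) (v : V) : ρ (NN X i) (ρ (NN X j) v) = ρ (NN X j) (ρ (NN X i) v) := by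
  rw [← rho_mul, ← rho_mul, NN_comm_NN D hij]

/-- `E (2 e_i) (NN i a) = NN i a + a` -/
theorem L_Mr' (i : Fin n) : ρ (E X (i, true) (i, true)) (ρ (NN X i) a) = ρ (NN X i) a + a := L_Mr D R hl hK i

/-- moving `NN` to the left -/
theorem E_NN {i : Fin n} {c d : Fin n × Bool} (hok : Ok c d) (hc : c.1 ≠ i) (hd : d.1 ≠ i) (v : V) :
    ρ (E X c d) (ρ (NN X i) v) = ρ (NN X i) (ρ (E X c d) v) := by
  rw [← rho_mul, NN_comm D hok hc hd, rho_mul]

theorem E_NN' {i : Fin n} {s : Bool} {c : Fin n × Bool} (hc : c.1 ≠ i) (v : V) :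
    ρ (E X (i, s) c) (ρ (NN X i) v) = ρ (NN X i) (ρ (E X (i, !s) c) v) := by
  rw [← rho_mul, NN_E D hc, rho_mul]

/-- **the relation** -/
theorem L_rel {p q : Fin n} (hpq : p ≠ q) : ρ (E X (p, true) (q, true)) (ρ (NN X p) (ρ (NN X q) a)) =
    ρ (NN X p) (ρ (NN X q) a) + a := by
  set x := E X (p, true) (q, true) with hx
  set z : V := ρ (NN X p) (ρ (NN X q) a) with hz
  have hz' : z = ρ (NN X q) (ρ (NN X p) a) := by rw [hz, NN_swap D R hl hK hpq]
  set ζ : V := ρ x z + z + a with hζ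
  have hxx : x * x = 1 := E_sq D (ok_pp p q true)
  have hxa : ρ x a = a := L_fixP D R p q
  -- `x` fixes `NN p a` and `NN q a`
  have hxp : ρ x (ρ (NN X p) a) = ρ (NN X p) a := by
    rw [hx, E_NN' D R hl hK (c := (q, true)) (Ne.symm hpq)]
    congr 1
    have h1 := L_fix D R hl hK (s := false) hpq
    exact h1
  have hxq : ρ x (ρ (NN X q) a) = ρ (NN X q) a := by
    rw [hx, E_comm, E_NN' D R hl hK (c := (p, true)) hpq]
    congr 1
    exact L_fix D R hl hK (s := false) (Ne.symm hpq)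
  -- root elements with an index outside `{p, q}`
  have hA : ∀ i j, i ≠ p → i ≠ q → ρ (E X (i, true) (j, true)) z = z := by
    intro i j hip hiq
    by_cases hjp : j = p
    · subst hjp
      rw [hz, E_comm, E_NN' D R hl hK (c := (i, true)) hip, E_NN D R hl hK (Or.inl (Ne.symm hip)) hpq hiq]
      congr 2
      exact L_fix D R hl hK (s := false) (Ne.symm hip)
    · by_cases hjq : j = q
      · subst hjq
        rw [hz', E_comm, E_NN' D R hl hK (c := (i, true)) hiq, E_NN D R hl hK (Or.inl (Ne.symm hiq)) (Ne.symm hpq) hip]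
        congr 2
        exact L_fix D R hl hK (s := false) (Ne.symm hiq)
      · rw [hz, E_NN D R hl hK (ok_pp i j true) hip hjp, E_NN D R hl hK (ok_pp i j true) hiq hjq,
          L_fixP D R i j]
  have key : ∀ i j, ρ (E X (i, true) (j, true)) ζ = ζ := by
    intro i j
    have hc : E X (i, true) (j, true) * x = x * E X (i, true) (j, true) := L_comm D i j p q
    have h1 : ρ (E X (i, true) (j, true)) ζ = ρ x (ρ (E X (i, true) (j, true)) z) +
        ρ (E X (i, true) (j, true)) z + a := by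
      rw [hζ, map_add, map_add, ← rho_mul, hc, rho_mul, L_fixP D R i j]
    have hfixz : ρ (E X (i, true) (j, true)) z = z → ρ (E X (i, true) (j, true)) ζ = ζ := by
      intro h2; rw [h1, h2]
    have hmov : ∀ v, ρ x v = v → ρ (E X (i, true) (j, true)) z = z + v → ρ (E X (i, true) (j, true)) ζ = ζ := by
      intro v hv h2
      rw [h1, h2, map_add, hv, hζ]
      have : ρ x z + v + (z + v) + a = ρ x z + z + a + (v + v) := by abel
      rw [this, vv, add_zero]
    by_cases hip : i = p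
    · by_cases hjp : j = p
      · rw [hip, hjp] at hmov ⊢
        refine hmov (ρ (NN X q) a) hxq ?_
        rw [hz', E_NN D R hl hK (Or.inr rfl) hpq hpq, L_Mr' D R hl hK, map_add]
      · by_cases hjq : j = q
        · rw [hip, hjq]
          show ρ x ζ = ζ
          rw [hζ, map_add, map_add, ← rho_mul, hxx, rho_one, hxa]
          abel
        · refine hfixz ?_
          rw [E_comm]
          exact hA j i hjp hjq
    · by_cases hiq : i = q
      · by_cases hjq : j = q
        · rw [hiq, hjq] at hmov ⊢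
          refine hmov (ρ (NN X p) a) hxp ?_
          rw [hz, E_NN D R hl hK (Or.inr rfl) (Ne.symm hpq) (Ne.symm hpq), L_Mr' D R hl hK, map_add]
        · by_cases hjp : j = p
          · rw [hiq, hjp, E_comm]
            show ρ x ζ = ζ
            rw [hζ, map_add, map_add, ← rho_mul, hxx, rho_one, hxa]
            abel
          · refine hfixz ?_
            rw [E_comm]
            exact hA j i hjp hjq
      · exact hfixz (hA i j hip hiq)
  have hfix' : ∀ x ∈ X0, ρ x ζ = ζ := by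
    have h1 : VJ cs (isCartan n) X (Mv ρ nn a)ᶜ ≤ ThmA.St ρ ζ := by
      refine RGD.Sup_le fun r' hr' g hg => ?_
      obtain ⟨i, j, rfl⟩ := L_form hl hK hr'
      rcases (D.mem_iff (isRoot_rt cs (ok_pp i j true))).1 hg with rfl | rfl
      · exact one_mem _
      · exact key i j
    intro x hx
    exact h1 (Cov.le_VJ R hx)
  have e1 : ρ x z = z + a + ζ := by
    rw [hζ]
    have : z + a + (ρ x z + z + a) = ρ x z + (z + z) + (a + a) := by abel
    rw [this, vv, vv, add_zero, add_zero]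
  rcases R.fix ζ hfix' with h0 | h0
  · rw [e1, h0, add_zero]
  · exfalso
    rw [h0, add_assoc, vv, add_zero] at e1
    -- `E (-e_p) (-e_q)` fixes `a`
    have h2 : ρ (E X (p, false) (q, false)) a = a := by
      have h3 : ρ (NN X p) (ρ (NN X q) (ρ (E X (p, false) (q, false)) a)) = ρ x z := by
        rw [hx, hz, E_NN' D R hl hK (c := (q, true)) (Ne.symm hpq)]
        congr 1
        rw [E_comm, E_comm (p, !true) (q, true), E_NN' D R hl hK (c := (p, !true)) hpq]
        rfl
      rw [e1, hz] at h3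
      exact (ρ (NN X q)).injective ((ρ (NN X p)).injective h3)
    have h4 := fix_comm (L_fixP D R p p) h2
    have h5 := comm_B2 D (a := (p, true)) (b := (q, false)) hpq
    change ⁅E X (p, true) (p, true), E X (p, false) (q, false)⁆ = _ at h5
    rw [h5] at h4
    have h6 : ρ (E X (q, false) (q, false)) a = a := by
      have h7 : ρ (E X (p, true) (q, false)) a = a := L_fix D R hl hK (s := true) hpq
      have h8 : ρ (E X (p, true) (q, false)) (ρ (E X (q, false) (q, false)) a) =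
          ρ (E X (p, true) (q, false)) a := by rw [← rho_mul, h4, h7]
      exact (ρ (E X (p, true) (q, false))).injective h8
    have h7 := (L_Mr D R hl hK q).neg D (isRoot_rt cs (ok_pp q q true))
    rw [neg_rt] at h7
    change ρ (E X (q, false) (q, false)) a = _ at h7
    rw [h6] at h7
    have h8 : ρ (mu X (rt (q, true) (q, true))) a = 0 := by
      have := eq_add_of h7.symm
      rw [this, vv]
    have h9 := congrArg (ρ (mu X (rt (q, true) (q, true)))⁻¹) h8
    rw [rho_inv, map_zero] at h9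
    exact R.a_ne h9

theorem L_relneg {p q : Fin n} (hpq : p ≠ q) : ρ (E X (p, false) (q, false)) a =
    ρ (NN X p) (ρ (NN X q) a) + a := by
  have h3 : ρ (NN X p) (ρ (NN X q) (ρ (E X (p, false) (q, false)) a)) =
      ρ (E X (p, true) (q, true)) (ρ (NN X p) (ρ (NN X q) a)) := by
    rw [E_NN' D R hl hK (c := (q, true)) (Ne.symm hpq)]
    congr 1
    rw [E_comm, E_comm (p, !true) (q, true), E_NN' D R hl hK (c := (p, !true)) hpq]
    rfl
  rw [L_rel D R hl hK hpq] at h3
  have h4 := congrArg (fun v => ρ (NN X q) (ρ (NN X p) v)) h3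
  simp only [map_add] at h4
  rw [NN_cancel D R hl hK, NN_cancel D R hl hK, NN_cancel D R hl hK, NN_cancel D R hl hK] at h4
  rw [h4, add_comm, NN_swap D R hl hK hpq]

theorem L_Mrneg (i : Fin n) : ρ (E X (i, false) (i, false)) a = ρ (NN X i) a + a := by
  have h7 := (L_Mr D R hl hK i).neg D (isRoot_rt cs (ok_pp i i true))
  rw [neg_rt] at h7
  exact h7

/-- `n ≥ 4` -/
theorem last_four (hn : 4 ≤ n) : False := by
  have hlong : ∀ i, E X (i, true) (i, true) ∈ X0 := L_long D R hl hK (by omega)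
  -- `(t_i - 1) (NN i a) = a`
  have s0 : ∀ i, dl ρ (E X (i, true) (i, true)) (ρ (NN X i) a) = a := by
    intro i
    rw [dl, L_Mr' D R hl hK]
    have : ρ (NN X i) a + a + ρ (NN X i) a = a + (ρ (NN X i) a + ρ (NN X i) a) := by abel
    rw [this, vv, add_zero]
  have s1 : ∀ i j v, i ≠ j → dl ρ (E X (i, true) (i, true)) (ρ (NN X j) v) =
      ρ (NN X j) (dl ρ (E X (i, true) (i, true)) v) := by
    intro i j v hij
    rw [dl, dl, E_NN D R hl hK (Or.inr rfl) hij hij, map_add]
  set i0 : Fin n := ⟨0, by omega⟩ with h0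
  set i1 : Fin n := ⟨1, by omega⟩ with h1
  set i2 : Fin n := ⟨2, by omega⟩ with h2
  set i3 : Fin n := ⟨3, by omega⟩ with h3
  have n01 : i0 ≠ i1 := fun e => by rw [h0, h1, Fin.mk.injEq] at e; omega
  have n02 : i0 ≠ i2 := fun e => by rw [h0, h2, Fin.mk.injEq] at e; omega
  have n03 : i0 ≠ i3 := fun e => by rw [h0, h3, Fin.mk.injEq] at e; omega
  have n12 : i1 ≠ i2 := fun e => by rw [h1, h2, Fin.mk.injEq] at e; omega
  have n13 : i1 ≠ i3 := fun e => by rw [h1, h3, Fin.mk.injEq] at e; omega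
  have n23 : i2 ≠ i3 := fun e => by rw [h2, h3, Fin.mk.injEq] at e; omega
  have l0 : Orth.Lv b a DD 0 (ρ (NN X i0) (ρ (NN X i1) (ρ (NN X i2) (ρ (NN X i3) a)))) := trivial
  have l1 := Orth.lv_dl R (hlong i3) l0
  rw [s1 _ _ _ n03.symm, s1 _ _ _ n13.symm, s1 _ _ _ n23.symm, s0] at l1
  have l2 := Orth.lv_dl R (hlong i2) l1
  rw [s1 _ _ _ n02.symm, s1 _ _ _ n12.symm, s0] at l2
  have l3 := Orth.lv_dl R (hlong i1) l2
  rw [s1 _ _ _ n01.symm, s0] at l3
  have l4 := Orth.lv_dl R (hlong i0) l3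
  rw [s0] at l4
  exact R.a_ne l4

/-- `n = 3` -/
theorem last_three (hn : n = 3) : False := by
  have hn3 : 3 ≤ n := by omega
  have hlong : ∀ i, E X (i, true) (i, true) ∈ X0 := L_long D R hl hK hn3
  obtain ⟨w, k, hk, h1, h2⟩ := Opp.opp R (S := {r | ∃ i, r = rt (i, true) (i, true)}) (by
    rintro r' ⟨i, rfl⟩
    exact ⟨isRoot_rt cs (Or.inr rfl), _, D.u_mem (isRoot_rt cs (Or.inr rfl)), hlong i, D.u_ne (isRoot_rt cs (Or.inr rfl))⟩)
  obtain ⟨f, hf, hfn, hf1⟩ := exists_perm (cs := cs) w⁻¹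
  -- `w⁻¹ e_i = -e_{π i}`
  set π : Fin n → Fin n := fun i => (f (i, true)).1 with hπ
  have hfo : ∀ i, f (i, true) = (π i, false) := by
    intro i
    have h3 := h2 _ ⟨i, rfl⟩
    obtain ⟨c, d, e⟩ := L_form hl hK h3
    rw [hf, neg_rt] at e
    have e2 := congrArg ee e
    rw [ee_rt, ee_rt] at e2
    rcases wt_add_eq (Or.inr rfl) (ok_pp c d true) e2 with ⟨h5, -⟩ | ⟨h5, -⟩ <;>
    · have h6 := congrArg Prod.snd h5
      simp only [ng_snd] at h6
      refine Prod.ext rfl ?_
      show (f (i, true)).2 = false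
      revert h6
      cases (f (i, true)).2 <;> simp
  have hπinj : ∀ i j, i ≠ j → π i ≠ π j := fun i j hij e => hij ((hf1 (i, true) (j, true)).1 e)
  -- conjugation by `k`
  have hconj : ∀ i j v, ρ (E X (i, true) (j, true)) (ρ k v) = ρ k (ρ (E X (π i, false) (π j, false)) v) := by
    intro i j v
    have h5 := D.conj_u hk.inv (isRoot_rt cs (ok_pp i j true))
    rw [hf, hfo, hfo, inv_inv] at h5
    have h6 : E X (i, true) (j, true) * k = k * E X (π i, false) (π j, false) := by
      unfold E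
      rw [← h5]; group
    rw [← rho_mul, h6, rho_mul]
  set p : Fin n := ⟨0, by omega⟩ with hp
  set q : Fin n := ⟨1, by omega⟩ with hq
  set m : Fin n := ⟨2, by omega⟩ with hm
  have hpq : p ≠ q := fun e => by rw [hp, hq, Fin.mk.injEq] at e; omega
  have hpm : p ≠ m := fun e => by rw [hp, hm, Fin.mk.injEq] at e; omega
  have hqm : q ≠ m := fun e => by rw [hq, hm, Fin.mk.injEq] at e; omega
  have hcase : ∀ i : Fin n, i = p ∨ i = q ∨ i = m := by
    intro i
    have h4 := i.2
    have h5 : (i : ℕ) = 0 ∨ (i : ℕ) = 1 ∨ (i : ℕ) = 2 := by omega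
    rcases h5 with h5 | h5 | h5
    · exact Or.inl (Fin.ext h5)
    · exact Or.inr (Or.inl (Fin.ext h5))
    · exact Or.inr (Or.inr (Fin.ext h5))
  have hxX : E X (p, true) (q, true) ∈ X0 := L_short' D R hl hK hn3 hpq
  set x := E X (p, true) (q, true) with hx
  set z : V := ρ (NN X (π p)) (ρ (NN X (π q)) a) with hz
  have hz' : z = ρ (NN X (π q)) (ρ (NN X (π p)) a) := by rw [hz, NN_swap D R hl hK (hπinj _ _ hpq)]
  set d : V := dl ρ x (ρ k a) with hd
  have hd2 : d = ρ k z := by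
    rw [hd, dl, hx, hconj, L_relneg D R hl hK (hπinj _ _ hpq), map_add, add_assoc, vv, add_zero]
  -- the elements of `X0` other than `E m m` fix `d`
  have g1 : ∀ i j, i ≠ m → ρ (E X (i, true) (j, true)) d = d := by
    intro i j him
    rw [hd2, hconj]
    congr 1
    by_cases hjm : j = m
    · rw [hjm]
      rcases hcase i with hi | hi | hi
      · rw [hi, hz, E_NN' D R hl hK (c := (π m, false)) (hπinj _ _ hpm.symm),
          E_NN D R hl hK (c := (π p, !false)) (d := (π m, false)) (Or.inl (hπinj _ _ hpm)) (hπinj _ _ hpq)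
            (hπinj _ _ hqm.symm)]
        congr 2
        exact L_fix D R hl hK (s := true) (hπinj _ _ hpm)
      · rw [hi, hz', E_NN' D R hl hK (c := (π m, false)) (hπinj _ _ hqm.symm),
          E_NN D R hl hK (c := (π q, !false)) (d := (π m, false)) (Or.inl (hπinj _ _ hqm)) (hπinj _ _ hpq.symm)
            (hπinj _ _ hpm.symm)]
        congr 2
        exact L_fix D R hl hK (s := true) (hπinj _ _ hqm)
      · exact absurd hi him
    · -- `i, j ∈ {p, q}`
      have hpp : ∀ i, ρ (E X (i, false) (i, false)) (ρ (NN X i) a) = ρ (NN X i) a := by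
        intro i
        have h5 := L_Mrneg D R hl hK i
        have h6 := congrArg (ρ (NN X i)) (L_Mr' D R hl hK i)
        rw [map_add, NN_cancel D R hl hK] at h6
        -- `E(-2e_i) = NN i E(2e_i) NN i`
        have h7 := mu_conj D (isRoot_rt cs (Or.inr rfl : Ok ((i, true) : Fin n × Bool) (i, true)))
          (isRoot_rt cs (Or.inr rfl : Ok ((i, true) : Fin n × Bool) (i, true)))
        rw [cpr_self cs _ (isRoot_rt cs (Or.inr rfl : Ok ((i, true) : Fin n × Bool) (i, true)))] at h7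
        have h8 : rt (i, true) (i, true) - (2 : ℤ) • rt (i, true) (i, true) = rt (i, false) (i, false) := by
          have : rt ((i, true) : Fin n × Bool) (i, true) - (2 : ℤ) • rt (i, true) (i, true) = -rt (i, true) (i, true) := by
            module
          rw [this, neg_rt]
          rfl
        rw [h8] at h7
        have h9 : E X (i, false) (i, false) * NN X i = NN X i * E X (i, true) (i, true) := by
          show u X (rt (i, false) (i, false)) * NN X i = NN X i * u X (rt (i, true) (i, true))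
          rw [← h7]
          show NN X i * u X (rt (i, true) (i, true)) * (NN X i)⁻¹ * NN X i = _
          rw [inv_mul_cancel_right]
        rw [← rho_mul, h9, rho_mul, L_fixP D R]
      rcases hcase i with hi | hi | hi
      · rcases hcase j with hj | hj | hj
        · rw [hi, hj, hz', E_NN D R hl hK (c := (π p, false)) (d := (π p, false)) (Or.inr rfl) (hπinj _ _ hpq)
            (hπinj _ _ hpq), hpp]
        · rw [hi, hj]
          have h5 := L_relneg D R hl hK (hπinj _ _ hpq)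
          -- `y (y a) = a`
          have h6 := congrArg (ρ (E X (π p, false) (π q, false))) h5
          rw [← rho_mul, E_sq D (ok_pp _ _ _), rho_one, map_add, h5] at h6
          show ρ (E X (π p, false) (π q, false)) z = z
          have h7 : ρ (E X (π p, false) (π q, false)) z + (z + a) = a := h6.symm
          have h8 := eq_add_of h7
          rw [h8]
          have : a + (z + a) = z + (a + a) := by abel
          rw [this, vv, add_zero]
        · exact absurd hj hjm
      · rcases hcase j with hj | hj | hj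
        · rw [hi, hj, E_comm]
          have h5 := L_relneg D R hl hK (hπinj _ _ hpq)
          have h6 := congrArg (ρ (E X (π p, false) (π q, false))) h5
          rw [← rho_mul, E_sq D (ok_pp _ _ _), rho_one, map_add, h5] at h6
          show ρ (E X (π p, false) (π q, false)) z = z
          have h7 : ρ (E X (π p, false) (π q, false)) z + (z + a) = a := h6.symm
          have h8 := eq_add_of h7
          rw [h8]
          have : a + (z + a) = z + (a + a) := by abel
          rw [this, vv, add_zero]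
        · rw [hi, hj, hz, E_NN D R hl hK (c := (π q, false)) (d := (π q, false)) (Or.inr rfl) (hπinj _ _ hpq.symm)
            (hπinj _ _ hpq.symm), hpp]
        · exact absurd hj hjm
      · exact absurd hi him
  set t := E X (m, true) (m, true) with ht
  have htt : t * t = 1 := E_sq D (ok_pp m m true)
  set e' : V := dl ρ t d with he'
  have g2 : ∀ y ∈ X0, ρ y e' = e' := by
    have h4 : VJ cs (isCartan n) X (Mv ρ nn a)ᶜ ≤ ThmA.St ρ e' := by
      refine RGD.Sup_le fun r' hr' g hg => ?_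
      obtain ⟨i, j, rfl⟩ := L_form hl hK hr'
      rcases (D.mem_iff (isRoot_rt cs (ok_pp i j true))).1 hg with rfl | rfl
      · exact one_mem _
      · show ρ (E X (i, true) (j, true)) e' = e'
        have h5 : E X (i, true) (j, true) * t = t * E X (i, true) (j, true) := L_comm D i j m m
        have h6 : ρ (E X (i, true) (j, true)) d = d → ρ (E X (i, true) (j, true)) e' = e' := by
          intro h7
          rw [he', dl, map_add, ← rho_mul, h5, rho_mul, h7]
        by_cases him : i = m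
        · by_cases hjm : j = m
          · rw [him, hjm]
            show ρ t e' = e'
            rw [he', dl, map_add, ← rho_mul, htt, rho_one, add_comm]
          · refine h6 ?_
            rw [E_comm]
            exact g1 j i hjm
        · exact h6 (g1 i j him)
    intro y hy
    exact h4 (Cov.le_VJ R hy)
  have g3 := R.fix e' g2
  -- all `y ∈ X0` : `(y - 1) d ∈ {0, a}`
  have g4 : ∀ y ∈ VJ cs (isCartan n) X (Mv ρ nn a)ᶜ, dl ρ y d = 0 ∨ dl ρ y d = a := by
    let K : Subgroup Y :=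
      { carrier := {y | ρ y a = a ∧ (dl ρ y d = 0 ∨ dl ρ y d = a)}
        one_mem' := ⟨rho_one a, Or.inl (by rw [dl, rho_one, vv])⟩
        mul_mem' := by
          rintro y y' ⟨h5, h6⟩ ⟨h7, h8⟩
          refine ⟨fix_mul h5 h7, ?_⟩
          have h9 : dl ρ (y * y') d = ρ y (dl ρ y' d) + dl ρ y d := by
            rw [dl, dl, dl, map_add, rho_mul]
            have : ρ y (ρ y' d) + ρ y d + (ρ y d + d) = ρ y (ρ y' d) + d + (ρ y d + ρ y d) := by abel
            rw [this, vv, add_zero]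
          rw [h9]
          rcases h6 with h6 | h6 <;> rcases h8 with h8 | h8 <;> rw [h6, h8]
          · left; rw [map_zero, add_zero]
          · right; rw [h5, add_zero]
          · right; rw [map_zero, zero_add]
          · left; rw [h5, vv]
        inv_mem' := by
          rintro y ⟨h5, h6⟩
          refine ⟨fix_inv h5, ?_⟩
          have h9 : dl ρ y⁻¹ d = ρ y⁻¹ (dl ρ y d) := by
            rw [dl, dl, map_add, rho_inv, add_comm]
          rw [h9]
          rcases h6 with h6 | h6 <;> rw [h6]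
          · left; rw [map_zero]
          · right; exact fix_inv h5 }
    have h5 : VJ cs (isCartan n) X (Mv ρ nn a)ᶜ ≤ K := by
      refine RGD.Sup_le fun r' hr' g hg => ?_
      obtain ⟨i, j, rfl⟩ := L_form hl hK hr'
      rcases (D.mem_iff (isRoot_rt cs (ok_pp i j true))).1 hg with rfl | rfl
      · exact one_mem _
      · refine ⟨L_fixP D R i j, ?_⟩
        show dl ρ (E X (i, true) (j, true)) d = 0 ∨ dl ρ (E X (i, true) (j, true)) d = a
        by_cases him : i = m
        · by_cases hjm : j = m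
          · rw [him, hjm]
            exact g3
          · left
            rw [E_comm, dl, g1 j i hjm, vv]
        · left
          rw [dl, g1 i j him, vv]
    exact fun y hy => (h5 hy).2
  obtain ⟨y, hy, t', ht', h4⟩ := R.tri x hxX (E_ne D (ok_pp p q true)) _ h1
  apply h4
  rw [← hd]
  rcases g4 y (Cov.le_VJ R hy) with h5 | h5
  · rw [h5, map_zero, LinearMap.zero_apply]
  · rw [h5]
    exact R.one t' ht' _

/-- **the case `Mv = {α_n}`** -/
theorem last_false (hn : 3 ≤ n) : False := by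
  rcases Nat.lt_or_ge 3 n with h | h
  · exact last_four D R hl hK h
  · exact last_three D R hl hK (by omega)

end

end Cfsg.Agent.Omega.EH3.Kf.SpTwo

end
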