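import Mathlib
import Cfsg.Agent.Mrg.Omega.EH3.Kf.TablePlug
import Cfsg.Agent.Mrg.Omega.EH3.Kf.Obt
import Cfsg.Agent.Mrg.Omega.EH3.Kf.TwRow
import Cfsg.Agent.Mrg.Nodes.RGDAllP
import Cfsg.Agent.Mrg.Omega.EH3.Kf.Main

section


/-!
# The row `Sp_2n(2)`, `n ≥ 3` (helper532)

`false` : there is no `Row` of type `C_n`, `n ≥ 3`, with all root groups of order `2`.
-/

set_option autoImplicit false
set_option linter.unusedSectionVars false

namespace Cfsg.Agent.Omega.EH3.Kf.SpTwo

open CoxeterSystem Cfsg.Agent.ChevalleyStructure.CoxeterGeom Cfsg.Agent.Tits.Roots Cfsg.Agent.Tits.Core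
  Cfsg.Agent.Tits.RootComb Cfsg.Agent.Nodes.Comb Cfsg.Agent.Nodes.Reps Cfsg.Agent.Nodes.BNOf
  Cfsg.Agent.Nodes.StabComb Cfsg.Agent.Nodes.Bruhat Cfsg.Agent.Nodes.OppDec Cfsg.Agent.Nodes.LeviDec
  Cfsg.Agent.Nodes.Coroot Cfsg.Agent.Nodes.TypeC Cfsg.Agent.Nodes.TypeCForm Cfsg.Agent.Nodes.KindBC
  Cfsg.Agent.Omega.EH3.Kf.Base Cfsg.Agent.Omega.EH3.Kf.Nm Cfsg.Agent.Omega.EH3.Kf.Two
  Cfsg.Agent.Omega.EH3.Kf.TwoV Cfsg.Agent.Omega.EH3.Kf.Lead
open scoped commutatorElement

/-! ### The weight of a set of nodes -/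

section General

variable {I W Y V : Type*} [Fintype I] [DecidableEq I] [Group W] [Group Y] [AddCommGroup V]
    [Module (ZMod 2) V] {M : CoxeterMatrix I} {cs : CoxeterSystem M W} {A : I → I → ℤ} {h : IsCartan M A}
    {T : Subgroup Y} {n : I → Y} {X : (I → ℤ) → Subgroup Y} {ρ : Y →* (V ≃ₗ[ZMod 2] V)}
    {b : LinearMap.BilinForm (ZMod 2) V} {a : V} {DD : Submodule (ZMod 2) V} {X0 : Subgroup Y} {w : ℕ}

open Classical in
/-- the weight with value `1` on `K` and `2` on the other simple roots -/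
noncomputable def wK (K : Set I) : (I → ℤ) →+ ℤ where
  toFun x := ∑ j, x j * (if j ∈ K then 1 else 2)
  map_zero' := by simp
  map_add' x y := by
    rw [← Finset.sum_add_distrib]
    exact Finset.sum_congr rfl fun j _ => by rw [Pi.add_apply, add_mul]

open Classical in
theorem wK_apply (K : Set I) (x : I → ℤ) : wK K x = ∑ j, x j * (if j ∈ K then 1 else 2) := rfl

open Classical in
theorem wK_sr (K : Set I) (i : I) : wK K (sr i) = if i ∈ K then 1 else 2 := by
  rw [wK_apply, Finset.sum_eq_single i]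
  · rw [sr_self, one_mul]
  · intro j _ hj
    rw [sr_ne hj, zero_mul]
  · intro hi; exact absurd (Finset.mem_univ i) hi

theorem wK_pos (K : Set I) (i : I) : 0 < wK K (sr i) := by
  rw [wK_sr]; split_ifs <;> norm_num

theorem two_le_wK {K : Set I} {j : I} (hj : j ∉ K) {x : I → ℤ} (hx : 0 ≤ x) (hxj : 0 < x j) : 2 ≤ wK K x := by
  classical
  rw [wK_apply]
  have h1 : x j * (if j ∈ K then 1 else 2) ≤ ∑ j, x j * (if j ∈ K then 1 else 2) :=
    Finset.single_le_sum (f := fun j => x j * (if j ∈ K then 1 else 2)) (fun i _ => by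
      have := hx i
      simp only [Pi.zero_apply] at this
      split_ifs <;> omega) (Finset.mem_univ j)
  rw [if_neg hj] at h1
  omega

/-- **the simple roots of all nodes moving `a` are leading roots of `X0` for one weight** -/
theorem idlK [Finite W] [Finite Y] (R : Row cs h T n X ρ b a DD X0 w) (Dt : Dat cs h T n X) {k : I}
    (hk : k ∈ Mv ρ n a) : Idl cs h X (wK (Mv ρ n a)) X0 (sr k) := by
  have hP : (sr k : I → ℤ) ∈ RGD.Pos cs h := ⟨isRoot_sr cs h k, sr_nonneg k⟩
  obtain ⟨x, hx, ho⟩ := ThmA.thmA R.core (K := Mv ρ n a) subset_rfl (u X (sr k))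
    (RGD.le_Sup hP (Dt.u_mem hP.1))
  refine ⟨x, hx, hP, u X (sr k), Dt.u_mem hP.1, Dt.u_ne hP.1, (u X (sr k))⁻¹ * x, ?_, by group⟩
  refine RGD.Sup_mono (fun z hz => ?_) ho
  obtain ⟨hz, hz0, j, hj, hzj⟩ := hz
  refine ⟨⟨hz, hz0⟩, ?_⟩
  rw [wK_sr, if_pos hk]
  exact two_le_wK hj hz0 hzj

theorem idlK_add [Finite W] [Finite Y] (R : Row cs h T n X ρ b a DD X0 w) (Dt : Dat cs h T n X) {K : Set I}
    {r s : I → ℤ} (hr : Idl cs h X (wK K) X0 r) (hr0 : r ∈ RGD.Pos cs h) (hs : s ∈ RGD.Pos cs h)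
    (hp : cpr cs h s r < 0) : Idl cs h X (wK K) X0 (r + s) :=
  Idl.add (Obt.Obt.of_dat Dt).strict (wK_pos K) R.rgd
    (fun g hg x hx => R.norm g (R.fixB g (RGD.U_le_B hg)) x hx) hr hs ((Obt.Obt.of_dat Dt).cst _ hr0 _ hs hp)

theorem idlK_false [Finite W] [Finite Y] (R : Row cs h T n X ρ b a DD X0 w) (Dt : Dat cs h T n X) {K : Set I}
    {r s : I → ℤ} (hr : Idl cs h X (wK K) X0 r) (hs : Idl cs h X (wK K) X0 s) (hr0 : r ∈ RGD.Pos cs h)
    (hs0 : s ∈ RGD.Pos cs h) (hp : cpr cs h s r < 0) : False :=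
  Idl.false (Obt.Obt.of_dat Dt).strict (wK_pos K) ((Obt.Obt.of_dat Dt).inf_bot R.rgd (wK_pos K))
    (fun _ hx _ hy => Cov.comm_X0 R hx hy) hr hs ((Obt.Obt.of_dat Dt).cst _ hr0 _ hs0 hp)

end General

variable {n : ℕ} {W Y : Type*} [Group W] [Group Y] {cs : CoxeterSystem (CoxeterMatrix.B n) W}
  {T : Subgroup Y} {nn : Fin n → Y} {X : (Fin n → ℤ) → Subgroup Y}
  {V : Type*} [AddCommGroup V] [Module (ZMod 2) V] {ρ : Y →* (V ≃ₗ[ZMod 2] V)} {a : V}
  {b : LinearMap.BilinForm (ZMod 2) V} {DD : Submodule (ZMod 2) V} {X0 : Subgroup Y} {w0 : ℕ}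

theorem pos_rt {a b : Fin n × Bool} (hok : Ok a b) (ha : a.2 = true) (hab : a.1 ≤ b.1) :
    rt a b ∈ RGD.Pos cs (isCartan n) := ⟨isRoot_rt cs hok, TwC.nonneg_of (ee_rt _ _) ha hab⟩

theorem rt_add_rt (a b c : Fin n × Bool) : rt a b + rt (ng b) c = rt a c := by
  apply ee_injective
  rw [ee_add, ee_rt, ee_rt, ee_rt, wt_ng]
  abel

/-- two leading roots `e_i - e_l`, `e_j + e_l` -/
theorem end_false [Finite W] [Finite Y] (D : Dat cs (isCartan n) T nn X)
    (R : Row cs (isCartan n) T nn X ρ b a DD X0 w0) {K : Set (Fin n)} {i j l : Fin n} (hij : i ≠ j) (hil : i < l)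
    (hjl : j < l) (h1 : Idl cs (isCartan n) X (wK K) X0 (rt (i, true) (l, false)))
    (h2 : Idl cs (isCartan n) X (wK K) X0 (rt (j, true) (l, true))) : False := by
  refine idlK_false R D h2 h1 (pos_rt (Or.inl hjl.ne) rfl hjl.le) (pos_rt (Or.inl hil.ne) rfl hil.le) ?_
  rw [cpr_E _ _ (c := (j, true)) (d := (l, true)) hjl.ne, dt_ne (c := (j, true)) hij,
    dt_ne (c := (j, true)) hjl.ne', dt_ne (c := (l, true)) hil.ne,
    show ((l, false) : Fin n × Bool) = ng (l, true) from rfl, dt_ng_left, dt_self]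
  norm_num

/-- `Mv` contains a node which is neither the first nor the last -/
theorem int_false [Finite W] [Finite Y] (D : Dat cs (isCartan n) T nn X)
    (R : Row cs (isCartan n) T nn X ρ b a DD X0 w0) {k : Fin n} (hk : k ∈ Mv ρ nn a) (h0 : (k : ℕ) ≠ 0)
    (h1 : (k : ℕ) + 1 ≠ n) : False := by
  have hk2 := k.2
  set l : Fin n := ⟨n - 1, by omega⟩ with hl
  set o : Fin n := ⟨0, by omega⟩ with ho
  set k' : Fin n := ⟨k + 1, by omega⟩ with hk'
  have hok : o < k := by rw [Fin.lt_def]; simp only [ho]; omega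
  have hkl : k < l := by rw [Fin.lt_def]; simp only [hl]; omega
  have hsr : (sr k : Fin n → ℤ) = rt (k, true) (k', false) := by
    rw [sr_eq_rt, nx, dif_pos (by omega)]
  have s1 := idlK R D hk
  rw [hsr] at s1
  -- `e_k - e_l`
  have s2 : Idl cs (isCartan n) X (wK (Mv ρ nn a)) X0 (rt (k, true) (l, false)) := by
    by_cases hk'l : k' = l
    · rw [hk'l] at s1
      exact s1
    · have hk'l' : k' < l := by
        refine lt_of_le_of_ne ?_ hk'l
        rw [Fin.le_def]; simp only [hk', hl]; omega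
      have hkk' : k < k' := by rw [Fin.lt_def]; simp [hk']
      have h2 := idlK_add R D (s := rt (k', true) (l, false)) s1 (pos_rt (Or.inl hkk'.ne) rfl hkk'.le)
        (pos_rt (Or.inl hk'l'.ne) rfl hk'l'.le) (by
          rw [cpr_E _ _ (c := (k, true)) (d := (k', false)) hkk'.ne, dt_ne (c := (k, true)) hkk'.ne',
            dt_ne (c := (k, true)) hkl.ne', dt_ne (a := (l, false)) (c := (k', false)) hk'l'.ne',
            show ((k', false) : Fin n × Bool) = ng (k', true) from rfl, dt_ng_right, dt_self]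
          norm_num)
      have h3 := rt_add_rt (k, true) (k', false) (l, false)
      change rt (k, true) (k', false) + rt (k', true) (l, false) = _ at h3
      rwa [h3] at h2
  have p1 : rt (k, true) (l, false) ∈ RGD.Pos cs (isCartan n) := pos_rt (Or.inl hkl.ne) rfl hkl.le
  -- `e_k + e_l`
  have s3 : Idl cs (isCartan n) X (wK (Mv ρ nn a)) X0 (rt (k, true) (l, true)) := by
    have h2 := idlK_add R D (s := rt (l, true) (l, true)) s2 p1 (pos_rt (Or.inr rfl) rfl le_rfl) (by
      rw [cpr_E _ _ (c := (k, true)) (d := (l, false)) hkl.ne, dt_ne (c := (k, true)) hkl.ne',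
        show ((l, false) : Fin n × Bool) = ng (l, true) from rfl, dt_ng_right, dt_self]
      norm_num)
    have h3 := rt_add_rt (k, true) (l, false) (l, true)
    change rt (k, true) (l, false) + rt (l, true) (l, true) = _ at h3
    rwa [h3] at h2
  -- `e_0 - e_l`
  have s4 : Idl cs (isCartan n) X (wK (Mv ρ nn a)) X0 (rt (o, true) (l, false)) := by
    have h2 := idlK_add R D (s := rt (o, true) (k, false)) s2 p1 (pos_rt (Or.inl hok.ne) rfl hok.le) (by
      rw [cpr_E _ _ (c := (k, true)) (d := (l, false)) hkl.ne, dt_ne (c := (k, true)) hok.ne,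
        dt_ne (c := (l, false)) (hok.trans hkl).ne, dt_ne (c := (l, false)) hkl.ne,
        show ((k, false) : Fin n × Bool) = ng (k, true) from rfl, dt_ng_left, dt_self]
      norm_num)
    have h3 := rt_add_rt (o, true) (k, false) (l, false)
    change rt (o, true) (k, false) + rt (k, true) (l, false) = _ at h3
    rwa [add_comm, h3] at h2
  exact end_false D R hok.ne (hok.trans hkl) hkl s4 s3

/-- `Mv` contains the first and the last node -/
theorem ends_false [Finite W] [Finite Y] (D : Dat cs (isCartan n) T nn X)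
    (R : Row cs (isCartan n) T nn X ρ b a DD X0 w0) (hn : 3 ≤ n) {o l : Fin n} (ho : (o : ℕ) = 0)
    (hl : (l : ℕ) + 1 = n) (hko : o ∈ Mv ρ nn a) (hkl : l ∈ Mv ρ nn a) : False := by
  set k : Fin n := ⟨1, by omega⟩ with hk
  have hok : o < k := by rw [Fin.lt_def]; simp only [hk]; omega
  have hkl' : k < l := by rw [Fin.lt_def]; simp only [hk]; omega
  have hsr : (sr o : Fin n → ℤ) = rt (o, true) (k, false) := by
    rw [sr_eq_rt, nx, dif_pos (by omega)]
    congr 2
    exact Fin.ext (by simp only [hk]; omega)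
  have hsl : (sr l : Fin n → ℤ) = rt (l, true) (l, true) := by
    rw [sr_eq_rt, nx, dif_neg (by omega)]
  have s1 := idlK R D hko
  rw [hsr] at s1
  have s2 := idlK R D hkl
  rw [hsl] at s2
  have pk : rt (k, true) (l, false) ∈ RGD.Pos cs (isCartan n) := pos_rt (Or.inl hkl'.ne) rfl hkl'.le
  -- `e_0 - e_l`
  have s4 : Idl cs (isCartan n) X (wK (Mv ρ nn a)) X0 (rt (o, true) (l, false)) := by
    have h2 := idlK_add R D (s := rt (k, true) (l, false)) s1 (pos_rt (Or.inl hok.ne) rfl hok.le) pk (by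
      rw [cpr_E _ _ (c := (o, true)) (d := (k, false)) hok.ne, dt_ne (c := (o, true)) hok.ne',
        dt_ne (c := (o, true)) (hok.trans hkl').ne', dt_ne (a := (l, false)) (c := (k, false)) hkl'.ne',
        show ((k, false) : Fin n × Bool) = ng (k, true) from rfl, dt_ng_right, dt_self]
      norm_num)
    have h3 := rt_add_rt (o, true) (k, false) (l, false)
    change rt (o, true) (k, false) + rt (k, true) (l, false) = _ at h3
    rwa [h3] at h2
  -- `e_1 + e_l`
  have s3 : Idl cs (isCartan n) X (wK (Mv ρ nn a)) X0 (rt (k, true) (l, true)) := by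
    have h2 := idlK_add R D (s := rt (k, true) (l, false)) s2 (pos_rt (Or.inr rfl) rfl le_rfl) pk (by
      rw [cpr_EE, dt_ne (c := (l, true)) hkl'.ne,
        show ((l, false) : Fin n × Bool) = ng (l, true) from rfl, dt_ng_left, dt_self]
      norm_num)
    have h3 := rt_add_rt (k, true) (l, false) (l, true)
    change rt (k, true) (l, false) + rt (l, true) (l, true) = _ at h3
    rwa [add_comm, h3] at h2
  exact end_false D R hok.ne (hok.trans hkl') hkl' s4 s3

/-- **`Sp_2n(2)`, `n ≥ 3`.** -/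
theorem false (hn : 3 ≤ n) [Finite Y] (cs : CoxeterSystem (CoxeterMatrix.B n) W)
    (R : Row cs (isCartan n) T nn X ρ b a DD X0 w0) (h2 : ∀ i, Nat.card (X (sr i)) = 2) : False := by
  have : Finite W := finite_W cs
  have D : Dat cs (isCartan n) T nn X := ⟨R.rgd, h2, six_B⟩
  set o : Fin n := ⟨0, by omega⟩ with ho
  set l : Fin n := ⟨n - 1, by omega⟩ with hl
  have hol : o ≠ l := fun e => by rw [ho, hl, Fin.mk.injEq] at e; omega
  have hl1 : (l : ℕ) + 1 = n := by simp only [hl]; omega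
  have hsub : ∀ k ∈ Mv ρ nn a, k = o ∨ k = l := by
    intro k hk
    by_contra hcon
    push Not at hcon
    refine int_false D R hk (fun e => hcon.1 (Fin.ext (by simp only [ho]; exact e))) fun e => hcon.2 (Fin.ext ?_)
    simp only [hl]; omega
  obtain ⟨k, hk⟩ := TwC.mv_nonempty R
  by_cases hko : o ∈ Mv ρ nn a
  · by_cases hkl : l ∈ Mv ρ nn a
    · exact ends_false D R hn rfl hl1 hko hkl
    · refine first_false D R (o := o) rfl ?_ hn
      ext j
      constructor
      · intro hj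
        rcases hsub j hj with rfl | rfl
        · rfl
        · exact absurd hj hkl
      · rintro rfl
        exact hko
  · refine last_false D R (l := l) hl1 ?_ hn
    ext j
    constructor
    · intro hj
      rcases hsub j hj with rfl | rfl
      · exact absurd hj hko
      · rfl
    · rintro rfl
      rcases hsub k hk with rfl | rfl
      · exact absurd hk hko
      · exact hk

end Cfsg.Agent.Omega.EH3.Kf.SpTwo

end

section


/-!
# EH3, Lie rows: the field `omm` of `Table.Rows` (helper94, helper944)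
-/

set_option autoImplicit false

namespace Cfsg.Agent.Omega.EH3.Kf.FamOmm

open Cfsg Cfsg.Agent.TitsThree Cfsg.Agent.TitsThree.WittFrame Cfsg.Agent.TitsThree.WBridge
  Cfsg.Agent.TitsThree.FrameCN Cfsg.Agent.TitsThree.KSideO Cfsg.Agent.LieClassical.OrthForms
  Cfsg.Agent.LieClassical.OrthSimple Cfsg.Agent.Nodes.WittAll

universe u

theorem kfRow_minus {F : Type*} [Field F] [Fintype F] [CharP F 2] {m : ℕ} (hm : 3 ≤ m) (a b : F)
    (hab : ∀ z₁ z₂ : F, z₁ ^ 2 + a * z₁ * z₂ + b * z₂ ^ 2 = 0 → z₁ = 0 ∧ z₂ = 0) :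
    FamRow.KfRow.{u} (POmega F (quadFormMinus m F a b)) := by
  have : Finite (POmega F (quadFormMinus m F a b)) := Quotient.finite _
  rw [← coe_minusForm] at *
  have hG := KFacts.SpecMinus.good_minus (F := F) (m := m) (by omega) a b hab
  obtain ⟨p0, hp0⟩ := KFacts.SpecMinus.adm_minus m a b hab
  exact TwOmm.kfRow_of_bd m hm a b hab (model (wminus m F a b hab) hG ⟨p0, hp0⟩)
    (OMinusBd.ambT a b hab (by omega) hG) (OMinusBd.exists_h_minus a b hab)
    (OMinusBd.bd_minus a b hab (by omega) hG ⟨p0, hp0⟩ (OMinusBd.ambT a b hab (by omega) hG) hp0)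

/-- **The field `omm` of `Table.Rows`.** -/
theorem omm (F : Type) [Field F] [Fintype F] [CharP F 2] (m : ℕ) (a b : F) (hm : 4 ≤ m)
    (hab : ∀ z₁ z₂ : F, z₁ ^ 2 + a * z₁ * z₂ + b * z₂ ^ 2 = 0 → z₁ = 0 ∧ z₂ = 0) :
    Main.Fam.{u} (POmega F (quadFormMinus (m - 1) F a b)) :=
  Or.inr (kfRow_minus (by omega) a b hab).toU

end Cfsg.Agent.Omega.EH3.Kf.FamOmm

end
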