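import Mathlib
import Cfsg.Agent.Mrg.Omega.EH3.Kf.Base
import Cfsg.Agent.Mrg.KFacts.RgdPerf
import Cfsg.Agent.KFacts.TwESix.Tor
import Cfsg.Agent.Nodes.RGDTwActE6


/-!
# EH3, Lie rows in characteristic 2: `²E₆(q)` (helper827)

* `commGen` : the root groups of the positive non-simple roots lie in `⁅U, U⁆`, every even `q`;
* `rowEnd` : there is no `Row` for `²E₆(q)`;
* `kfRow` : `KfRow (twistedE6 K q)`.
-/

set_option autoImplicit false
set_option linter.unusedSectionVars false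
set_option maxHeartbeats 400000

namespace Cfsg.Agent.Omega.EH3.Kf.TwE6

open CoxeterSystem Cfsg.Agent.ChevalleyStructure.CoxeterGeom Cfsg.Agent.Tits.Roots Cfsg.Agent.Tits.Core
  Cfsg.Agent.Tits.RootComb Cfsg.Agent.Tits.Exchange Cfsg.Agent.Nodes.Reps Cfsg.Agent.Nodes.BNOf
  Cfsg.Agent.Nodes.Coroot Cfsg.Agent.Nodes.LeviDec Cfsg.Agent.KFacts.RgdSL Cfsg.Agent.KFacts.RgdTI
  Cfsg.Agent.Nodes.RGDTwE6 Cfsg.Agent.Nodes.RGDTwCoordE6 Cfsg.Agent.Nodes.RGDTwCoord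
  Cfsg.Agent.Nodes.RGDTwComE6 Cfsg.Agent.Nodes.RGDTwActE6 Cfsg.Agent.Nodes.RGDTwTab
  Cfsg.Agent.KFacts.TwESix.Comb Cfsg.Agent.KFacts.RgdPerf
  Cfsg.Agent.Omega.EH3.Kf.Base Cfsg.Agent.Omega.EH3.Kf.Goal Cfsg.Agent.Omega.EH3.Kf.FamRow
open Cfsg.Lie
open scoped commutatorElement

universe u v

/-! ### Tables -/

/-- nonnegative coordinates -/
def nn0 (z : Fin 4 → ℤ) : Bool := decide (∀ k, 0 ≤ z k)

theorem nn0_iff {z : Fin 4 → ℤ} : nn0 z = true ↔ 0 ≤ z := by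
  unfold nn0
  rw [decide_eq_true_eq]
  exact Iff.rfl

set_option maxRecDepth 20000 in
theorem tab : ∀ r ∈ rts, nn0 r = true → (∀ i, r ≠ sr i) →
    (∃ z ∈ rts, ∃ w ∈ rts, nn0 z = true ∧ nn0 w = true ∧ r = z + w ∧ bf z z = bf w w ∧ 2 * bf z w = - bf z z) ∨
    (∃ z ∈ rts, ∃ w ∈ rts, nn0 z = true ∧ nn0 w = true ∧ r = z + w ∧ bf z z = 2 ∧ bf w w = 2 ∧ bf r r = 4) ∨
    (∃ z ∈ rts, ∃ w ∈ rts, nn0 z = true ∧ nn0 w = true ∧ r = z + w ∧ bf z z = 4 ∧ bf w w = 2) := by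
  decide +kernel

theorem tab2 : ∀ k : Fin 4, ∃ z ∈ rts, ∃ w ∈ rts, nn0 z = true ∧ nn0 w = true ∧ 0 < z k ∧ 0 < w k ∧
    bf z z = bf w w ∧ 2 * bf z w = - bf z z := by
  decide +kernel

theorem Qv_eq (z : Fin 4 → ℤ) : Qv z = bf z z := by
  unfold Qv Q4 bf
  ring

section Group

variable {K : Type u} [Field K] [Fintype K] {q : ℕ} {φ : K →+* K}
variable {W : Type*} [Group W] (cs : CoxeterSystem CoxeterMatrix.F₄ W)
variable (hφ : ∀ x, φ x = x ^ q) (hqq : ∀ t : K, (t ^ q) ^ q = t)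

omit [Fintype K] in
theorem exists_trace [CharP K 2] (hne : ∃ t : K, φ t ≠ t) {c : K} (hc : φ c = c)
    (hφφ : ∀ t, φ (φ t) = t) : ∃ b : K, b + φ b = c := by
  obtain ⟨t, ht⟩ := hne
  have hd : t + φ t ≠ 0 := fun h => ht (CharTwo.add_eq_zero.1 h).symm
  refine ⟨c / (t + φ t) * t, ?_⟩
  rw [map_mul, map_div₀, map_add, hφφ, hc, add_comm (φ t) t, ← mul_add, div_mul_cancel₀ _ hd]

omit [Fintype K] in
theorem exists_ne [Fintype K] (hφ : ∀ x, φ x = x ^ q) (hK : Fintype.card K = q ^ 2) (hq1 : 1 < q) :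
    ∃ t : K, φ t ≠ t := by
  by_contra hno
  push Not at hno
  have h1 := ChevalleyStructure.FixedCard.card_fixed hq1 hK
  have h2 : Nat.card {x : K // x ^ q = x} = q ^ 2 := by
    rw [← hK, ← Nat.card_eq_fintype_card]
    exact Nat.card_congr (Equiv.subtypeUnivEquiv fun x => by rw [← hφ, hno])
  rw [h2] at h1
  nlinarith

include hφ hqq

theorem NN_ne {r s : ℕ} (hr : r < chevE6.nroots) (hs : s < chevE6.nroots) (h : 2 ≤ dgE6 r s) :
    ((Nodes.RGDTwCoord.NN dgE6 Nodes.RGDTwCoordE6.dl r s : ℤ) : K) ≠ 0 := by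
  have h1 := congrArg (Int.cast : ℤ → K) ((twC hφ hqq).NN_sq hr hs h)
  rw [Int.cast_mul, Int.cast_one] at h1
  exact left_ne_zero_of_mul (by rw [h1]; exact one_ne_zero)

variable {z w : Fin 4 → ℤ}

/-- **A long root as the sum of two short roots.** -/
theorem le_trace [CharP K 2] (hne : ∃ t : K, φ t ≠ t) (hz : IsRoot cs isCartan z) (hw : IsRoot cs isCartan w)
    (hzw : IsRoot cs isCartan (z + w)) (sz : bf z z = 2) (sw : bf w w = 2) (lzw : bf (z + w) (z + w) = 4)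
    {P : Subgroup ↥(twistedE6 K q)} (h1 : X φ q z ≤ P) (h2 : X φ q w ≤ P) : X φ q (z + w) ≤ ⁅P, P⁆ := by
  rw [← Qv_eq] at sz sw lzw
  have hk : kd (Nodes.RGDTwCoord.cl chevE6 J O z) (Nodes.RGDTwCoord.cl chevE6 J O w) = 3 := by
    rcases kd_ss hz hw hzw sz sw with h | h
    · exact h
    · obtain ⟨u₀, u₁, h1, -⟩ := facts_short hz hw h
      have hlen := Lg.length hzw lzw
      rw [h1] at hlen; simp at hlen
  have hN : ((N z w : ℤ) : K) ≠ 0 := by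
    unfold N
    rw [if_pos hk]
    refine NN_ne hφ hqq (V_of_mem hz (head_mem hz)).1 (V_of_mem hw (last_mem hw)).1 ?_
    unfold kd at hk
    split_ifs at hk <;> omega
  intro g hg
  obtain ⟨c, hc, rfl⟩ := (mem_X_long hφ hqq hzw lzw g).1 hg
  obtain ⟨b, hb⟩ := exists_trace hne (c := ((N z w : ℤ) : K)⁻¹ * c)
    (by rw [map_mul, map_inv₀, map_intCast, hc]) (phi_phi hφ hqq)
  have h3 := comm_trace hφ hqq hz hw hzw sz sw lzw 1 b
  rw [map_one, one_mul, one_mul, add_comm (φ b) b, hb, mul_inv_cancel_left₀ hN] at h3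
  rw [← h3]
  exact Subgroup.commutator_mem_commutator (h1 ((mem_X_short hφ hqq hz sz _).2 ⟨_, rfl⟩))
    (h2 ((mem_X_short hφ hqq hw sw _).2 ⟨_, rfl⟩))

/-- **A short root as the sum of a long and a short root.** -/
theorem le_quad [CharP K 2] (hne : ∃ t : K, φ t ≠ t) (hz : IsRoot cs isCartan z) (hw : IsRoot cs isCartan w)
    (hzw : IsRoot cs isCartan (z + w)) (lz : bf z z = 4) (sw : bf w w = 2)
    {P : Subgroup ↥(twistedE6 K q)} (h1 : X φ q z ≤ P) (h2 : X φ q w ≤ P) (h3 : X φ q (z + w) ≤ P) :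
    X φ q (z + w) ≤ ⁅P, P⁆ := by
  have lz' := lz
  have sw' := sw
  rw [← Qv_eq] at lz sw
  have hk := kd_quad hz hw hzw lz sw
  have hN : ((N z w : ℤ) : K) ≠ 0 := by
    unfold N
    rw [if_neg (by rw [hk]; decide), if_neg (by rw [hk]; decide)]
    refine NN_ne hφ hqq (V_of_mem hz (head_mem hz)).1 (V_of_mem hw (head_mem hw)).1 ?_
    unfold kd at hk
    split_ifs at hk <;> omega
  intro g hg
  have szw : St (z + w) := (comm_quad hφ hqq hz hw hzw lz sw (φ.map_one) 1).1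
  obtain ⟨c, rfl⟩ := (mem_X_short hφ hqq hzw szw g).1 hg
  obtain ⟨-, h4, l4, h5⟩ := comm_quad hφ hqq hz hw hzw lz sw (φ.map_one) (((N z w : ℤ) : K)⁻¹ * c)
  rw [one_mul, mul_inv_cancel_left₀ hN] at h5
  have e : z + (2 : ℤ) • w = (z + w) + w := by rw [two_smul]; abel
  have h6 : X φ q (z + (2 : ℤ) • w) ≤ ⁅P, P⁆ := by
    rw [e]
    rw [e] at h4 l4
    refine le_trace cs hφ hqq hne hzw hw h4 ?_ sw' ?_ h3 h2
    · rw [← Qv_eq]; exact szw
    · rw [← Qv_eq]; exact l4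
  have h7 : x φ q (z + (2 : ℤ) • w) (((N2 z w : ℤ) : K) * (1 * (((N z w : ℤ) : K)⁻¹ * c *
      φ (((N z w : ℤ) : K)⁻¹ * c)))) ∈ X φ q (z + (2 : ℤ) • w) := by
    refine x_mem hφ hqq h4 (ok_long h4 l4 ?_)
    rw [map_mul, map_mul, map_mul, map_intCast, phi_phi hφ hqq, map_one, mul_comm (φ _) (_ * c)]
  rw [eq_mul_inv_of_mul_eq h5.symm]
  exact mul_mem (Subgroup.commutator_mem_commutator (h1 ((mem_X_long hφ hqq hz lz _).2 ⟨1, φ.map_one, rfl⟩))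
    (h2 ((mem_X_short hφ hqq hw sw _).2 ⟨_, rfl⟩))) (inv_mem (h6 h7))

/-- **The root groups of the non-simple roots.** -/
theorem commGen [CharP K 2] (hne : ∃ t : K, φ t ≠ t) : Lev.CommGen cs isCartan (X φ q) := by
  have : Finite W := finiteW cs
  intro r hr h0 hs
  have hle : ∀ {z}, IsRoot cs isCartan z → nn0 z = true → X φ q z ≤ RGD.Sup (X φ q) (RGD.Pos cs isCartan) :=
    fun hz hz0 => RGD.le_Sup ⟨hz, nn0_iff.1 hz0⟩
  rcases tab r ((mem_rts cs).1 hr) (nn0_iff.2 h0) hs with ⟨z, hz, w, hw, hz0, hw0, rfl, h1, h2⟩ |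
    ⟨z, hz, w, hw, hz0, hw0, rfl, h1, h2, h3⟩ | ⟨z, hz, w, hw, hz0, hw0, rfl, h1, h2⟩
  · rw [← mem_rts cs] at hz hw
    exact le_comm_of_comm (rgd cs hφ hqq 2) (a2 cs hz hw h1 h2) (hle hz hz0) (hle hw hw0)
  · rw [← mem_rts cs] at hz hw
    exact le_trace cs hφ hqq hne hz hw hr h1 h2 h3 (hle hz hz0) (hle hw hw0)
  · rw [← mem_rts cs] at hz hw
    exact le_quad cs hφ hqq hne hz hw hr h1 h2 (hle hz hz0) (hle hw hw0) (hle hr (nn0_iff.2 h0))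

/-- **There is no row.** -/
theorem rowEnd [CharP K 2] (hne : ∃ t : K, φ t ≠ t) :
    RowEnd.{v} CoxeterMatrix.F₄ isCartan (T K q) (nn hφ) (X φ q) := by
  intro V _ _ ρ b a D X0 w R
  have : Finite CoxeterMatrix.F₄.Group := finiteW CoxeterMatrix.F₄.toCoxeterSystem
  exfalso
  have hC := Cov.eq_VJ R (fun u hu => ThmA.thmA R.core le_rfl u hu) (commGen _ hφ hqq hne)
  obtain ⟨k, hk⟩ := Lev.exists_mv R
  obtain ⟨z, hz, w', hw, hz0, hw0, hzk, hwk, h1, h2⟩ := tab2 k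
  rw [← mem_rts CoxeterMatrix.F₄.toCoxeterSystem] at hz hw
  have hA := a2 _ hz hw h1 h2
  obtain ⟨u, hu, hu1⟩ := KFacts.RgdPerf.exists_ne R.rgd hA.rx
  obtain ⟨g, hg, hg1⟩ := KFacts.RgdPerf.exists_ne R.rgd hA.rxy
  obtain ⟨v, hv, e⟩ := A2.comm_surj R.rgd hA hu hu1 hg
  apply hg1
  rw [← e, commutatorElement_eq_one_iff_mul_comm]
  have key : ∀ {z : Fin 4 → ℤ}, IsRoot CoxeterMatrix.F₄.toCoxeterSystem isCartan z → 0 ≤ z → 0 < z k →
      X φ q z ≤ X0 := by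
    intro z hz hz0 hzk
    rw [hC]
    exact TwC.X_le_VJ ⟨hz, hz0⟩ hk hzk
  exact Cov.comm_X0 R (key hz (nn0_iff.1 hz0) hzk hu) (key hw (nn0_iff.1 hw0) hwk hv)

/-- **The bundle.** -/
theorem bd [CharP K 2] : Bd CoxeterMatrix.F₄ isCartan (T K q) (nn hφ) (X φ q) where
  fin := finiteW CoxeterMatrix.F₄.toCoxeterSystem
  rgd := rgd _ hφ hqq 2
  gen := G1_eq_top _ hφ hqq
  ab := KFacts.TwESix.Tor.T_comm
  el := by
    intro i u hu
    obtain ⟨a, ha, rfl⟩ := (mem_X hφ hqq (isRoot_sr CoxeterMatrix.F₄.toCoxeterSystem isCartan i) u).1 hu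
    rw [← x_add hφ hqq (isRoot_sr CoxeterMatrix.F₄.toCoxeterSystem isCartan i) ha ha, CharTwo.add_self_eq_zero,
      x_zero hφ hqq (isRoot_sr CoxeterMatrix.F₄.toCoxeterSystem isCartan i)]

end Group

/-- **The row of `²E₆(q)`**, `q` even. -/
theorem kfRow {K : Type u} [Field K] [Fintype K] [CharP K 2] {q : ℕ} (hq : IsPrimePow q)
    (hK : Fintype.card K = q ^ 2) : KfRow.{v} ↥(twistedE6 K q) := by
  obtain ⟨φ, hφ, hqq⟩ := ChevalleyStructure.TwE6Basic.exists_frob hq hK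
  exact ⟨4, CoxeterMatrix.F₄, A, isCartan, T K q, nn hφ, X φ q, bd hφ hqq,
    rowEnd hφ hqq (exists_ne hφ hK hq.one_lt)⟩

end Cfsg.Agent.Omega.EH3.Kf.TwE6
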