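import Mathlib
import Cfsg.Agent.Mrg.KFacts.RgdPerf
import Cfsg.Agent.KFacts.SLRow.Psl
import Cfsg.Agent.KFacts.SLRow.OmegaPlus
import Cfsg.Agent.Mrg.Omega.EH3.Kf.Base

section


/-!
# EH3, Lie rows in characteristic 2: the simply laced types (helper134)

Glue of `Orth.nodeOK`, the lists of helper827 and `Tri.not_kills`. `R : Row cs h T n X ρ b a D X0 w`, all `|X x| = 2 ^ m`.

* `core` : `∃ i, Mv ρ n a = {i}`, `X0 = V_{i}ᶜ`, `NodeOK cs h i m`, `1 ≤ m`, not all triples are killed;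
* `end_A` : type `A_l` ==> `l = 5`, `i = 2`, `m = 1`;
* `end_D` : type `D_{l+2}` (`2 ≤ l`) ==> `l = 4`, `i = 4` or `5`, `m = 1`;
* `end_E6`, `end_E8` : impossible; `end_E7` ==> `i = 6`, `m = 1`;
* `fix_other` : `n j` fixes `a` for `j ≠ i`.
-/

set_option autoImplicit false
set_option linter.unusedSectionVars false

namespace Cfsg.Agent.Omega.EH3.Kf.SLEnd

open CoxeterSystem CoxeterMatrix Cfsg.Agent.ChevalleyStructure.CoxeterGeom Cfsg.Agent.Tits.Roots Cfsg.Agent.Tits.Core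
  Cfsg.Agent.Tits.RootComb Cfsg.Agent.Tits.Exchange Cfsg.Agent.Nodes.Reps Cfsg.Agent.Nodes.BNOf
  Cfsg.Agent.Nodes.StabComb Cfsg.Agent.Nodes.Bruhat Cfsg.Agent.Nodes.OppDec Cfsg.Agent.Nodes.LeviDec
  Cfsg.Agent.KFacts.RgdSL Cfsg.Agent.KFacts.RgdPerf
  Cfsg.Agent.Omega.EH3.Kf.Base Cfsg.Agent.Omega.EH3.Kf.Node
open Cfsg.Agent.LieRecognition.BNCox (cA cA_apply)

variable {Y V : Type*} [Group Y] [AddCommGroup V] [Module (ZMod 2) V] {T : Subgroup Y}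
  {ρ : Y →* (V ≃ₗ[ZMod 2] V)} {b : LinearMap.BilinForm (ZMod 2) V} {a : V} {D : Submodule (ZMod 2) V}
  {X0 : Subgroup Y} {w : ℕ} {m : ℕ}

section General

variable {I W : Type*} [Fintype I] [DecidableEq I] [Group W] {M : CoxeterMatrix I} {cs : CoxeterSystem M W}
  {A : I → I → ℤ} {h : IsCartan M A} {n : I → Y} {X : (I → ℤ) → Subgroup Y}

/-- the root system is simply laced -/
theorem sl_of [Finite W] (h4 : ∀ i j, M i j ≠ 4) (h6 : ∀ i j, M i j ≠ 6) : SL cs h :=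
  fun _ _ hx hy => Cfsg.Agent.Nodes.SimplyLaced.cpr_symm cs h h4 h6 hx hy

/-- the two forms of connectedness -/
theorem conn_iff (hc : Cfsg.Agent.KFacts.SLRow.Def.Conn M) :
    ∀ J : Set I, J.Nonempty → J ≠ Set.univ → ∃ a ∈ J, ∃ b, b ∉ J ∧ M a b ≠ 2 := by
  intro J hJ hJ1
  obtain ⟨i, hi, j, hj, hij⟩ := hc J hJ (Set.nonempty_compl.2 hJ1)
  exact ⟨i, hi, j, hj, hij⟩

theorem mem_NotJ_iff {i : I} (hle : ∀ x, IsRoot cs h x → x i ≤ 1) {x : I → ℤ} :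
    x ∈ NotJ cs h ({i}ᶜ : Set I) ↔ IsRoot cs h x ∧ x i = 1 := by
  constructor
  · rintro ⟨hx, h0, k, hk, hk0⟩
    have hki : k = i := not_not.1 hk
    subst hki
    have := hle x hx
    exact ⟨hx, by omega⟩
  · rintro ⟨hx, hx1⟩
    exact ⟨hx, nonneg_of_pos_apply hx (k := i) (by omega), i, not_not.2 rfl, by omega⟩

/-- **Simply laced rows: (C), (D), (E), (F), (G).** -/
theorem core [Finite W] [Finite Y] (R : Row cs h T n X ρ b a D X0 w) (h4 : ∀ i j, M i j ≠ 4) (h6 : ∀ i j, M i j ≠ 6)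
    (hc : Cfsg.Agent.KFacts.SLRow.Def.Conn M) (hm : ∀ x, IsRoot cs h x → Nat.card (X x) = 2 ^ m) :
    ∃ i, Mv ρ n a = {i} ∧ X0 = VJ cs h X {i}ᶜ ∧ NodeOK cs h i m ∧ 1 ≤ m ∧ (m = 1 → ¬ Kills cs h i) := by
  have hs : SL cs h := sl_of h4 h6
  obtain ⟨i, hK, hX0, N⟩ := Orth.nodeOK R hs (conn_iff hc) hm
  refine ⟨i, hK, hX0, N, ?_, ?_⟩
  · by_contra hcon
    have hm0 : m = 0 := by omega
    have h1 := hm _ (isRoot_sr cs h i)
    rw [hm0, pow_zero, Subgroup.card_eq_one] at h1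
    exact X_ne_bot R.rgd (isRoot_sr cs h i) h1
  · intro hm1
    subst hm1
    refine Tri.not_kills R hs (fun x hx => by rw [hm x hx, pow_one]) ?_ ?_
    · rw [hX0]
      unfold VJ
      congr 1
      ext x
      exact mem_NotJ_iff N.le_one
    · intro x hx hx0 g hg
      refine Opp.PJ_fix R ?_
      rw [hK]
      refine LJ_le_PJ (X_le_LJ ⟨hx, fun k hk => ?_⟩ hg)
      have hki : k = i := not_not.1 hk
      rw [hki, hx0]

/-- the other nodes fix `a` -/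
theorem fix_other {i j : I} (hK : Mv ρ n a = {i}) (hj : j ≠ i) : ρ (n j) a = a := by
  by_contra hcon
  have : j ∈ Mv ρ n a := hcon
  rw [hK] at this
  exact hj this

end General

/-- **Type `A_l`.** -/
theorem end_A {l : ℕ} {W : Type*} [Group W] [Finite W] [Finite Y] {cs : CoxeterSystem (cA l) W}
    {A : Fin l → Fin l → ℤ} {h : IsCartan (cA l) A} {n : Fin l → Y} {X : (Fin l → ℤ) → Subgroup Y}
    (R : Row cs h T n X ρ b a D X0 w) (hm : ∀ x, IsRoot cs h x → Nat.card (X x) = 2 ^ m) :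
    l = 5 ∧ m = 1 ∧ ∃ i : Fin l, i.val = 2 ∧ Mv ρ n a = {i} ∧ X0 = VJ cs h X {i}ᶜ := by
  obtain ⟨i, hK, hX0, N, hm1, hG⟩ := core R (fun i j => (KFacts.SLRow.Psl.cA_ne i j).1)
    (fun i j => (KFacts.SLRow.Psl.cA_ne i j).2) KFacts.SLRow.Psl.conn_cA hm
  rcases ListA.list_A hm1 N hG with ⟨hl, hm3⟩ | ⟨hl, hi, hm'⟩
  · exfalso
    subst hl
    have hi0 : i = 0 := Subsingleton.elim _ _
    subst hi0
    have h1 : VJ cs h X ({0}ᶜ : Set (Fin 1)) = X (sr 0) := by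
      apply le_antisymm
      · refine RGD.Sup_le fun x hx => ?_
        obtain ⟨hxr, hx1⟩ := (mem_NotJ_iff N.le_one).1 hx
        have : x = sr 0 := by
          funext k
          have hk : k = 0 := Subsingleton.elim _ _
          rw [hk, hx1, sr_self]
        rw [this]
      · exact RGD.le_Sup ((mem_NotJ_iff N.le_one).2 ⟨isRoot_sr cs h 0, sr_self 0⟩)
    have h2 := R.card_X
    rw [hX0, h1, hm _ (isRoot_sr cs h 0)] at h2
    have h3 := R.six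
    have h4 : m = w - 1 := Nat.pow_right_injective le_rfl h2
    omega
  · exact ⟨hl, hm', i, hi, hK, hX0⟩

/-- **Type `D_{l+2}`.** -/
theorem end_D {l : ℕ} (hl : 2 ≤ l) {W : Type*} [Group W] [Finite W] [Finite Y]
    {cs : CoxeterSystem (Cfsg.Agent.Nodes.TypeD.M l) W}
    {A : Fin (l + 2) → Fin (l + 2) → ℤ} {h : IsCartan (Cfsg.Agent.Nodes.TypeD.M l) A} {n : Fin (l + 2) → Y}
    {X : (Fin (l + 2) → ℤ) → Subgroup Y}
    (R : Row cs h T n X ρ b a D X0 w) (hm : ∀ x, IsRoot cs h x → Nat.card (X x) = 2 ^ m) :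
    l = 4 ∧ m = 1 ∧ ∃ i : Fin (l + 2), (i.val = 4 ∨ i.val = 5) ∧ Mv ρ n a = {i} ∧ X0 = VJ cs h X {i}ᶜ := by
  obtain ⟨i, hK, hX0, N, hm1, hG⟩ := core R (fun i j => (ListD.M_ne i j).1)
    (fun i j => (ListD.M_ne i j).2) (KFacts.SLRow.OmegaPlus.conn_M l (by omega)) hm
  obtain ⟨h1, h2, h3⟩ := ListD.list_D hl hm1 N hG
  exact ⟨h1, h3, i, h2, hK, hX0⟩

open KFacts.SLRow.Def in
theorem conn_E6 : Conn E₆ :=
  conn_of_parent ![2, 1, 1, 0, 1, 2] ![2, 3, 3, 3, 3, 4] (by decide) (by decide) (by decide)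

open KFacts.SLRow.Def in
theorem conn_E7 : Conn E₇ :=
  conn_of_parent ![2, 1, 1, 0, 1, 2, 3] ![2, 3, 3, 3, 3, 4, 5] (by decide) (by decide) (by decide)

open KFacts.SLRow.Def in
theorem conn_E8 : Conn E₈ :=
  conn_of_parent ![2, 1, 1, 0, 1, 2, 3, 4] ![2, 3, 3, 3, 3, 4, 5, 6] (by decide) (by decide) (by decide)

/-- **Type `E_6`.** -/
theorem end_E6 {W : Type*} [Group W] [Finite W] [Finite Y] {cs : CoxeterSystem E₆ W}
    {A : Fin 6 → Fin 6 → ℤ} {h : IsCartan E₆ A} {n : Fin 6 → Y} {X : (Fin 6 → ℤ) → Subgroup Y}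
    (R : Row cs h T n X ρ b a D X0 w) (hm : ∀ x, IsRoot cs h x → Nat.card (X x) = 2 ^ m) : False := by
  obtain ⟨i, -, -, N, -, -⟩ := core R (fun i j => (ListE.ne6 i j).1) (fun i j => (ListE.ne6 i j).2) conn_E6 hm
  exact ListE.list_E6 N

/-- **Type `E_7`.** -/
theorem end_E7 {W : Type*} [Group W] [Finite W] [Finite Y] {cs : CoxeterSystem E₇ W}
    {A : Fin 7 → Fin 7 → ℤ} {h : IsCartan E₇ A} {n : Fin 7 → Y} {X : (Fin 7 → ℤ) → Subgroup Y}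
    (R : Row cs h T n X ρ b a D X0 w) (hm : ∀ x, IsRoot cs h x → Nat.card (X x) = 2 ^ m) :
    m = 1 ∧ Mv ρ n a = {6} ∧ X0 = VJ cs h X {6}ᶜ := by
  obtain ⟨i, hK, hX0, N, hm1, -⟩ := core R (fun i j => (ListE.ne7 i j).1) (fun i j => (ListE.ne7 i j).2) conn_E7 hm
  obtain ⟨rfl, h2⟩ := ListE.list_E7 hm1 N
  exact ⟨h2, hK, hX0⟩

/-- **Type `E_8`.** -/
theorem end_E8 {W : Type*} [Group W] [Finite W] [Finite Y] {cs : CoxeterSystem E₈ W}
    {A : Fin 8 → Fin 8 → ℤ} {h : IsCartan E₈ A} {n : Fin 8 → Y} {X : (Fin 8 → ℤ) → Subgroup Y}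
    (R : Row cs h T n X ρ b a D X0 w) (hm : ∀ x, IsRoot cs h x → Nat.card (X x) = 2 ^ m) : False := by
  obtain ⟨i, -, -, N, -, -⟩ := core R (fun i j => (ListE.ne8 i j).1) (fun i j => (ListE.ne8 i j).2) conn_E8 hm
  exact ListE.list_E8 N

end Cfsg.Agent.Omega.EH3.Kf.SLEnd

end

section


/-!
# EH3, Lie rows: the simply laced rows in the form of `Goal` (helper227)

From `SLEnd` (helper134): a `Row` of type `A_l`, `D_l`, `E_7` with `|X_x| = 2^m` gives `Good M q i ∧ EndAt ..`.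
-/

set_option autoImplicit false

namespace Cfsg.Agent.Omega.EH3.Kf.SLRow

open CoxeterSystem Cfsg.Agent.ChevalleyStructure.CoxeterGeom Cfsg.Agent.Tits.Roots Cfsg.Agent.Tits.Core
  Cfsg.Agent.Tits.RootComb Cfsg.Agent.Nodes.Comb Cfsg.Agent.Nodes.Reps Cfsg.Agent.Nodes.BNOf
  Cfsg.Agent.Nodes.StabComb Cfsg.Agent.Nodes.Bruhat Cfsg.Agent.Nodes.LeviDec Cfsg.Agent.Nodes.RGDLib
  Cfsg.Agent.Omega.EH3.Kf.Base Cfsg.Agent.Omega.EH3.Kf.Out Cfsg.Agent.Omega.EH3.Kf.Odd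
  Cfsg.Agent.Omega.EH3.Kf.Sym Cfsg.Agent.Omega.EH3.Kf.Goal Cfsg.Agent.Omega.EH3.Kf.SLEnd
open Cfsg.Agent.LieRecognition.BNCox (cA)

variable {I W Y V : Type*} [Fintype I] [DecidableEq I] [Group W] [Group Y] [AddCommGroup V]
    [Module (ZMod 2) V] {b : LinearMap.BilinForm (ZMod 2) V} {T : Subgroup Y}
    {ρ : Y →* (V ≃ₗ[ZMod 2] V)} {a : V} {D : Submodule (ZMod 2) V} {X0 : Subgroup Y} {w m : ℕ}

/-- the end data from the moved node -/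
theorem endAt_of {M : CoxeterMatrix I} {cs : CoxeterSystem M W} {A : I → I → ℤ} {h : IsCartan M A}
    {n : I → Y} {X : (I → ℤ) → Subgroup Y} {i : I} (hK : Mv ρ n a = {i}) (hX : X0 = VJ cs h X {i}ᶜ)
    (hm : ∀ x, IsRoot cs h x → Nat.card (X x) = 2 ^ 1) : EndAt cs h n X ρ a X0 (fun _ => 2) i where
  eq := hX
  fix _ hj := fix_other hK hj
  card j := by rw [hm _ (isRoot_sr cs h j), pow_one]

/-- **Type `A_l`.** -/
theorem row_A {l : ℕ} {W : Type*} [Group W] [Finite W] [Finite Y] {cs : CoxeterSystem (cA l) W}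
    {A : Fin l → Fin l → ℤ} {h : IsCartan (cA l) A} {n : Fin l → Y} {X : (Fin l → ℤ) → Subgroup Y}
    (R : Row cs h T n X ρ b a D X0 w) (hm : ∀ x, IsRoot cs h x → Nat.card (X x) = 2 ^ m) :
    ∃ (q : Fin l → ℕ) (i : Fin l), Good (cA l) q i ∧ EndAt cs h n X ρ a X0 q i := by
  obtain ⟨rfl, rfl, i, hi, hK, hX⟩ := end_A R hm
  obtain rfl : i = 2 := Fin.ext hi
  exact ⟨_, _, Good.A5, endAt_of hK hX hm⟩

/-- **Type `D_l`.** -/
theorem row_D {l : ℕ} (hl : 2 ≤ l) {W : Type*} [Group W] [Finite W] [Finite Y]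
    {cs : CoxeterSystem (Cfsg.Agent.Nodes.TypeD.M l) W}
    {A : Fin (l + 2) → Fin (l + 2) → ℤ} {h : IsCartan (Cfsg.Agent.Nodes.TypeD.M l) A} {n : Fin (l + 2) → Y}
    {X : (Fin (l + 2) → ℤ) → Subgroup Y}
    (R : Row cs h T n X ρ b a D X0 w) (hm : ∀ x, IsRoot cs h x → Nat.card (X x) = 2 ^ m) :
    ∃ (q : Fin (l + 2) → ℕ) (i : Fin (l + 2)),
      Good (Cfsg.Agent.Nodes.TypeD.M l) q i ∧ EndAt cs h n X ρ a X0 q i := by
  obtain ⟨rfl, rfl, i, hi, hK, hX⟩ := end_D hl R hm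
  rcases hi with hi | hi
  · obtain rfl : i = 4 := Fin.ext hi
    exact ⟨_, _, Good.D6, endAt_of hK hX hm⟩
  · obtain rfl : i = 5 := Fin.ext hi
    exact ⟨_, _, Good.D6', endAt_of hK hX hm⟩

/-- **Type `E_6`.** -/
theorem row_E6 {W : Type*} [Group W] [Finite W] [Finite Y] {cs : CoxeterSystem CoxeterMatrix.E₆ W}
    {A : Fin 6 → Fin 6 → ℤ} {h : IsCartan CoxeterMatrix.E₆ A} {n : Fin 6 → Y} {X : (Fin 6 → ℤ) → Subgroup Y}
    (R : Row cs h T n X ρ b a D X0 w) (hm : ∀ x, IsRoot cs h x → Nat.card (X x) = 2 ^ m) :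
    ∃ (q : Fin 6 → ℕ) (i : Fin 6), Good CoxeterMatrix.E₆ q i ∧ EndAt cs h n X ρ a X0 q i :=
  (end_E6 R hm).elim

/-- **Type `E_7`.** -/
theorem row_E7 {W : Type*} [Group W] [Finite W] [Finite Y] {cs : CoxeterSystem CoxeterMatrix.E₇ W}
    {A : Fin 7 → Fin 7 → ℤ} {h : IsCartan CoxeterMatrix.E₇ A} {n : Fin 7 → Y} {X : (Fin 7 → ℤ) → Subgroup Y}
    (R : Row cs h T n X ρ b a D X0 w) (hm : ∀ x, IsRoot cs h x → Nat.card (X x) = 2 ^ m) :
    ∃ (q : Fin 7 → ℕ) (i : Fin 7), Good CoxeterMatrix.E₇ q i ∧ EndAt cs h n X ρ a X0 q i := by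
  obtain ⟨rfl, hK, hX⟩ := end_E7 R hm
  exact ⟨_, _, Good.E7, endAt_of hK hX hm⟩

/-- **Type `E_8`.** -/
theorem row_E8 {W : Type*} [Group W] [Finite W] [Finite Y] {cs : CoxeterSystem CoxeterMatrix.E₈ W}
    {A : Fin 8 → Fin 8 → ℤ} {h : IsCartan CoxeterMatrix.E₈ A} {n : Fin 8 → Y} {X : (Fin 8 → ℤ) → Subgroup Y}
    (R : Row cs h T n X ρ b a D X0 w) (hm : ∀ x, IsRoot cs h x → Nat.card (X x) = 2 ^ m) :
    ∃ (q : Fin 8 → ℕ) (i : Fin 8), Good CoxeterMatrix.E₈ q i ∧ EndAt cs h n X ρ a X0 q i :=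
  (end_E8 R hm).elim

end Cfsg.Agent.Omega.EH3.Kf.SLRow

end
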