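import Mathlib
import Cfsg.Agent.Mrg.Omega.EH3.Kf.SLEnd
import Cfsg.Agent.Mrg.Omega.EH3.Kf.Base
import Cfsg.Agent.KFacts.SLRow.Row


/-!
# EH3, Lie rows: the simply laced families (helper227)

`KfRow K` for `PSL_n(q)` (`n ≥ 2`), `PΩ⁺_{2n}(q)` (`n ≥ 4`), `E₆(q)`, `E₇(q)`, `E₈(q)`, `q` even.
-/

set_option autoImplicit false
set_option linter.unusedSectionVars false

namespace Cfsg.Agent.Omega.EH3.Kf.SLFam

open Cfsg
open CoxeterSystem Cfsg.Agent.ChevalleyStructure.CoxeterGeom Cfsg.Agent.Tits.Roots Cfsg.Agent.Tits.Core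
  Cfsg.Agent.Tits.RootComb Cfsg.Agent.Nodes.Comb Cfsg.Agent.Nodes.Reps Cfsg.Agent.Nodes.BNOf
  Cfsg.Agent.Nodes.StabComb Cfsg.Agent.Nodes.Bruhat Cfsg.Agent.Nodes.LeviDec Cfsg.Agent.Nodes.RGDLib
  Cfsg.Agent.Omega.EH3.Kf.Base Cfsg.Agent.Omega.EH3.Kf.Goal Cfsg.Agent.Omega.EH3.Kf.FamRow
  Cfsg.Agent.KFacts.ChevTwo Cfsg.Agent.KFacts.SLRow.Row Cfsg.Agent.KFacts.RgdCent
open Cfsg.Agent.LieRecognition.BNCox (cA)

universe u v w

section general

variable {K : Type v} [Group K] {F : Type*} [Field F] {l : ℕ} {M : CoxeterMatrix (Fin l)}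
  {A : Fin l → Fin l → ℤ} {h : IsCartan M A} {T : Subgroup K} {n : Fin l → K} {X : (Fin l → ℤ) → Subgroup K}
  {e : (Fin l → ℤ) → F → K}

/-- the bundle from coordinates -/
theorem bd_of_sys (hW : Finite M.Group) (R : RGD M.toCoxeterSystem h 2 T n X) (S : Sys R e)
    (hG : RGD.Sup X {x | IsRoot M.toCoxeterSystem h x} = ⊤) (hN : NoCent M.toCoxeterSystem h T X) : Bd M h T n X where
  fin := hW
  rgd := R
  gen := hG
  ab s hs t ht := by
    obtain ⟨χ, hχ⟩ := S.chi s hs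
    obtain ⟨ψ, hψ⟩ := S.chi t ht
    have h1 := hN ((t * s)⁻¹ * (s * t)) (mul_mem (inv_mem (mul_mem ht hs)) (mul_mem hs ht)) (by
      intro b hb v hv
      obtain ⟨u, rfl⟩ := (S.mem_X b hb v).1 hv
      have e1 : (s * t) * e b u * (s * t)⁻¹ = (t * s) * e b u * (t * s)⁻¹ := by
        have l1 : (s * t) * e b u * (s * t)⁻¹ = s * (t * e b u * t⁻¹) * s⁻¹ := by group
        have l2 : (t * s) * e b u * (t * s)⁻¹ = t * (s * e b u * s⁻¹) * t⁻¹ := by group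
        rw [l1, l2, hψ b hb, hχ b hb, hχ b hb, hψ b hb, mul_left_comm]
      have e2 : (t * s)⁻¹ * ((s * t) * e b u * (s * t)⁻¹) * (t * s) = e b u := by rw [e1]; group
      calc (t * s)⁻¹ * (s * t) * e b u = ((t * s)⁻¹ * ((s * t) * e b u * (s * t)⁻¹) * (t * s)) *
            ((t * s)⁻¹ * (s * t)) := by group
        _ = e b u * ((t * s)⁻¹ * (s * t)) := by rw [e2])
    rw [inv_mul_eq_one] at h1
    exact h1.symm
  el i u hu := by
    have hx := isRoot_sr M.toCoxeterSystem h i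
    obtain ⟨t, rfl⟩ := (S.mem_X _ hx u).1 hu
    have h0 : e (sr i) 0 = 1 := by
      have := S.data.add _ hx 0 0
      rw [add_zero] at this
      exact mul_eq_left.1 this.symm
    rw [← S.data.add _ hx, S.data.two, h0]

end general

/-- the row ends of the simply laced types -/
theorem rowEnd_A {K : Type v} [Group K] [Finite K] {l m : ℕ} (hW : Finite (cA l).Group) {A : Fin l → Fin l → ℤ}
    {h : IsCartan (cA l) A} {T : Subgroup K} {n : Fin l → K} {X : (Fin l → ℤ) → Subgroup K}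
    (hm : ∀ x, IsRoot (cA l).toCoxeterSystem h x → Nat.card (X x) = 2 ^ m) : RowEnd.{u} (cA l) h T n X :=
  fun _ _ _ _ _ _ _ _ _ R => SLRow.row_A R hm

theorem rowEnd_D {K : Type v} [Group K] [Finite K] {l m : ℕ} (hl : 2 ≤ l)
    (hW : Finite (Cfsg.Agent.Nodes.TypeD.M l).Group) {A : Fin (l + 2) → Fin (l + 2) → ℤ}
    {h : IsCartan (Cfsg.Agent.Nodes.TypeD.M l) A} {T : Subgroup K} {n : Fin (l + 2) → K}
    {X : (Fin (l + 2) → ℤ) → Subgroup K}
    (hm : ∀ x, IsRoot (Cfsg.Agent.Nodes.TypeD.M l).toCoxeterSystem h x → Nat.card (X x) = 2 ^ m) :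
    RowEnd.{u} (Cfsg.Agent.Nodes.TypeD.M l) h T n X :=
  fun _ _ _ _ _ _ _ _ _ R => SLRow.row_D hl R hm

theorem rowEnd_E6 {K : Type v} [Group K] [Finite K] {m : ℕ} (hW : Finite CoxeterMatrix.E₆.Group)
    {A : Fin 6 → Fin 6 → ℤ} {h : IsCartan CoxeterMatrix.E₆ A} {T : Subgroup K} {n : Fin 6 → K}
    {X : (Fin 6 → ℤ) → Subgroup K}
    (hm : ∀ x, IsRoot CoxeterMatrix.E₆.toCoxeterSystem h x → Nat.card (X x) = 2 ^ m) :
    RowEnd.{u} CoxeterMatrix.E₆ h T n X :=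
  fun _ _ _ _ _ _ _ _ _ R => SLRow.row_E6 R hm

theorem rowEnd_E7 {K : Type v} [Group K] [Finite K] {m : ℕ} (hW : Finite CoxeterMatrix.E₇.Group)
    {A : Fin 7 → Fin 7 → ℤ} {h : IsCartan CoxeterMatrix.E₇ A} {T : Subgroup K} {n : Fin 7 → K}
    {X : (Fin 7 → ℤ) → Subgroup K}
    (hm : ∀ x, IsRoot CoxeterMatrix.E₇.toCoxeterSystem h x → Nat.card (X x) = 2 ^ m) :
    RowEnd.{u} CoxeterMatrix.E₇ h T n X :=
  fun _ _ _ _ _ _ _ _ _ R => SLRow.row_E7 R hm

theorem rowEnd_E8 {K : Type v} [Group K] [Finite K] {m : ℕ} (hW : Finite CoxeterMatrix.E₈.Group)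
    {A : Fin 8 → Fin 8 → ℤ} {h : IsCartan CoxeterMatrix.E₈ A} {T : Subgroup K} {n : Fin 8 → K}
    {X : (Fin 8 → ℤ) → Subgroup K}
    (hm : ∀ x, IsRoot CoxeterMatrix.E₈.toCoxeterSystem h x → Nat.card (X x) = 2 ^ m) :
    RowEnd.{u} CoxeterMatrix.E₈ h T n X :=
  fun _ _ _ _ _ _ _ _ _ R => SLRow.row_E8 R hm

/-! ### The groups -/

theorem card_two_pow (F : Type) [Field F] [Finite F] [CharP F 2] : ∃ m : ℕ, Nat.card F = 2 ^ m := by
  have : Fintype F := Fintype.ofFinite F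
  obtain ⟨n, -, hn⟩ := FiniteField.card F 2
  exact ⟨n, by rw [Nat.card_eq_fintype_card, hn]⟩

theorem isSLC_row {q l : ℕ} {M : CoxeterMatrix (Fin l)} {K : Type v} [Group K] (hK : IsSLC q M K) {m : ℕ}
    (hq : q = 2 ^ m)
    (hend : ∀ {A : Fin l → Fin l → ℤ} {h : IsCartan M A} {T : Subgroup K} {n : Fin l → K}
      {X : (Fin l → ℤ) → Subgroup K}, Finite M.Group →
      (∀ x, IsRoot M.toCoxeterSystem h x → Nat.card (X x) = 2 ^ m) → RowEnd.{u} M h T n X) : KfRow.{u} K := by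
  obtain ⟨A, h, T, n, X, F, _, _, _, e, hW, -, -, D, S⟩ := hK
  exact ⟨l, M, A, h, T, n, X, bd_of_sys hW D.rgd S D.gen D.cent, hend hW fun x hx => by rw [D.card x hx, hq]⟩

theorem kfRow_PSL {n : ℕ} (F : Type) [Field F] [Finite F] [CharP F 2] :
    KfRow.{u} (Matrix.ProjectiveSpecialLinearGroup (Fin (n + 1)) F) := by
  have : Fact (Nat.Prime 2) := ⟨Nat.prime_two⟩
  have h2 : ∀ t : F, t + t = 0 := CharTwo.add_self_eq_zero
  have hW : Finite (cA n).Group := Cfsg.Agent.Nodes.RootsA.finite_W (cA n).toCoxeterSystem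
    (Cfsg.Agent.Nodes.RootsA.isCartan n)
  obtain ⟨m, hm⟩ := card_two_pow F
  have : Finite (Matrix.ProjectiveSpecialLinearGroup (Fin (n + 1)) F) :=
    Finite.of_surjective _ (QuotientGroup.mk'_surjective _)
  refine ⟨_, _, _, Cfsg.Agent.Nodes.RootsA.isCartan n, _, _, _,
    bd_of_sys hW _ (KFacts.SLRow.SysA.sys_PSL (F := F) (cA n).toCoxeterSystem (Cfsg.Agent.Nodes.RootsA.isCartan n))
      (Cfsg.Agent.Nodes.RGDTypeA.G1_psl_eq_top _ _) (KFacts.SLRow.Psl.noCent h2 _ _),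
    rowEnd_A hW (m := m) fun x hx => by rw [← hm]; exact KFacts.SLRow.Psl.card_X h2 _ _ hx⟩

theorem kfRow_OPlus {n : ℕ} (hn : 2 ≤ n) (F : Type) [Field F] [Finite F] [CharP F 2] :
    KfRow.{u} (POmega F (quadFormPlus (n + 2) F)) := by
  obtain ⟨m, hm⟩ := card_two_pow F
  have : Finite (POmega F (quadFormPlus (n + 2) F)) := inferInstance
  exact isSLC_row (isSLC_OPlus hn F) hm fun hW hm => rowEnd_D hn hW hm

section Chev

open Cfsg.Lie

theorem kfRow_E6 (F : Type) [Field F] [Finite F] [CharP F 2] : KfRow.{u} (chevE6.group F) := by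
  obtain ⟨m, hm⟩ := card_two_pow F
  have : Finite (chevE6.group F) := inferInstance
  exact isSLC_row (isSLC_E6 F) hm fun hW hm => rowEnd_E6 hW hm

theorem kfRow_E7 (F : Type) [Field F] [Finite F] [CharP F 2] : KfRow.{u} (chevE7.group F) := by
  obtain ⟨m, hm⟩ := card_two_pow F
  have : Finite (chevE7.group F) := inferInstance
  exact isSLC_row (isSLC_E7 F) hm fun hW hm => rowEnd_E7 hW hm

theorem kfRow_E8 (F : Type) [Field F] [Finite F] [CharP F 2] : KfRow.{u} (chevE8.group F) := by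
  obtain ⟨m, hm⟩ := card_two_pow F
  have : Finite (chevE8.group F) := inferInstance
  exact isSLC_row (isSLC_E8 F) hm fun hW hm => rowEnd_E8 hW hm

end Chev

end Cfsg.Agent.Omega.EH3.Kf.SLFam
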